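import Cfsg.Agent.H262.Rx.RedSL
import Mathlib
import Cfsg.Agent.Prune
set_option linter.all false

section
prune_inst 0x7ffffff8bbbff5dfdfff7e7fffdafdfc3bd69fffa4dff943ffe06bfffbff339209e5f7ad0de0f8fe4f16c03410a8f843f97eefffe86bdc5ff3fd5ff45ffbee0fb5e7bd0911d488340f300ff603f0778e7f3fffffffffdfffffffffffffffffbefffdffffffff

-- part: H926/RG/CoreSum_mg
section
prune_inst 0x1000000000000000000000000000000000000000000000000000000000000000000000000000000000000000000000000000000000000000000000000000000000000000000000000000000000000000000000000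
set_option linter.all false
open scoped Cfsg.Agent.FastGrp

-- part: H926/RG/CoreLin
section
/-!
# S5714, core estimate: linear algebra and counting preliminaries

* `deg_le_of_ann` : the degree of an annihilator is at most the dimension;
* `Dv.deg_le`, `dv2_deg_le`, `Rep2.deg_le` : the degrees of factors of the characteristic polynomial;
* `cnt` : the number of elements with a property, as a real number, with its union bounds.
-/

set_option autoImplicit false

namespace Cfsg.Agent.H926.RG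

open Polynomial Module Cfsg.Agent.H141.Rg

section lin

variable {K V : Type*} [Field K] [AddCommGroup V] [Module K V]

theorem aeval_mul_ap (y : V →ₗ[K] V) (p r : K[X]) (v : V) : aeval y (p * r) v = aeval y p (aeval y r v) := by
  rw [map_mul]; rfl

theorem aeval_add_ap (y : V →ₗ[K] V) (p r : K[X]) (v : V) : aeval y (p + r) v = aeval y p v + aeval y r v := by
  rw [map_add]; rfl

/-- the degree of an annihilator is at most the dimension -/
theorem deg_le_of_ann [FiniteDimensional K V] (y : V →ₗ[K] V) (v : V) {g : K[X]}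
    (h : ∀ p : K[X], aeval y p v = 0 → g ∣ p) : g.natDegree ≤ finrank K V := by
  let φ : degreeLT K g.natDegree →ₗ[K] V :=
    { toFun := fun p => aeval y (p : K[X]) v
      map_add' := fun p r => aeval_add_ap y _ _ v
      map_smul' := fun a p => by simp }
  have hinj : Function.Injective φ := by
    rw [← LinearMap.ker_eq_bot, LinearMap.ker_eq_bot']
    intro p hp
    have hd : g ∣ (p : K[X]) := h _ hp
    have hlt : (p : K[X]).degree < g.natDegree := mem_degreeLT.1 p.2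
    by_contra hne
    have hne' : (p : K[X]) ≠ 0 := fun h0 => hne (Subtype.ext h0)
    have h1 := natDegree_le_of_dvd hd hne'
    have h2 : (p : K[X]).natDegree < g.natDegree := (natDegree_lt_iff_degree_lt hne').2 hlt
    omega
  have := LinearMap.finrank_le_finrank_of_injective hinj
  have h3 : finrank K (degreeLT K g.natDegree) = g.natDegree := by
    rw [(degreeLTEquiv K g.natDegree).finrank_eq]; simp only [_root_.Module.finrank_fintype_fun_eq_card, _root_.Fintype.card_fin]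
  omega

theorem dvd_of_ap {y : V →ₗ[K] V} {f : K[X]} (hf : Irreducible f) {v : V} (hv : v ≠ 0) (h : aeval y f v = 0)
    {p : K[X]} (hp : aeval y p v = 0) : f ∣ p := by
  by_contra hd
  obtain ⟨a, b, hab⟩ := (hf.coprime_iff_not_dvd.2 hd : IsCoprime f p)
  apply hv
  have : aeval y (a * f + b * p) v = v := by rw [hab]; simp only [_root_.map_one, _root_.Module.End.one_apply]
  rw [aeval_add_ap, aeval_mul_ap, aeval_mul_ap, h, hp, map_zero, map_zero, add_zero] at this
  exact this.symm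

theorem Dv.deg_le [FiniteDimensional K V] {y : V →ₗ[K] V} {f : K[X]} (hf : Irreducible f) (h : Dv y f) :
    f.natDegree ≤ finrank K V := by
  obtain ⟨v, hv, hy⟩ := h
  exact deg_le_of_ann y v fun p hp => dvd_of_ap hf hv hy hp

theorem cop_of_irr {f g : K[X]} (hf : Irr' f) (hg : Irr' g) (hne : f ≠ g) : IsCoprime f g := by
  refine hf.2.1.coprime_iff_not_dvd.2 fun hd => hne ?_
  exact eq_of_monic_of_associated hf.1 hg.1 (hf.2.1.associated_of_dvd hg.2.1 hd)

theorem dv2_deg_le [FiniteDimensional K V] {y : V →ₗ[K] V} {f g : K[X]} (hf : Irr' f) (hg : Irr' g) (hne : f ≠ g)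
    (h : Dv y f) (h' : Dv y g) : f.natDegree + g.natDegree ≤ finrank K V := by
  obtain ⟨v, hv, hy⟩ := h
  obtain ⟨w, hw, hy'⟩ := h'
  have hc := cop_of_irr hf hg hne
  have key : ∀ p : K[X], aeval y p (v + w) = 0 → f * g ∣ p := by
    intro p hp
    refine hc.mul_dvd ?_ ?_
    · have h1 : aeval y (g * p) v = 0 := by
        have h2 : aeval y (g * p) (v + w) = 0 := by rw [aeval_mul_ap, hp, map_zero]
        have h3 : aeval y (g * p) w = 0 := by rw [mul_comm, aeval_mul_ap, hy', map_zero]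
        rwa [map_add, h3, add_zero] at h2
      exact hc.dvd_of_dvd_mul_left (dvd_of_ap hf.2.1 hv hy h1)
    · have h1 : aeval y (f * p) w = 0 := by
        have h2 : aeval y (f * p) (v + w) = 0 := by rw [aeval_mul_ap, hp, map_zero]
        have h3 : aeval y (f * p) v = 0 := by rw [mul_comm, aeval_mul_ap, hy, map_zero]
        rwa [map_add, h3, zero_add] at h2
      exact hc.symm.dvd_of_dvd_mul_left (dvd_of_ap hg.2.1 hw hy' h1)
  have := deg_le_of_ann y (v + w) key
  rwa [natDegree_mul hf.1.ne_zero hg.1.ne_zero] at this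

theorem Rep2.deg_le [FiniteDimensional K V] {y : V →ₗ[K] V} {f : K[X]} (hf : Irr' f) (h : Rep2 y f) :
    2 * f.natDegree ≤ finrank K V := by
  rcases h with h | ⟨v, h2, h1⟩
  · exact h.trans (Submodule.finrank_le _)
  · have key : ∀ p : K[X], aeval y p v = 0 → f ^ 2 ∣ p := by
      intro p hp
      have h3 : aeval y f (aeval y f v) = 0 := by rw [← aeval_mul_ap, ← sq, h2]
      have h4 : aeval y p (aeval y f v) = 0 := by rw [← aeval_mul_ap, mul_comm, aeval_mul_ap, hp, map_zero]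
      obtain ⟨r, rfl⟩ := dvd_of_ap hf.2.1 h1 h3 h4
      have h5 : aeval y r (aeval y f v) = 0 := by rw [← aeval_mul_ap, mul_comm, hp]
      obtain ⟨t, rfl⟩ := dvd_of_ap hf.2.1 h1 h3 h5
      exact ⟨t, by ring⟩
    have := deg_le_of_ann y v key
    rwa [natDegree_pow] at this

end lin

section cnt

variable {X : Type*} [Finite X]

/-- the number of elements with a property -/
noncomputable def cnt (P : X → Prop) : ℝ := (Nat.card {x : X // P x} : ℝ)

theorem cnt_mono {P R : X → Prop} (h : ∀ x, P x → R x) : cnt P ≤ cnt R := by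
  refine Nat.cast_le.2 (Nat.card_le_card_of_injective (fun x : {x : X // P x} => (⟨x.1, h _ x.2⟩ : {x : X // R x})) ?_)
  intro a b hab
  exact Subtype.ext (congrArg (fun z : {x : X // R x} => z.1) hab)

omit [Finite X] in
theorem cnt_or (P R : X → Prop) : cnt (fun x => P x ∨ R x) ≤ cnt P + cnt R := by
  have h : ({x | P x ∨ R x} : Set X).ncard ≤ ({x | P x} : Set X).ncard + ({x | R x} : Set X).ncard :=
    Set.ncard_union_le {x | P x} {x | R x}
  have h' : Nat.card {x : X // P x ∨ R x} ≤ Nat.card {x : X // P x} + Nat.card {x : X // R x} := h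
  unfold cnt
  exact_mod_cast h'

omit [Finite X] in
theorem cnt_false {P : X → Prop} (h : ∀ x, ¬ P x) : cnt P = 0 := by
  have : IsEmpty {x : X // P x} := ⟨fun x => h x.1 x.2⟩
  simp [cnt]

theorem cnt_bex {ι : Type*} (T : Finset ι) (P : ι → X → Prop) :
    cnt (fun x => ∃ i ∈ T, P i x) ≤ ∑ i ∈ T, cnt (P i) := by
  classical
  induction T using Finset.induction_on with
  | empty => rw [cnt_false (by simp only [_root_.Finset.notMem_empty, _root_.false_and, _root_.exists_false, _root_.not_false_eq_true, _root_.implies_true])]; simp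
  | insert i T hi ih =>
    rw [Finset.sum_insert hi]
    refine le_trans (cnt_mono fun x hx => ?_) ((cnt_or (P i) (fun x => ∃ i ∈ T, P i x)).trans (by gcongr))
    obtain ⟨j, hj, hx⟩ := hx
    rcases Finset.mem_insert.1 hj with rfl | hj
    · exact Or.inl hx
    · exact Or.inr ⟨j, hj, hx⟩

theorem cnt_bex_le {ι : Type*} (T : Finset ι) (P : ι → X → Prop) {B : ℝ} (h : ∀ i ∈ T, cnt (P i) ≤ B) :
    cnt (fun x => ∃ i ∈ T, P i x) ≤ T.card * B := by
  refine (cnt_bex T P).trans ((Finset.sum_le_sum h).trans ?_)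
  rw [Finset.sum_const, nsmul_eq_mul]

end cnt

section fin

variable {K : Type*} [Field K] [Finite K]

theorem finite_natDegree_le (d : ℕ) : ({f : K[X] | f.natDegree ≤ d} : Set K[X]).Finite := by
  refine Set.Finite.of_injOn (f := fun f : K[X] => (fun i : Fin (d + 1) => f.coeff i)) (t := Set.univ)
    (fun _ _ => Set.mem_univ _) ?_ Set.finite_univ
  intro f hf g hg h
  ext i
  rcases Nat.lt_or_ge i (d + 1) with hi | hi
  · exact congrFun h ⟨i, hi⟩
  · rw [coeff_eq_zero_of_natDegree_lt (lt_of_le_of_lt hf hi), coeff_eq_zero_of_natDegree_lt (lt_of_le_of_lt hg hi)]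

/-- a sum over a finite set of polynomials bounds a union -/
theorem cnt_finsum {X : Type*} [Finite X] {ι : Type*} {T : Set ι} (hT : T.Finite) (P : ι → X → Prop) (r : ι → ℝ) (m B : ℝ)
    (hr : ∀ i ∈ T, cnt (P i) ≤ m * r i) (hm : 0 ≤ m) (hB : (∑ᶠ i ∈ T, r i) ≤ B) :
    cnt (fun x => ∃ i ∈ T, P i x) ≤ m * B := by
  have h1 : (∑ᶠ i ∈ T, r i) = ∑ i ∈ hT.toFinset, r i := finsum_mem_eq_finite_toFinset_sum _ hT
  calc cnt (fun x => ∃ i ∈ T, P i x) ≤ cnt (fun x => ∃ i ∈ hT.toFinset, P i x) :=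
        cnt_mono fun x ⟨i, hi, hx⟩ => ⟨i, hT.mem_toFinset.2 hi, hx⟩
    _ ≤ ∑ i ∈ hT.toFinset, cnt (P i) := cnt_bex _ _
    _ ≤ ∑ i ∈ hT.toFinset, m * r i := Finset.sum_le_sum fun i hi => hr i (hT.mem_toFinset.1 hi)
    _ = m * ∑ i ∈ hT.toFinset, r i := by rw [Finset.mul_sum]
    _ ≤ m * B := by rw [← h1]; exact mul_le_mul_of_nonneg_left hB hm

end fin

/-! ### roots of unity -/

section cyc

variable {K : Type*} [Field K]

/-- the irreducible polynomials with a root of small order -/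
def Cyc (k : ℕ) (f : K[X]) : Prop :=
  ∃ m, 1 ≤ m ∧ m < k ∧ ∃ a : AlgebraicClosure K, aeval a f = 0 ∧ a ^ (2 * m) = 1

theorem B2.symm {k : ℕ} {f h : K[X]} (hh : B2 k f h) : B2 k h f := by
  obtain ⟨m, h1, h2, a, b, ha, hb, hab⟩ := hh
  exact ⟨m, h1, h2, b, a, hb, ha, hab.symm⟩

theorem cyc_of_b2 {k : ℕ} {f h s : K[X]} (hs : s = 1 ∨ s = X ^ 2 - 1) (hd : h ∣ s) (hb2 : B2 k f h) : Cyc k f := by
  obtain ⟨m, h1, h2, a, b, ha, hb, hab⟩ := hb2
  refine ⟨m, h1, h2, a, ha, ?_⟩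
  have h3 : aeval b s = 0 := by
    obtain ⟨t, rfl⟩ := hd
    rw [map_mul, hb, zero_mul]
  have h4 : b ^ 2 = 1 := by
    rcases hs with rfl | rfl
    · simp at h3
    · have : b ^ 2 - 1 = 0 := by simpa only [_root_.Polynomial.aeval_sub, _root_.map_pow, _root_.Polynomial.aeval_X, _root_.map_one] using h3
      exact sub_eq_zero.1 this
  calc a ^ (2 * m) = (a ^ m) ^ 2 := by rw [← pow_mul, mul_comm]
    _ = (b ^ m) ^ 2 := by rw [hab]
    _ = (b ^ 2) ^ m := by rw [← pow_mul, ← pow_mul, mul_comm]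
    _ = 1 := by rw [h4, one_pow]

/-- there are few irreducible polynomials with a root of small order -/
theorem exists_cyc (k : ℕ) : ∃ T : Finset K[X], T.card ≤ k ^ 2 ∧ ∀ f, Irr' f → Cyc k f → f ∈ T := by
  classical
  let U : Finset (AlgebraicClosure K) := (Finset.range k).biUnion fun m => (nthRoots (2 * m) (1 : AlgebraicClosure K)).toFinset
  refine ⟨U.image (minpoly K), ?_, ?_⟩
  · refine Finset.card_image_le.trans (Finset.card_biUnion_le.trans ?_)
    calc ∑ m ∈ Finset.range k, ((nthRoots (2 * m) (1 : AlgebraicClosure K)).toFinset).card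
        ≤ ∑ m ∈ Finset.range k, 2 * m :=
          Finset.sum_le_sum fun m _ => (Multiset.toFinset_card_le _).trans (card_nthRoots _ _)
      _ = k * (k - 1) := by
          rw [← Finset.mul_sum, mul_comm, Finset.sum_range_id_mul_two]
      _ ≤ k ^ 2 := by rw [sq]; exact Nat.mul_le_mul_left _ (Nat.sub_le _ _)
  · rintro f hf ⟨m, h1, h2, a, ha, hm⟩
    refine Finset.mem_image.2 ⟨a, ?_, ?_⟩
    · refine Finset.mem_biUnion.2 ⟨m, Finset.mem_range.2 h2, ?_⟩
      rw [Multiset.mem_toFinset, mem_nthRoots (by omega)]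
      exact hm
    · exact (minpoly.eq_of_irreducible_of_monic hf.2.1 ha hf.1).symm

end cyc

end Cfsg.Agent.H926.RG
end

-- part: H926/RG/CoreOf
section
/-!
# S5714, core estimate: almost all elements are good, from the occurrence bounds and the sums over irreducible polynomials
-/

set_option autoImplicit false

namespace Cfsg.Agent.H926.RG

open Polynomial Module Cfsg.Agent.H141.Rg

/-- `dv_le` -/
def DvLe : Prop := ∀ (K V : Type) [Field K] [Finite K] [AddCommGroup V] [Module K V] [Finite V] (X : Type) [Group X]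
    [Finite X] (σ : K →+* K) (τ : X →* (V →ₗ[K] V)) (s : K[X]) (c : ℕ → ℝ), EL σ τ s c → ∀ f : K[X], Irr' f →
    IsCoprime f s → (Nat.card {x : X // Dv (τ x) f} : ℝ) * ((Nat.card K : ℝ) ^ f.natDegree - 1) ≤
      c f.natDegree * Real.sqrt ((Nat.card K : ℝ) ^ ed σ f) * Nat.card X

/-- `dv2_le` -/
def Dv2Le : Prop := ∀ (K V : Type) [Field K] [Finite K] [AddCommGroup V] [Module K V] [Finite V] (X : Type) [Group X]
    [Finite X] (σ : K →+* K) (τ : X →* (V →ₗ[K] V)) (s : K[X]) (c : ℕ → ℝ), EL σ τ s c → ∀ f g : K[X], Irr' f → Irr' g →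
    f ≠ g → IsCoprime f s → IsCoprime g s →
    (Nat.card {x : X // Dv (τ x) f ∧ Dv (τ x) g} : ℝ) * (((Nat.card K : ℝ) ^ f.natDegree - 1) *
      ((Nat.card K : ℝ) ^ g.natDegree - 1)) ≤
      c (f.natDegree + g.natDegree) * Real.sqrt ((Nat.card K : ℝ) ^ ed σ (f * g)) * Nat.card X

/-- `rep2_le` -/
def Rep2Le : Prop := ∀ (K V : Type) [Field K] [Finite K] [AddCommGroup V] [Module K V] [Finite V] (X : Type) [Group X]
    [Finite X] (σ : K →+* K) (τ : X →* (V →ₗ[K] V)) (s : K[X]) (c : ℕ → ℝ), EL σ τ s c → ∀ f : K[X], Irr' f →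
    IsCoprime f s → (Nat.card {x : X // Rep2 (τ x) f} : ℝ) ≤
      (c f.natDegree * Real.sqrt ((Nat.card K : ℝ) ^ ed σ f) / ((Nat.card K : ℝ) ^ (2 * f.natDegree) - 1) +
       c (2 * f.natDegree) * Real.sqrt ((Nat.card K : ℝ) ^ ed σ (f ^ 2)) / ((Nat.card K : ℝ) ^ f.natDegree *
        ((Nat.card K : ℝ) ^ f.natDegree - 1))) * Nat.card X

/-- `sum_b1` -/
def SumB1 (A : ℝ) : Prop := ∀ (K : Type) [Field K] [Finite K] (σ : K →+* K), (∀ x, σ (σ x) = x) → ∀ k d : ℕ, 1 ≤ d →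
    (∑ᶠ f ∈ {f : K[X] | Irr' f ∧ f.natDegree = d ∧ B1 k f}, Real.sqrt ((Nat.card K : ℝ) ^ ed σ f) / ((Nat.card K : ℝ) ^ d - 1)) ≤
      A * k ^ 3 * d * (Nat.card K : ℝ) ^ (-(d : ℝ) / 6)

/-- `sum_b2` -/
def SumB2 (A : ℝ) : Prop := ∀ (K : Type) [Field K] [Finite K] (σ : K →+* K), (∀ x, σ (σ x) = x) → ∀ k d e : ℕ,
    1 ≤ e → e ≤ d →
    (∑ᶠ p ∈ {p : K[X] × K[X] | Irr' p.1 ∧ Irr' p.2 ∧ p.1.natDegree = d ∧ p.2.natDegree = e ∧ p.1 ≠ p.2 ∧ B2 k p.1 p.2},
      Real.sqrt ((Nat.card K : ℝ) ^ ed σ (p.1 * p.2)) / (((Nat.card K : ℝ) ^ d - 1) * ((Nat.card K : ℝ) ^ e - 1))) ≤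
      A * k ^ 3 * d * (Nat.card K : ℝ) ^ (-(d : ℝ) / 2)

/-- `sum_rep` -/
def SumRep (A : ℝ) : Prop := ∀ (K : Type) [Field K] [Finite K] (σ : K →+* K), (∀ x, σ (σ x) = x) → ∀ d : ℕ, 1 ≤ d →
    (∑ᶠ f ∈ {f : K[X] | Irr' f ∧ f.natDegree = d}, (Real.sqrt ((Nat.card K : ℝ) ^ ed σ f) / ((Nat.card K : ℝ) ^ (2 * d) - 1) +
      Real.sqrt ((Nat.card K : ℝ) ^ ed σ (f ^ 2)) / ((Nat.card K : ℝ) ^ d * ((Nat.card K : ℝ) ^ d - 1)))) ≤
      A * (Nat.card K : ℝ) ^ (-(d : ℝ) / 2)

/-- `goodPow_of` -/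
def GoodOf : Prop := ∀ (K V : Type) [Field K] [Finite K] [AddCommGroup V] [Module K V] [Finite V] (y : V →ₗ[K] V),
    Function.Injective y → ∀ (S : Set K[X]), (∀ f ∈ S, Irr' f) → ∀ (k : ℕ),
    (∀ f, Irr' f → f ∉ S → Dv y f → ¬ Rep2 y f ∧ ¬ B1 k f) →
    (∀ f g, Irr' f → Irr' g → f ∉ S → f ≠ g → Dv y f → Dv y g → ¬ B2 k f g) → GoodPow y (smallP y S) k

section

variable {K V : Type} [Field K] [Finite K] [AddCommGroup V] [Module K V] [Finite V] {X : Type} [Group X] [Finite X]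
  {σ : K →+* K} {τ : X →* (V →ₗ[K] V)} {s : K[X]} {c : ℕ → ℝ} {k L : ℕ} {M : ℝ}

omit [Finite K] [Finite V] [Finite X] in
theorem inj_of (τ : X →* (V →ₗ[K] V)) (x : X) : Function.Injective (τ x) := by
  intro v w h
  have : ∀ u : V, τ x⁻¹ (τ x u) = u := fun u => by
    have h1 : (τ x⁻¹ * τ x) u = u := by rw [← map_mul]; simp only [_root_.inv_mul_cancel, _root_.map_one, _root_.Module.End.one_apply]
    exact h1
  rw [← this v, h, this w]

/-- the four bad events -/
theorem bad_cases (hG : GoodOf) (hs : s = 1 ∨ s = Polynomial.X ^ 2 - 1) (hL : 1 ≤ L) {x : X}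
    (hx : ¬ GoodPow (τ x) (smallP (τ x) (Sml L s)) k) :
    (∃ f : K[X], Irr' f ∧ IsCoprime f s ∧ L ≤ f.natDegree ∧ 2 * f.natDegree ≤ finrank K V ∧ Rep2 (τ x) f) ∨
    (∃ f : K[X], Irr' f ∧ IsCoprime f s ∧ L ≤ f.natDegree ∧ f.natDegree ≤ finrank K V ∧ Dv (τ x) f ∧ B1 k f) ∨
    (∃ f g : K[X], Irr' f ∧ Irr' g ∧ f ≠ g ∧ IsCoprime f s ∧ IsCoprime g s ∧ L ≤ f.natDegree ∧ 1 ≤ g.natDegree ∧
      g.natDegree ≤ f.natDegree ∧ f.natDegree + g.natDegree ≤ finrank K V ∧ (Dv (τ x) f ∧ Dv (τ x) g) ∧ B2 k f g) ∨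
    (∃ f : K[X], Irr' f ∧ IsCoprime f s ∧ L ≤ f.natDegree ∧ f.natDegree ≤ finrank K V ∧ Dv (τ x) f ∧ Cyc k f) := by
  by_contra hcon
  push Not at hcon
  obtain ⟨n1, n2, n3, n4⟩ := hcon
  apply hx
  have hout : ∀ f : K[X], Irr' f → f ∉ Sml L s → L ≤ f.natDegree ∧ IsCoprime f s := by
    intro f hf hfs
    have h1 : ¬ (f.natDegree < L ∨ f ∣ s) := fun h => hfs ⟨hf, h⟩
    push Not at h1
    exact ⟨h1.1, hf.2.1.coprime_iff_not_dvd.2 h1.2⟩
  refine hG K V (τ x) (inj_of τ x) _ (fun f hf => hf.1) k ?_ ?_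
  · intro f hf hfs hD
    obtain ⟨h1, h2⟩ := hout f hf hfs
    refine ⟨fun hR => n1 f hf h2 h1 (Rep2.deg_le hf hR) hR, fun hB => ?_⟩
    exact n2 f hf h2 h1 (Dv.deg_le hf.2.1 hD) hD hB
  · intro f g hf hg hfs hne hD hD' hB
    obtain ⟨h1, h2⟩ := hout f hf hfs
    have hg1 : 1 ≤ g.natDegree := hg.2.1.natDegree_pos
    have hdd := dv2_deg_le hf hg hne hD hD'
    by_cases hgs : g ∣ s
    · exact n4 f hf h2 h1 (Dv.deg_le hf.2.1 hD) hD (cyc_of_b2 hs hgs hB)
    · have hgc : IsCoprime g s := hg.2.1.coprime_iff_not_dvd.2 hgs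
      rcases le_total g.natDegree f.natDegree with hle | hle
      · exact n3 f g hf hg hne h2 hgc h1 hg1 hle hdd ⟨hD, hD'⟩ hB
      · exact n3 g f hg hf hne.symm hgc h2 (h1.trans hle) (hL.trans h1) hle (by rw [add_comm]; exact hdd) ⟨hD', hD⟩
          (B2.symm hB)

end

section num

variable {K : Type} [Field K] [Finite K]

theorem two_le_card (K : Type) [Field K] [Finite K] : (2 : ℝ) ≤ (Nat.card K : ℝ) := by
  have : 1 < Nat.card K := Finite.one_lt_card
  exact_mod_cast this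

theorem card_pow_pos (K : Type) [Field K] [Finite K] {d : ℕ} (hd : 1 ≤ d) : (0 : ℝ) < (Nat.card K : ℝ) ^ d - 1 := by
  have h2 := two_le_card K
  have : (1 : ℝ) < (Nat.card K : ℝ) ^ d := one_lt_pow₀ (by linarith) (by omega)
  linarith

theorem ed_le {σ : K →+* K} {f : K[X]} (hf : f ≠ 0) : ed σ f ≤ f.natDegree :=
  by classical exact natDegree_le_of_dvd (EuclideanDomain.gcd_dvd_left _ _) hf

/-- `c D ≤ M |K| ^ t` for `D ≤ 16 t` -/
theorem c_le {c : ℕ → ℝ} {L n : ℕ} {M : ℝ} (hM0 : 0 ≤ M)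
    (hM : ∀ D, L ≤ D → D ≤ n → c D * (Nat.card K : ℝ) ^ (-(D : ℝ) / 16) ≤ M) {D : ℕ} (h1 : L ≤ D) (h2 : D ≤ n) {t : ℝ}
    (ht : (D : ℝ) / 16 ≤ t) : c D ≤ M * (Nat.card K : ℝ) ^ t := by
  have hQ := two_le_card K
  have hQ0 : (0 : ℝ) < Nat.card K := by linarith only [hQ]
  have h3 := hM D h1 h2
  have h4 : c D = c D * (Nat.card K : ℝ) ^ (-(D : ℝ) / 16) * (Nat.card K : ℝ) ^ ((D : ℝ) / 16) := by
    rw [mul_assoc, ← Real.rpow_add hQ0, neg_div, neg_add_cancel, Real.rpow_zero, mul_one]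
  rw [h4]
  calc c D * (Nat.card K : ℝ) ^ (-(D : ℝ) / 16) * (Nat.card K : ℝ) ^ ((D : ℝ) / 16)
      ≤ M * (Nat.card K : ℝ) ^ ((D : ℝ) / 16) := by gcongr
    _ ≤ M * (Nat.card K : ℝ) ^ t := by
      gcongr
      linarith only [hQ]

theorem rpow_le_one' {t : ℝ} (ht : t ≤ 0) : (Nat.card K : ℝ) ^ t ≤ 1 :=
  Real.rpow_le_one_of_one_le_of_nonpos (by linarith [two_le_card K]) ht

theorem rpow_comb {a b : ℝ} (h : a + b ≤ 0) : (Nat.card K : ℝ) ^ a * (Nat.card K : ℝ) ^ b ≤ 1 := by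
  rw [← Real.rpow_add (by linarith [two_le_card K])]
  exact rpow_le_one' h

end num

section bounds

variable {K V : Type} [Field K] [Finite K] [AddCommGroup V] [Module K V] [Finite V] {X : Type} [Group X] [Finite X]
  {σ : K →+* K} {τ : X →* (V →ₗ[K] V)} {s : K[X]} {c : ℕ → ℝ} {k L : ℕ} {M : ℝ}

omit [Group X] in
theorem cnt_and (p : Prop) (P : X → Prop) {B : ℝ} (hB : 0 ≤ B) (h : p → cnt P ≤ B) : cnt (fun x => p ∧ P x) ≤ B := by
  by_cases hp : p
  · exact (cnt_mono fun x hx => hx.2).trans (h hp)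
  · rw [cnt_false fun x hx => hp hx.1]; exact hB

/-- repeated factors -/
theorem bound_rep (hR : Rep2Le) {A : ℝ} (hA0 : 0 ≤ A) (hA : SumRep A) (hσ : ∀ x, σ (σ x) = x) (hEL : EL σ τ s c) (hM0 : 0 ≤ M) (hL : 1 ≤ L)
    (hM : ∀ D, L ≤ D → D ≤ finrank K V → c D * (Nat.card K : ℝ) ^ (-(D : ℝ) / 16) ≤ M) {d : ℕ} (h1 : L ≤ d) :
    cnt (fun x : X => ∃ f ∈ {f : K[X] | Irr' f ∧ f.natDegree = d}, (IsCoprime f s ∧ 2 * d ≤ finrank K V) ∧ Rep2 (τ x) f) ≤
      A * M * Nat.card X := by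
  have hd1 : 1 ≤ d := hL.trans h1
  have hQ := two_le_card K
  have hQ0 : (0 : ℝ) < Nat.card K := by linarith only [hQ]
  have hN : (0 : ℝ) ≤ Nat.card X := Nat.cast_nonneg _
  have hfin : ({f : K[X] | Irr' f ∧ f.natDegree = d} : Set K[X]).Finite :=
    (finite_natDegree_le d).subset fun f hf => le_of_eq hf.2
  have hp1 : (0 : ℝ) < (Nat.card K : ℝ) ^ (2 * d) - 1 := card_pow_pos K (by omega)
  have hp2 : (0 : ℝ) < (Nat.card K : ℝ) ^ d - 1 := card_pow_pos K hd1
  refine (cnt_finsum hfin _ _ (M * (Nat.card K : ℝ) ^ ((d : ℝ) / 8) * Nat.card X) _ ?_ (by (clear * - hM0; positivity))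
    (hA K σ hσ d hd1)).trans ?_
  · rintro f ⟨hf, rfl⟩
    refine cnt_and _ _ (by (clear * - hM0 hQ hp1 hp2; positivity)) fun ⟨hc, h2⟩ => ?_
    refine (hR K V X σ τ s c hEL f hf hc).trans ?_
    have e1 : c f.natDegree ≤ M * (Nat.card K : ℝ) ^ ((f.natDegree : ℝ) / 8) :=
      c_le hM0 hM h1 (by omega) (by have : (0 : ℝ) ≤ f.natDegree := Nat.cast_nonneg _; linarith only [_root_.Nat.cast_nonneg (α := ℝ) (f.natDegree)])
    have e2 : c (2 * f.natDegree) ≤ M * (Nat.card K : ℝ) ^ ((f.natDegree : ℝ) / 8) :=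
      c_le hM0 hM (by omega) h2 (by push_cast; linarith only [])
    have e3 : c f.natDegree * Real.sqrt ((Nat.card K : ℝ) ^ ed σ f) / ((Nat.card K : ℝ) ^ (2 * f.natDegree) - 1) +
       c (2 * f.natDegree) * Real.sqrt ((Nat.card K : ℝ) ^ ed σ (f ^ 2)) / ((Nat.card K : ℝ) ^ f.natDegree *
        ((Nat.card K : ℝ) ^ f.natDegree - 1)) ≤
       (M * (Nat.card K : ℝ) ^ ((f.natDegree : ℝ) / 8)) * Real.sqrt ((Nat.card K : ℝ) ^ ed σ f) / ((Nat.card K : ℝ) ^ (2 * f.natDegree) - 1) +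
       (M * (Nat.card K : ℝ) ^ ((f.natDegree : ℝ) / 8)) * Real.sqrt ((Nat.card K : ℝ) ^ ed σ (f ^ 2)) / ((Nat.card K : ℝ) ^ f.natDegree *
        ((Nat.card K : ℝ) ^ f.natDegree - 1)) := by
      have hp3 : (0 : ℝ) < (Nat.card K : ℝ) ^ f.natDegree * ((Nat.card K : ℝ) ^ f.natDegree - 1) := by (clear * - hQ hp2; positivity)
      gcongr
    calc _ ≤ _ := mul_le_mul_of_nonneg_right e3 hN
      _ = _ := by ring
  · have h3 : (Nat.card K : ℝ) ^ ((d : ℝ) / 8) * (Nat.card K : ℝ) ^ (-(d : ℝ) / 2) ≤ 1 :=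
      rpow_comb (by have : (0 : ℝ) ≤ d := Nat.cast_nonneg _; linarith only [_root_.Nat.cast_nonneg (α := ℝ) (d)])
    calc M * (Nat.card K : ℝ) ^ ((d : ℝ) / 8) * Nat.card X * (A * (Nat.card K : ℝ) ^ (-(d : ℝ) / 2))
        = A * M * Nat.card X * ((Nat.card K : ℝ) ^ ((d : ℝ) / 8) * (Nat.card K : ℝ) ^ (-(d : ℝ) / 2)) := by ring
      _ ≤ A * M * Nat.card X * 1 := by gcongr
      _ = A * M * Nat.card X := mul_one _

/-- coincidences between the roots of one polynomial -/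
theorem bound_b1 (hD : DvLe) {A : ℝ} (hA0 : 0 ≤ A) (hA : SumB1 A) (hσ : ∀ x, σ (σ x) = x) (hEL : EL σ τ s c) (hM0 : 0 ≤ M) (hL : 1 ≤ L)
    (hM : ∀ D, L ≤ D → D ≤ finrank K V → c D * (Nat.card K : ℝ) ^ (-(D : ℝ) / 16) ≤ M) {d : ℕ} (h1 : L ≤ d)
    (h2 : d ≤ finrank K V) :
    cnt (fun x : X => ∃ f ∈ {f : K[X] | Irr' f ∧ f.natDegree = d ∧ B1 k f}, IsCoprime f s ∧ Dv (τ x) f) ≤
      A * k ^ 3 * d * M * Nat.card X := by
  have hd1 : 1 ≤ d := hL.trans h1
  have hQ := two_le_card K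
  have hQ0 : (0 : ℝ) < Nat.card K := by linarith only [hQ]
  have hN : (0 : ℝ) ≤ Nat.card X := Nat.cast_nonneg _
  have hfin : ({f : K[X] | Irr' f ∧ f.natDegree = d ∧ B1 k f} : Set K[X]).Finite :=
    (finite_natDegree_le d).subset fun f hf => le_of_eq hf.2.1
  have hp2 : (0 : ℝ) < (Nat.card K : ℝ) ^ d - 1 := card_pow_pos K hd1
  refine (cnt_finsum hfin _ _ (M * (Nat.card K : ℝ) ^ ((d : ℝ) / 16) * Nat.card X) _ ?_ (by (clear * - hM0; positivity))
    (hA K σ hσ k d hd1)).trans ?_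
  · rintro f ⟨hf, rfl, -⟩
    refine cnt_and _ _ (by (clear * - hM0 hp2; positivity)) fun hc => ?_
    have e1 : c f.natDegree ≤ M * (Nat.card K : ℝ) ^ ((f.natDegree : ℝ) / 16) := c_le hM0 hM h1 h2 le_rfl
    rw [← mul_div_assoc, le_div_iff₀ hp2]
    refine (hD K V X σ τ s c hEL f hf hc).trans ?_
    calc c f.natDegree * Real.sqrt ((Nat.card K : ℝ) ^ ed σ f) * Nat.card X
        ≤ (M * (Nat.card K : ℝ) ^ ((f.natDegree : ℝ) / 16)) * Real.sqrt ((Nat.card K : ℝ) ^ ed σ f) * Nat.card X := by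
          gcongr
      _ = _ := by ring
  · have h3 : (Nat.card K : ℝ) ^ ((d : ℝ) / 16) * (Nat.card K : ℝ) ^ (-(d : ℝ) / 6) ≤ 1 :=
      rpow_comb (by have : (0 : ℝ) ≤ d := Nat.cast_nonneg _; linarith only [_root_.Nat.cast_nonneg (α := ℝ) (d)])
    calc M * (Nat.card K : ℝ) ^ ((d : ℝ) / 16) * Nat.card X * (A * k ^ 3 * d * (Nat.card K : ℝ) ^ (-(d : ℝ) / 6))
        = A * k ^ 3 * d * M * Nat.card X * ((Nat.card K : ℝ) ^ ((d : ℝ) / 16) * (Nat.card K : ℝ) ^ (-(d : ℝ) / 6)) := by ring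
      _ ≤ A * k ^ 3 * d * M * Nat.card X * 1 := by gcongr
      _ = A * k ^ 3 * d * M * Nat.card X := mul_one _

/-- coincidences between the roots of two polynomials -/
theorem bound_b2 (hD : Dv2Le) {A : ℝ} (hA0 : 0 ≤ A) (hA : SumB2 A) (hσ : ∀ x, σ (σ x) = x) (hEL : EL σ τ s c) (hM0 : 0 ≤ M) (hL : 1 ≤ L)
    (hM : ∀ D, L ≤ D → D ≤ finrank K V → c D * (Nat.card K : ℝ) ^ (-(D : ℝ) / 16) ≤ M) {d e : ℕ} (h1 : L ≤ d)
    (he : 1 ≤ e) (hed : e ≤ d) (h2 : d + e ≤ finrank K V) :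
    cnt (fun x : X => ∃ p ∈ {p : K[X] × K[X] | Irr' p.1 ∧ Irr' p.2 ∧ p.1.natDegree = d ∧ p.2.natDegree = e ∧ p.1 ≠ p.2 ∧
      B2 k p.1 p.2}, (IsCoprime p.1 s ∧ IsCoprime p.2 s) ∧ (Dv (τ x) p.1 ∧ Dv (τ x) p.2)) ≤
      A * k ^ 3 * d * M * Nat.card X := by
  have hd1 : 1 ≤ d := hL.trans h1
  have hQ := two_le_card K
  have hQ0 : (0 : ℝ) < Nat.card K := by linarith only [hQ]
  have hN : (0 : ℝ) ≤ Nat.card X := Nat.cast_nonneg _
  have hfin : ({p : K[X] × K[X] | Irr' p.1 ∧ Irr' p.2 ∧ p.1.natDegree = d ∧ p.2.natDegree = e ∧ p.1 ≠ p.2 ∧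
      B2 k p.1 p.2} : Set (K[X] × K[X])).Finite :=
    ((finite_natDegree_le (K := K) d).prod (finite_natDegree_le (K := K) e)).subset
      fun p hp => ⟨le_of_eq hp.2.2.1, le_of_eq hp.2.2.2.1⟩
  have hp1 : (0 : ℝ) < (Nat.card K : ℝ) ^ e - 1 := card_pow_pos K he
  have hp2 : (0 : ℝ) < (Nat.card K : ℝ) ^ d - 1 := card_pow_pos K hd1
  refine (cnt_finsum hfin _ _ (M * (Nat.card K : ℝ) ^ ((d : ℝ) / 8) * Nat.card X) _ ?_ (by (clear * - hM0; positivity))
    (hA K σ hσ k d e he hed)).trans ?_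
  · rintro ⟨f, g⟩ ⟨hf, hg, rfl, rfl, hne, -⟩
    dsimp only at *
    refine cnt_and _ _ (by (clear * - hM0 hp2 hp1; positivity)) fun hc => ?_
    have e1 : c (f.natDegree + g.natDegree) ≤ M * (Nat.card K : ℝ) ^ ((f.natDegree : ℝ) / 8) :=
      c_le hM0 hM (by omega) h2 (by
        have : (g.natDegree : ℝ) ≤ f.natDegree := by exact_mod_cast hed
        push_cast; linarith only [this])
    rw [← mul_div_assoc, le_div_iff₀ (mul_pos hp2 hp1)]
    refine (hD K V X σ τ s c hEL f g hf hg hne hc.1 hc.2).trans ?_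
    calc c (f.natDegree + g.natDegree) * Real.sqrt ((Nat.card K : ℝ) ^ ed σ (f * g)) * Nat.card X
        ≤ (M * (Nat.card K : ℝ) ^ ((f.natDegree : ℝ) / 8)) * Real.sqrt ((Nat.card K : ℝ) ^ ed σ (f * g)) * Nat.card X := by
          gcongr
      _ = _ := by ring
  · have h3 : (Nat.card K : ℝ) ^ ((d : ℝ) / 8) * (Nat.card K : ℝ) ^ (-(d : ℝ) / 2) ≤ 1 :=
      rpow_comb (by have : (0 : ℝ) ≤ d := Nat.cast_nonneg _; linarith only [_root_.Nat.cast_nonneg (α := ℝ) (d)])
    calc M * (Nat.card K : ℝ) ^ ((d : ℝ) / 8) * Nat.card X * (A * k ^ 3 * d * (Nat.card K : ℝ) ^ (-(d : ℝ) / 2))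
        = A * k ^ 3 * d * M * Nat.card X * ((Nat.card K : ℝ) ^ ((d : ℝ) / 8) * (Nat.card K : ℝ) ^ (-(d : ℝ) / 2)) := by ring
      _ ≤ A * k ^ 3 * d * M * Nat.card X * 1 := by gcongr
      _ = A * k ^ 3 * d * M * Nat.card X := mul_one _

/-- roots of unity -/
theorem bound_cyc (hD : DvLe) (hEL : EL σ τ s c) (hM0 : 0 ≤ M) (hL : 1 ≤ L)
    (hM : ∀ D, L ≤ D → D ≤ finrank K V → c D * (Nat.card K : ℝ) ^ (-(D : ℝ) / 16) ≤ M) {f : K[X]} (hf : Irr' f)
    (hc : IsCoprime f s) (h1 : L ≤ f.natDegree) (h2 : f.natDegree ≤ finrank K V) :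
    cnt (fun x : X => Dv (τ x) f) ≤ 2 * M * Nat.card X := by
  have hd1 : 1 ≤ f.natDegree := hL.trans h1
  have hQ := two_le_card K
  have hQ0 : (0 : ℝ) < Nat.card K := by linarith only [hQ]
  have hN : (0 : ℝ) ≤ Nat.card X := Nat.cast_nonneg _
  have hp2 : (0 : ℝ) < (Nat.card K : ℝ) ^ f.natDegree - 1 := card_pow_pos K hd1
  have e1 : c f.natDegree ≤ M * (Nat.card K : ℝ) ^ ((f.natDegree : ℝ) / 16) := c_le hM0 hM h1 h2 le_rfl
  have e2 : Real.sqrt ((Nat.card K : ℝ) ^ ed σ f) ≤ (Nat.card K : ℝ) ^ ((f.natDegree : ℝ) / 2) := by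
    rw [Real.sqrt_le_left (by positivity), ← Real.rpow_natCast _ 2, ← Real.rpow_mul hQ0.le, ← Real.rpow_natCast]
    refine Real.rpow_le_rpow_of_exponent_le (by linarith only [hQ]) ?_
    have : ((ed σ f : ℕ) : ℝ) ≤ f.natDegree := by exact_mod_cast ed_le hf.1.ne_zero
    push_cast
    linarith only [this]
  have e3 : (Nat.card K : ℝ) ^ f.natDegree ≤ 2 * ((Nat.card K : ℝ) ^ f.natDegree - 1) := by
    have : (Nat.card K : ℝ) ^ 1 ≤ (Nat.card K : ℝ) ^ f.natDegree := pow_le_pow_right₀ (by linarith only [hQ]) hd1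
    rw [pow_one] at this
    linarith only [hQ, this]
  have e4 : (Nat.card K : ℝ) ^ ((f.natDegree : ℝ) / 16) * (Nat.card K : ℝ) ^ ((f.natDegree : ℝ) / 2) ≤
      (Nat.card K : ℝ) ^ f.natDegree := by
    rw [← Real.rpow_add hQ0, ← Real.rpow_natCast]
    refine Real.rpow_le_rpow_of_exponent_le (by linarith only [hQ]) ?_
    have : (0 : ℝ) ≤ f.natDegree := Nat.cast_nonneg _
    linarith only []
  have key : cnt (fun x : X => Dv (τ x) f) * ((Nat.card K : ℝ) ^ f.natDegree - 1) ≤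
      (2 * M * Nat.card X) * ((Nat.card K : ℝ) ^ f.natDegree - 1) :=
    calc cnt (fun x : X => Dv (τ x) f) * ((Nat.card K : ℝ) ^ f.natDegree - 1)
        ≤ c f.natDegree * Real.sqrt ((Nat.card K : ℝ) ^ ed σ f) * Nat.card X := hD K V X σ τ s c hEL f hf hc
      _ ≤ (M * (Nat.card K : ℝ) ^ ((f.natDegree : ℝ) / 16)) * (Nat.card K : ℝ) ^ ((f.natDegree : ℝ) / 2) * Nat.card X := by
          gcongr
      _ = M * ((Nat.card K : ℝ) ^ ((f.natDegree : ℝ) / 16) * (Nat.card K : ℝ) ^ ((f.natDegree : ℝ) / 2)) * Nat.card X := by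
          ring
      _ ≤ M * (2 * ((Nat.card K : ℝ) ^ f.natDegree - 1)) * Nat.card X :=
          mul_le_mul_of_nonneg_right (mul_le_mul_of_nonneg_left (e4.trans e3) hM0) hN
      _ = _ := by ring
  exact le_of_mul_le_mul_right key hp2

end bounds

/-- almost all elements are good -/
theorem core_of (hD : DvLe) (hD2 : Dv2Le) (hR : Rep2Le) (hB1 : ∃ A : ℝ, 0 < A ∧ SumB1 A) (hB2 : ∃ A : ℝ, 0 < A ∧ SumB2 A)
    (hSR : ∃ A : ℝ, 0 < A ∧ SumRep A) (hG : GoodOf) :
    ∃ A : ℝ, 0 < A ∧ ∀ (K V : Type) [Field K] [Finite K] [AddCommGroup V] [Module K V] [Finite V] (X : Type) [Group X]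
    [Finite X] (σ : K →+* K), (∀ x, σ (σ x) = x) → ∀ (τ : X →* (V →ₗ[K] V)) (s : K[X]), (s = 1 ∨ s = Polynomial.X ^ 2 - 1) →
    ∀ (c : ℕ → ℝ), (∀ D, 1 ≤ c D) → EL σ τ s c → ∀ (k L : ℕ) (M : ℝ), 0 ≤ M → 1 ≤ k → 1 ≤ L →
    (∀ D, L ≤ D → D ≤ finrank K V → c D * (Nat.card K : ℝ) ^ (-(D : ℝ) / 16) ≤ M) →
    (Nat.card {x : X // ¬ GoodPow (τ x) (smallP (τ x) (Sml L s)) k} : ℝ) ≤
      A * k ^ 3 * ((finrank K V : ℝ) + 1) ^ 3 * M * Nat.card X := by
  obtain ⟨A1, hA1, hB1⟩ := hB1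
  obtain ⟨A2, hA2, hB2⟩ := hB2
  obtain ⟨A3, hA3, hSR⟩ := hSR
  refine ⟨A3 + A1 + A2 + 2, by positivity, ?_⟩
  intro K V _ _ _ _ _ X _ _ σ hσ τ s hs c hc1 hEL k L M hM0 hk hL hM
  classical
  obtain ⟨T, hT, hT'⟩ := exists_cyc (K := K) k
  set n := finrank K V with hn
  have hN : (0 : ℝ) ≤ Nat.card X := Nat.cast_nonneg _
  -- the events
  let E1 : ℕ → X → Prop := fun d x => ∃ f ∈ {f : K[X] | Irr' f ∧ f.natDegree = d}, (IsCoprime f s ∧ 2 * d ≤ n) ∧ Rep2 (τ x) f
  let E2 : ℕ → X → Prop := fun d x => ∃ f ∈ {f : K[X] | Irr' f ∧ f.natDegree = d ∧ B1 k f}, IsCoprime f s ∧ Dv (τ x) f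
  let E3 : ℕ × ℕ → X → Prop := fun p x => (L ≤ p.1 ∧ 1 ≤ p.2 ∧ p.2 ≤ p.1 ∧ p.1 + p.2 ≤ n) ∧
    ∃ q ∈ {q : K[X] × K[X] | Irr' q.1 ∧ Irr' q.2 ∧ q.1.natDegree = p.1 ∧ q.2.natDegree = p.2 ∧ q.1 ≠ q.2 ∧
      B2 k q.1 q.2}, (IsCoprime q.1 s ∧ IsCoprime q.2 s) ∧ (Dv (τ x) q.1 ∧ Dv (τ x) q.2)
  let E4 : K[X] → X → Prop := fun f x => (Irr' f ∧ IsCoprime f s ∧ L ≤ f.natDegree ∧ f.natDegree ≤ n) ∧ Dv (τ x) f
  have hsub : ∀ x : X, ¬ GoodPow (τ x) (smallP (τ x) (Sml L s)) k →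
      (∃ d ∈ Finset.Icc L n, E1 d x) ∨ (∃ d ∈ Finset.Icc L n, E2 d x) ∨
      (∃ p ∈ (Finset.Icc 1 n) ×ˢ (Finset.Icc 1 n), E3 p x) ∨ (∃ f ∈ T, E4 f x) := by
    intro x hx
    rcases bad_cases hG hs hL hx with ⟨f, hf, h1, h2, h3, h4⟩ | ⟨f, hf, h1, h2, h3, h4, h5⟩ |
      ⟨f, g, hf, hg, hne, h1, h2, h3, h4, h5, h6, h7, h8⟩ | ⟨f, hf, h1, h2, h3, h4, h5⟩
    · exact Or.inl ⟨f.natDegree, Finset.mem_Icc.2 ⟨h2, by omega⟩, f, ⟨hf, rfl⟩, ⟨h1, h3⟩, h4⟩
    · exact Or.inr (Or.inl ⟨f.natDegree, Finset.mem_Icc.2 ⟨h2, h3⟩, f, ⟨hf, rfl, h5⟩, h1, h4⟩)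
    · exact Or.inr (Or.inr (Or.inl ⟨(f.natDegree, g.natDegree),
        Finset.mem_product.2 ⟨Finset.mem_Icc.2 ⟨hL.trans h3, by omega⟩, Finset.mem_Icc.2 ⟨h4, by omega⟩⟩,
        ⟨h3, h4, h5, h6⟩, (f, g), ⟨hf, hg, rfl, rfl, hne, h8⟩, ⟨h1, h2⟩, h7⟩))
    · exact Or.inr (Or.inr (Or.inr ⟨f, hT' f hf h5, ⟨hf, h1, h2, h3⟩, h4⟩))
  have hdn : ∀ d : ℕ, d ≤ n → (d : ℝ) ≤ (n : ℝ) := fun d h => by exact_mod_cast h
  have hcd : ((Finset.Icc L n).card : ℝ) ≤ n := by
    rw [Nat.card_Icc]; exact_mod_cast (by omega : n + 1 - L ≤ n)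
  have hcp : (((Finset.Icc 1 n) ×ˢ (Finset.Icc 1 n)).card : ℝ) = (n : ℝ) * n := by
    rw [Finset.card_product, Nat.card_Icc]; push_cast; simp
  have b1 : cnt (fun x => ∃ d ∈ Finset.Icc L n, E1 d x) ≤ n * (A3 * M * Nat.card X) := by
    refine (cnt_bex_le _ E1 (B := A3 * M * Nat.card X) fun d hd => ?_).trans (by gcongr)
    exact bound_rep hR hA3.le hSR hσ hEL hM0 hL hM (Finset.mem_Icc.1 hd).1
  have b2 : cnt (fun x => ∃ d ∈ Finset.Icc L n, E2 d x) ≤ n * (A1 * k ^ 3 * n * M * Nat.card X) := by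
    refine (cnt_bex_le _ E2 (B := A1 * k ^ 3 * n * M * Nat.card X) fun d hd => ?_).trans (by gcongr)
    have hd' := Finset.mem_Icc.1 hd
    refine (bound_b1 hD hA1.le hB1 hσ hEL hM0 hL hM hd'.1 hd'.2).trans ?_
    have := hdn d hd'.2
    gcongr
  have b3 : cnt (fun x => ∃ p ∈ (Finset.Icc 1 n) ×ˢ (Finset.Icc 1 n), E3 p x) ≤
      (n * n) * (A2 * k ^ 3 * n * M * Nat.card X) := by
    refine (cnt_bex_le _ E3 (B := A2 * k ^ 3 * n * M * Nat.card X) fun p hp => ?_).trans (by rw [hcp])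
    refine cnt_and _ _ (by (clear * - hA2 hM0; positivity)) fun hq => ?_
    refine (bound_b2 hD2 hA2.le hB2 hσ hEL hM0 hL hM hq.1 hq.2.1 hq.2.2.1 hq.2.2.2).trans ?_
    have := hdn p.1 (by omega)
    gcongr
  have b4 : cnt (fun x => ∃ f ∈ T, E4 f x) ≤ (k : ℝ) ^ 2 * (2 * M * Nat.card X) := by
    refine (cnt_bex_le _ E4 (B := 2 * M * Nat.card X) fun f _ => ?_).trans (by
      have : (T.card : ℝ) ≤ (k : ℝ) ^ 2 := by exact_mod_cast hT
      gcongr)
    refine cnt_and _ _ (by (clear * - hM0; positivity)) fun hq => ?_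
    exact bound_cyc hD hEL hM0 hL hM hq.1 hq.2.1 hq.2.2.1 hq.2.2.2
  have hkr : (1 : ℝ) ≤ k := by exact_mod_cast hk
  have hnr : (0 : ℝ) ≤ (n : ℝ) := Nat.cast_nonneg _
  have hk3 : (1 : ℝ) ≤ (k : ℝ) ^ 3 := one_le_pow₀ hkr
  have hMN : (0 : ℝ) ≤ M * Nat.card X := mul_nonneg hM0 hN
  have hn1 : (1 : ℝ) ≤ (n : ℝ) + 1 := by linarith only []
  have g1 : (n : ℝ) ≤ (k : ℝ) ^ 3 * ((n : ℝ) + 1) ^ 3 :=
    calc (n : ℝ) ≤ 1 * ((n : ℝ) + 1) ^ 1 := by linarith only []
      _ ≤ (k : ℝ) ^ 3 * ((n : ℝ) + 1) ^ 3 := by gcongr; norm_num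
  have g2 : (n : ℝ) * n ≤ ((n : ℝ) + 1) ^ 3 :=
    calc (n : ℝ) * n ≤ ((n : ℝ) + 1) ^ 2 := by linarith only []
      _ ≤ ((n : ℝ) + 1) ^ 3 := by gcongr; norm_num
  have g3 : (n : ℝ) * n * n ≤ ((n : ℝ) + 1) ^ 3 := by linarith only [_root_.mul_self_nonneg (↑n : ℝ), _root_.Nat.cast_nonneg (α := ℝ) (n)]
  have g4 : (k : ℝ) ^ 2 ≤ (k : ℝ) ^ 3 * ((n : ℝ) + 1) ^ 3 :=
    calc (k : ℝ) ^ 2 = (k : ℝ) ^ 2 * 1 := (mul_one _).symm
      _ ≤ (k : ℝ) ^ 3 * ((n : ℝ) + 1) ^ 3 := by
        gcongr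
        · norm_num
        · exact one_le_pow₀ hn1
  calc (Nat.card {x : X // ¬ GoodPow (τ x) (smallP (τ x) (Sml L s)) k} : ℝ)
      ≤ cnt (fun x => (∃ d ∈ Finset.Icc L n, E1 d x) ∨ (∃ d ∈ Finset.Icc L n, E2 d x) ∨
      (∃ p ∈ (Finset.Icc 1 n) ×ˢ (Finset.Icc 1 n), E3 p x) ∨ (∃ f ∈ T, E4 f x)) := cnt_mono hsub
    _ ≤ n * (A3 * M * Nat.card X) + (n * (A1 * k ^ 3 * n * M * Nat.card X) +
        ((n * n) * (A2 * k ^ 3 * n * M * Nat.card X) + (k : ℝ) ^ 2 * (2 * M * Nat.card X))) := by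
      refine (cnt_or _ _).trans (add_le_add b1 ?_)
      refine (cnt_or _ _).trans (add_le_add b2 ?_)
      exact (cnt_or _ _).trans (add_le_add b3 b4)
    _ = A3 * (M * Nat.card X) * n + A1 * (M * Nat.card X) * (k ^ 3 * (n * n)) +
        A2 * (M * Nat.card X) * (k ^ 3 * (n * n * n)) + 2 * (M * Nat.card X) * k ^ 2 := by ring
    _ ≤ A3 * (M * Nat.card X) * (k ^ 3 * ((n : ℝ) + 1) ^ 3) + A1 * (M * Nat.card X) * (k ^ 3 * ((n : ℝ) + 1) ^ 3) +
        A2 * (M * Nat.card X) * (k ^ 3 * ((n : ℝ) + 1) ^ 3) + 2 * (M * Nat.card X) * (k ^ 3 * ((n : ℝ) + 1) ^ 3) := by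
      gcongr
    _ = _ := by ring

end Cfsg.Agent.H926.RG
end

-- part: H560/Rg/Dv
section
/-!
# S5714, piece C5: `dv_le`, `dv2_le`, `rep2_le` (helper560)
-/

set_option autoImplicit false
set_option linter.unusedSectionVars false

namespace Cfsg.Agent.H560.Rg

open Cfsg.Agent.H141.Rg
open Polynomial Module

section alg

variable {K V : Type*} [Field K] [AddCommGroup V] [Module K V]

theorem aeval_mul_apply (y : V →ₗ[K] V) (f g : K[X]) (v : V) : aeval y (f * g) v = aeval y f (aeval y g v) := by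
  rw [map_mul]; rfl

theorem apply_of_dvd {y : V →ₗ[K] V} {f g : K[X]} {v : V} (h : aeval y f v = 0) (hd : f ∣ g) : aeval y g v = 0 := by
  obtain ⟨k, rfl⟩ := hd
  rw [mul_comm, aeval_mul_apply, h, map_zero]

theorem eq_zero_of_coprime {y : V →ₗ[K] V} {f g : K[X]} {v : V} (hc : IsCoprime f g) (hf : aeval y f v = 0)
    (hg : aeval y g v = 0) : v = 0 := by
  obtain ⟨a, b, hab⟩ := hc
  have h1 : aeval y (a * f + b * g) v = 0 := by
    rw [map_add, LinearMap.add_apply, aeval_mul_apply, aeval_mul_apply, hf, hg, map_zero, map_zero, add_zero]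
  rwa [hab, map_one] at h1

theorem ann_of_irr {y : V →ₗ[K] V} {φ : K[X]} (hφ : Irreducible φ) {v : V} (hv : v ≠ 0) (h : aeval y φ v = 0) :
    Ann y v φ := by
  intro g
  constructor
  · intro hg
    by_contra hd
    exact hv (eq_zero_of_coprime (hφ.coprime_iff_not_dvd.2 hd) h hg)
  · exact apply_of_dvd h

theorem ann_sq_of_irr {y : V →ₗ[K] V} {φ : K[X]} (hφ : Irreducible φ) {v : V} (hv : aeval y φ v ≠ 0)
    (h : aeval y (φ ^ 2) v = 0) : Ann y v (φ ^ 2) := by
  have hA : Ann y (aeval y φ v) φ := ann_of_irr hφ hv (by rw [← aeval_mul_apply, ← pow_two, h])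
  intro g
  constructor
  · intro hg
    have h1 : aeval y g (aeval y φ v) = 0 := by rw [← aeval_mul_apply, mul_comm, aeval_mul_apply, hg, map_zero]
    obtain ⟨k, rfl⟩ := (hA g).1 h1
    have h2 : aeval y k (aeval y φ v) = 0 := by rw [← aeval_mul_apply, mul_comm, hg]
    obtain ⟨l, rfl⟩ := (hA k).1 h2
    exact ⟨l, by ring⟩
  · exact apply_of_dvd h

theorem ann_add {y : V →ₗ[K] V} {f g : K[X]} (hc : IsCoprime f g) {u w : V} (hu : Ann y u f) (hw : Ann y w g) :
    Ann y (u + w) (f * g) := by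
  have hu0 := (hu f).2 dvd_rfl
  have hw0 := (hw g).2 dvd_rfl
  intro k
  constructor
  · intro hk
    have h1 : aeval y k u = -(aeval y k w) := by
      rw [map_add] at hk
      exact eq_neg_of_add_eq_zero_left hk
    have h2 : aeval y f (aeval y k u) = 0 := by
      rw [← aeval_mul_apply, mul_comm, aeval_mul_apply, hu0, map_zero]
    have h3 : aeval y g (aeval y k u) = 0 := by
      rw [h1, map_neg, ← aeval_mul_apply, mul_comm, aeval_mul_apply, hw0, map_zero, neg_zero]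
    have h4 := eq_zero_of_coprime hc h2 h3
    have h5 : aeval y k w = 0 := by
      rw [h4] at h1
      exact neg_eq_zero.1 h1.symm
    exact hc.mul_dvd ((hu k).1 h4) ((hw k).1 h5)
  · intro hk
    rw [map_add, (hu k).2 ((dvd_mul_right f g).trans hk), (hw k).2 ((dvd_mul_left g f).trans hk), add_zero]

/-- the number of vectors with given annihilator -/
noncomputable def nA (y : V →ₗ[K] V) (f : K[X]) : ℕ := Nat.card {v : V // Ann y v f}

theorem nA_mul [Finite V] (y : V →ₗ[K] V) {f g : K[X]} (hc : IsCoprime f g) : nA y f * nA y g ≤ nA y (f * g) := by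
  unfold nA
  rw [← Nat.card_prod]
  refine Nat.card_le_card_of_injective
    (fun a : {v : V // Ann y v f} × {v : V // Ann y v g} => (⟨a.1.1 + a.2.1, ann_add hc a.1.2 a.2.2⟩ :
      {v : V // Ann y v (f * g)})) ?_
  rintro ⟨⟨u, hu⟩, ⟨w, hw⟩⟩ ⟨⟨u', hu'⟩, ⟨w', hw'⟩⟩ h
  have h0 : u + w = u' + w' := congrArg Subtype.val h
  have h1 : u - u' = w' - w := by
    rw [sub_eq_sub_iff_add_eq_add, h0, add_comm]
  have h2 : aeval y f (u - u') = 0 := by
    rw [map_sub, (hu f).2 dvd_rfl, (hu' f).2 dvd_rfl, sub_zero]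
  have h3 : aeval y g (u - u') = 0 := by
    rw [h1, map_sub, (hw g).2 dvd_rfl, (hw' g).2 dvd_rfl, sub_zero]
  have h4 := eq_zero_of_coprime hc h2 h3
  have h5 : u = u' := sub_eq_zero.1 h4
  have h6 : w = w' := by rw [h4] at h1; exact (sub_eq_zero.1 h1.symm).symm
  subst h5 h6
  rfl

instance finite_degreeLT [Finite K] (n : ℕ) : Finite (degreeLT K n) := Finite.of_equiv _ (degreeLTEquiv K n).symm.toEquiv

theorem card_degreeLT [Finite K] (n : ℕ) : Nat.card (degreeLT K n) = Nat.card K ^ n := by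
  rw [Nat.card_congr (degreeLTEquiv K n).toEquiv, Nat.card_fun, Nat.card_eq_fintype_card (α := Fin n), Fintype.card_fin]

/-- the vectors `g (y) v` -/
theorem inj_aux {y : V →ₗ[K] V} {f : K[X]} (hf : f.Monic) {v : V} (hv : Ann y v f) {g g' : K[X]}
    (hg : g ∈ degreeLT K f.natDegree) (hg' : g' ∈ degreeLT K f.natDegree) (h : aeval y g v = aeval y g' v) : g = g' := by
  have h1 : aeval y (g - g') v = 0 := by
    rw [map_sub, LinearMap.sub_apply, h, sub_self]
  have h2 := (hv _).1 h1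
  have h3 : g - g' ∈ degreeLT K f.natDegree := Submodule.sub_mem _ hg hg'
  rw [mem_degreeLT] at h3
  rw [← sub_eq_zero]
  refine Polynomial.eq_zero_of_dvd_of_degree_lt h2 ?_
  rwa [degree_eq_natDegree hf.ne_zero]

theorem card_ker [Finite K] [Finite V] {y : V →ₗ[K] V} {φ : K[X]} (hφ : Irreducible φ) (hm : φ.Monic) {v : V} (hv : v ≠ 0)
    (h : aeval y φ v = 0) : Nat.card K ^ φ.natDegree ≤ Nat.card (LinearMap.ker (aeval y φ)) := by
  rw [← card_degreeLT]
  have hA := ann_of_irr hφ hv h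
  refine Nat.card_le_card_of_injective (fun g : degreeLT K φ.natDegree => (⟨aeval y g.1 v, by
    rw [LinearMap.mem_ker, ← aeval_mul_apply, mul_comm, aeval_mul_apply, h, map_zero]⟩ :
      LinearMap.ker (aeval y φ))) ?_
  rintro ⟨g, hg⟩ ⟨g', hg'⟩ hgg
  exact Subtype.ext (inj_aux hm hA hg hg' (congrArg Subtype.val hgg))

/-- the nonzero vectors of the kernel -/
theorem nA_ker [Finite V] (y : V →ₗ[K] V) {φ : K[X]} (hφ : Irreducible φ) :
    Nat.card (LinearMap.ker (aeval y φ)) ≤ nA y φ + 1 := by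
  classical
  unfold nA
  have h0 : Nat.card (Option {v : V // Ann y v φ}) = Nat.card {v : V // Ann y v φ} + 1 := Finite.card_option
  rw [← h0]
  refine Nat.card_le_card_of_injective (fun v : LinearMap.ker (aeval y φ) => if hv : v.1 = 0 then none
    else some (⟨v.1, ann_of_irr hφ hv (LinearMap.mem_ker.1 v.2)⟩ : {v : V // Ann y v φ})) ?_
  rintro ⟨v, hv⟩ ⟨w, hw⟩ h
  by_cases h1 : v = 0
  · by_cases h2 : w = 0
    · subst h1 h2; rfl
    · simp [h1, h2] at h
  · by_cases h2 : w = 0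
    · simp [h1, h2] at h
    · simp only [h1, h2, dite_false, Option.some.injEq, Subtype.mk.injEq] at h
      exact Subtype.ext h

/-- the generators of a cyclic module -/
theorem nA_pow [Finite K] [Finite V] {y : V →ₗ[K] V} {φ : K[X]} (hφ : Irreducible φ) (hm : φ.Monic) {b : ℕ} (hb : 1 ≤ b)
    {v : V} (hv : Ann y v (φ ^ b)) :
    (Nat.card K ^ φ.natDegree) ^ b ≤ nA y (φ ^ b) + (Nat.card K ^ φ.natDegree) ^ (b - 1) := by
  classical
  obtain ⟨c, rfl⟩ : ∃ c, b = c + 1 := ⟨b - 1, by omega⟩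
  rw [Nat.add_sub_cancel, ← pow_mul, ← pow_mul, ← card_degreeLT, ← card_degreeLT]
  have hdeg : (φ ^ (c + 1)).natDegree = φ.natDegree * (c + 1) := by rw [natDegree_pow, mul_comm]
  unfold nA
  rw [← Nat.card_sum]
  have key : ∀ g : degreeLT K (φ.natDegree * (c + 1)), ¬ φ ∣ g.1 → Ann y (aeval y g.1 v) (φ ^ (c + 1)) := by
    intro g hg k
    rw [← aeval_mul_apply, hv]
    have hcop : IsCoprime (φ ^ (c + 1)) g.1 := ((hφ.coprime_iff_not_dvd).2 hg).pow_left
    exact ⟨fun h => hcop.dvd_of_dvd_mul_right h, fun h => dvd_mul_of_dvd_left h _⟩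
  have key2 : ∀ g : degreeLT K (φ.natDegree * (c + 1)), φ ∣ g.1 → ∃ k : degreeLT K (φ.natDegree * c), φ * k.1 = g.1 := by
    rintro ⟨g, hg⟩ ⟨k, hk⟩
    refine ⟨⟨k, ?_⟩, hk.symm⟩
    rw [mem_degreeLT] at hg ⊢
    by_cases hk0 : k = 0
    · rw [hk0, degree_zero]; exact WithBot.bot_lt_coe _
    · simp only at hk
      rw [hk, degree_mul, degree_eq_natDegree hφ.ne_zero, degree_eq_natDegree hk0, ← Nat.cast_add, Nat.cast_lt] at hg
      rw [degree_eq_natDegree hk0, Nat.cast_lt]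
      have : φ.natDegree * (c + 1) = φ.natDegree * c + φ.natDegree := by ring
      omega
  choose k₀ hk₀ using key2
  refine Nat.card_le_card_of_injective (fun g : degreeLT K (φ.natDegree * (c + 1)) =>
    if hg : φ ∣ g.1 then (Sum.inr (k₀ g hg) : {v : V // Ann y v (φ ^ (c + 1))} ⊕ degreeLT K (φ.natDegree * c))
    else Sum.inl ⟨_, key g hg⟩) ?_
  intro g g' h
  by_cases h1 : φ ∣ g.1
  · by_cases h2 : φ ∣ g'.1
    · simp only [h1, h2, dite_true, Sum.inr.injEq] at h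
      apply Subtype.ext
      rw [← hk₀ g h1, ← hk₀ g' h2, h]
    · simp only [h1, h2, ↓ _root_.reduceDIte, _root_.reduceCtorEq] at h
  · by_cases h2 : φ ∣ g'.1
    · simp only [h1, h2, ↓ _root_.reduceDIte, _root_.reduceCtorEq] at h
    · simp only [h1, h2, dite_false, Sum.inl.injEq, Subtype.mk.injEq] at h
      apply Subtype.ext
      have hm' : (φ ^ (c + 1)).Monic := hm.pow _
      exact inj_aux hm' hv (by rw [hdeg]; exact g.2) (by rw [hdeg]; exact g'.2) h

theorem coeff_zero_ne {f : K[X]} (hf : Irr' f) : f.coeff 0 ≠ 0 := by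
  intro h
  obtain ⟨hm, hi, hX⟩ := hf
  have h1 : Polynomial.X ∣ f := X_dvd_iff.2 h
  exact hX (Polynomial.eq_of_monic_of_associated hm monic_X (irreducible_X.associated_of_dvd hi h1).symm)

theorem coprime_of_ne {f g : K[X]} (hf : Irr' f) (hg : Irr' g) (hfg : f ≠ g) : IsCoprime f g := by
  refine hf.2.1.coprime_iff_not_dvd.2 fun hd => hfg ?_
  exact Polynomial.eq_of_monic_of_associated hf.1 hg.1 (hf.2.1.associated_of_dvd hg.2.1 hd)

end alg

section main

variable {K V : Type} [Field K] [Finite K] [AddCommGroup V] [Module K V] [Finite V] {X : Type} [Group X] [Finite X]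

/-- the first moment method -/
theorem fm_count {τ : X →* (V →ₗ[K] V)} {f : K[X]} {C : ℝ} (h : (Nat.card {p : X × V // Ann (τ p.1) p.2 f} : ℝ) ≤ C)
    {P : X → Prop} {N : ℝ} (hN : ∀ x, P x → N ≤ nA (τ x) f) : (Nat.card {x : X // P x} : ℝ) * N ≤ C := by
  classical
  have hFG : Fintype X := Fintype.ofFinite X
  refine le_trans ?_ h
  have e : {p : X × V // Ann (τ p.1) p.2 f} ≃ Σ x : X, {v : V // Ann (τ x) v f} :=
    { toFun := fun a => ⟨a.1.1, a.1.2, a.2⟩
      invFun := fun a => ⟨(a.1, a.2.1), a.2.2⟩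
      left_inv := fun _ => rfl
      right_inv := fun _ => rfl }
  rw [Nat.card_congr e, Nat.card_sigma]
  push_cast
  calc (Nat.card {x : X // P x} : ℝ) * N = ∑ x ∈ Finset.univ.filter P, N := by
        rw [Finset.sum_const, nsmul_eq_mul, Nat.card_eq_fintype_card, Fintype.card_subtype]
    _ ≤ ∑ x ∈ Finset.univ.filter P, (Nat.card {v : V // Ann (τ x) v f} : ℝ) :=
        Finset.sum_le_sum fun x hx => hN x (Finset.mem_filter.1 hx).2
    _ ≤ ∑ x : X, (Nat.card {v : V // Ann (τ x) v f} : ℝ) :=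
        Finset.sum_le_sum_of_subset_of_nonneg (Finset.filter_subset _ _) fun _ _ _ => Nat.cast_nonneg _

theorem one_lt_q {f : K[X]} (hf : Irr' f) : (1 : ℝ) < (Nat.card K : ℝ) ^ f.natDegree := by
  have h1 : 1 < Nat.card K := Finite.one_lt_card
  exact one_lt_pow₀ (by exact_mod_cast h1) hf.2.1.natDegree_pos.ne'

theorem nA_of_dv {y : V →ₗ[K] V} {f : K[X]} (hf : Irr' f) (h : Dv y f) :
    (Nat.card K : ℝ) ^ f.natDegree - 1 ≤ nA y f := by
  obtain ⟨v, hv, h0⟩ := h
  have h1 : Nat.card K ^ f.natDegree ≤ nA y f + 1 := (card_ker hf.2.1 hf.1 hv h0).trans (nA_ker y hf.2.1)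
  have h2 : (Nat.card K : ℝ) ^ f.natDegree ≤ nA y f + 1 := by exact_mod_cast h1
  linarith only [h2]

theorem dv_le {σ : K →+* K} {τ : X →* (V →ₗ[K] V)} {s : K[X]} {c : ℕ → ℝ} (h : EL σ τ s c) {f : K[X]} (hf : Irr' f)
    (hs : IsCoprime f s) : (Nat.card {x : X // Dv (τ x) f} : ℝ) * ((Nat.card K : ℝ) ^ f.natDegree - 1) ≤
      c f.natDegree * Real.sqrt ((Nat.card K : ℝ) ^ ed σ f) * Nat.card X :=
  fm_count (h f hf.1 (coeff_zero_ne hf) hs) fun _ hx => nA_of_dv hf hx

theorem dv2_le {σ : K →+* K} {τ : X →* (V →ₗ[K] V)} {s : K[X]} {c : ℕ → ℝ} (h : EL σ τ s c) {f g : K[X]} (hf : Irr' f)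
    (hg : Irr' g) (hfg : f ≠ g) (hs : IsCoprime f s) (hs' : IsCoprime g s) :
    (Nat.card {x : X // Dv (τ x) f ∧ Dv (τ x) g} : ℝ) * (((Nat.card K : ℝ) ^ f.natDegree - 1) *
      ((Nat.card K : ℝ) ^ g.natDegree - 1)) ≤
      c (f.natDegree + g.natDegree) * Real.sqrt ((Nat.card K : ℝ) ^ ed σ (f * g)) * Nat.card X := by
  have h1 := h (f * g) (hf.1.mul hg.1) (by rw [mul_coeff_zero]; exact mul_ne_zero (coeff_zero_ne hf) (coeff_zero_ne hg))
    (hs.mul_left hs')
  rw [natDegree_mul hf.2.1.ne_zero hg.2.1.ne_zero] at h1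
  refine fm_count h1 fun x hx => ?_
  have h2 := nA_of_dv hf hx.1
  have h3 := nA_of_dv hg hx.2
  have h4 : (nA (τ x) f : ℝ) * nA (τ x) g ≤ nA (τ x) (f * g) := by
    exact_mod_cast nA_mul (τ x) (coprime_of_ne hf hg hfg)
  exact le_trans (mul_le_mul h2 h3 (sub_nonneg.2 (one_lt_q hg).le) (Nat.cast_nonneg _)) h4

theorem rep2_le {σ : K →+* K} {τ : X →* (V →ₗ[K] V)} {s : K[X]} {c : ℕ → ℝ} (h : EL σ τ s c) {f : K[X]} (hf : Irr' f)
    (hs : IsCoprime f s) : (Nat.card {x : X // Rep2 (τ x) f} : ℝ) ≤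
      (c f.natDegree * Real.sqrt ((Nat.card K : ℝ) ^ ed σ f) / ((Nat.card K : ℝ) ^ (2 * f.natDegree) - 1) +
       c (2 * f.natDegree) * Real.sqrt ((Nat.card K : ℝ) ^ ed σ (f ^ 2)) / ((Nat.card K : ℝ) ^ f.natDegree *
        ((Nat.card K : ℝ) ^ f.natDegree - 1))) * Nat.card X := by
  classical
  have hq := one_lt_q hf
  have hq2 : (1 : ℝ) < (Nat.card K : ℝ) ^ (2 * f.natDegree) := by
    rw [mul_comm, pow_mul]
    exact one_lt_pow₀ hq two_ne_zero
  have h1 := h f hf.1 (coeff_zero_ne hf) hs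
  have h2 := h (f ^ 2) (hf.1.pow 2) (by
    rw [pow_two, mul_coeff_zero]; exact mul_ne_zero (coeff_zero_ne hf) (coeff_zero_ne hf)) hs.pow_left
  rw [natDegree_pow] at h2
  have k1 : (Nat.card {x : X // 2 * f.natDegree ≤ finrank K (LinearMap.ker (aeval (τ x) f))} : ℝ) *
      ((Nat.card K : ℝ) ^ (2 * f.natDegree) - 1) ≤ c f.natDegree * Real.sqrt ((Nat.card K : ℝ) ^ ed σ f) * Nat.card X := by
    refine fm_count h1 fun x hx => ?_
    have e1 : Nat.card (LinearMap.ker (aeval (τ x) f)) = Nat.card K ^ finrank K (LinearMap.ker (aeval (τ x) f)) :=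
      Module.natCard_eq_pow_finrank
    have e2 : Nat.card K ^ (2 * f.natDegree) ≤ nA (τ x) f + 1 :=
      (Nat.pow_le_pow_right Nat.card_pos hx).trans (e1 ▸ nA_ker (τ x) hf.2.1)
    have e3 : (Nat.card K : ℝ) ^ (2 * f.natDegree) ≤ nA (τ x) f + 1 := by exact_mod_cast e2
    linarith only [e3]
  have k2 : (Nat.card {x : X // ∃ v, aeval (τ x) (f ^ 2) v = 0 ∧ aeval (τ x) f v ≠ 0} : ℝ) *
      ((Nat.card K : ℝ) ^ f.natDegree * ((Nat.card K : ℝ) ^ f.natDegree - 1)) ≤
      c (2 * f.natDegree) * Real.sqrt ((Nat.card K : ℝ) ^ ed σ (f ^ 2)) * Nat.card X := by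
    refine fm_count h2 fun x hx => ?_
    obtain ⟨v, hv, hv'⟩ := hx
    have e2 := nA_pow hf.2.1 hf.1 (b := 2) (by norm_num) (ann_sq_of_irr hf.2.1 hv' hv)
    have e3 : ((Nat.card K : ℝ) ^ f.natDegree) ^ 2 ≤ nA (τ x) (f ^ 2) + ((Nat.card K : ℝ) ^ f.natDegree) ^ (2 - 1) := by
      exact_mod_cast e2
    rw [show 2 - 1 = 1 from rfl, pow_one] at e3
    linarith only [e3]
  have k3 : (Nat.card {x : X // Rep2 (τ x) f} : ℝ) ≤
      Nat.card {x : X // 2 * f.natDegree ≤ finrank K (LinearMap.ker (aeval (τ x) f))} +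
      Nat.card {x : X // ∃ v, aeval (τ x) (f ^ 2) v = 0 ∧ aeval (τ x) f v ≠ 0} := by
    have : Nat.card {x : X // Rep2 (τ x) f} ≤
        Nat.card ({x : X // 2 * f.natDegree ≤ finrank K (LinearMap.ker (aeval (τ x) f))} ⊕
          {x : X // ∃ v, aeval (τ x) (f ^ 2) v = 0 ∧ aeval (τ x) f v ≠ 0}) := by
      refine Nat.card_le_card_of_injective (fun x => if hx : 2 * f.natDegree ≤ finrank K (LinearMap.ker (aeval (τ x.1) f))
        then Sum.inl ⟨x.1, hx⟩ else Sum.inr ⟨x.1, x.2.resolve_left hx⟩) ?_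
      intro x x' hxx
      by_cases c1 : 2 * f.natDegree ≤ finrank K (LinearMap.ker (aeval (τ x.1) f)) <;>
        by_cases c2 : 2 * f.natDegree ≤ finrank K (LinearMap.ker (aeval (τ x'.1) f)) <;>
        simp only [c1, c2, dite_true, dite_false, Sum.inl.injEq, Sum.inr.injEq, Subtype.mk.injEq, reduceCtorEq] at hxx <;>
        exact Subtype.ext hxx
    rw [Nat.card_sum] at this
    exact_mod_cast this
  have p1 : (0 : ℝ) < (Nat.card K : ℝ) ^ (2 * f.natDegree) - 1 := by linarith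
  have p2 : (0 : ℝ) < (Nat.card K : ℝ) ^ f.natDegree * ((Nat.card K : ℝ) ^ f.natDegree - 1) :=
    mul_pos (by linarith) (by linarith)
  have m1 := (le_div_iff₀ p1).2 k1
  have m2 := (le_div_iff₀ p2).2 k2
  calc (Nat.card {x : X // Rep2 (τ x) f} : ℝ) ≤ _ := k3
    _ ≤ _ := add_le_add m1 m2
    _ = _ := by ring

end main

end Cfsg.Agent.H560.Rg
end

-- part: H930/RG/GoodPow
section
/-!
# S5714, C7: `GoodPow` from the absence of coincidences (helper930)
-/

set_option autoImplicit false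

namespace Cfsg.Agent.H930.RG

open Polynomial Module Cfsg.Agent.H141.Rg

section poly

variable {K : Type*} [Field K]

/-- a root in the algebraic closure -/
theorem exists_root {f : K[X]} (hf : Irr' f) : ∃ a : AlgebraicClosure K, aeval a f = 0 := by
  obtain ⟨a, ha⟩ := IsAlgClosed.exists_aeval_eq_zero (AlgebraicClosure K) f
    (ne_of_gt (Polynomial.degree_pos_of_irreducible hf.2.1))
  exact ⟨a, ha⟩

theorem eq_minpoly {f : K[X]} (hf : Irr' f) {a : AlgebraicClosure K} (ha : aeval a f = 0) : f = minpoly K a :=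
  minpoly.eq_of_irreducible_of_monic hf.2.1 ha hf.1

/-- the minimal polynomial of the power of a root -/
theorem dvd_expand {f : K[X]} (hf : Irr' f) {a : AlgebraicClosure K} (ha : aeval a f = 0) (m : ℕ) :
    f ∣ expand K m (minpoly K (a ^ m)) := by
  rw [eq_minpoly hf ha]
  apply minpoly.dvd
  rw [expand_aeval, minpoly.aeval]

theorem irr_minpoly (a : AlgebraicClosure K) : Irreducible (minpoly K a) :=
  minpoly.irreducible (Algebra.IsIntegral.isIntegral a)

theorem monic_minpoly (a : AlgebraicClosure K) : (minpoly K a).Monic :=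
  minpoly.monic (Algebra.IsIntegral.isIntegral a)

/-- different monic irreducible polynomials are coprime -/
theorem coprime_of_ne {f g : K[X]} (hf : Irreducible f) (hf' : f.Monic) (hg : Irreducible g) (hg' : g.Monic)
    (h : f ≠ g) : IsCoprime f g := by
  rcases hf.isCoprime_or_dvd g with h1 | h1
  · exact h1
  · exact absurd (eq_of_monic_of_associated hf' hg' (hf.associated_of_dvd hg h1)) h

/-- no coincidences between the powers of the roots of `f` and `g` -/
theorem coprime_pow [PerfectField K] {f g : K[X]} {k m : ℕ} (hm : 1 ≤ m) (hmk : m < k)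
    (hB : ¬ B2 k f g) {a b : AlgebraicClosure K} (ha : aeval a f = 0) (hb : aeval b g = 0) :
    IsCoprime (minpoly K (a ^ m)) (minpoly K (b ^ m)) := by
  refine coprime_of_ne (irr_minpoly _) (monic_minpoly _) (irr_minpoly _) (monic_minpoly _) fun h => hB ?_
  obtain ⟨σ, hσ⟩ := isConjRoot_iff_exists_algEquiv.1 (show IsConjRoot K (b ^ m) (a ^ m) from h.symm)
  refine ⟨m, hm, hmk, σ a, b, ?_, hb, ?_⟩
  · rw [Polynomial.aeval_algHom_apply σ, ha, map_zero]
  · rw [← map_pow, hσ]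

/-- a root is a polynomial in its `m`-th power -/
theorem exists_poly [PerfectField K] {f : K[X]} {k m : ℕ} (hm : 1 ≤ m) (hmk : m < k) (hB : ¬ B1 k f)
    {a : AlgebraicClosure K} (ha : aeval a f = 0) : ∃ r : K[X], aeval (a ^ m) r = a := by
  have h1 : a ∈ IntermediateField.fixedField (IntermediateField.fixingSubgroup (IntermediateField.adjoin K {a ^ m})) := by
    rw [IntermediateField.mem_fixedField_iff]
    intro σ hσ
    by_contra hne
    have h2 : σ (a ^ m) = a ^ m := by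
      rw [IntermediateField.mem_fixingSubgroup_iff] at hσ
      exact hσ _ (IntermediateField.mem_adjoin_simple_self K (a ^ m))
    refine hB ⟨m, hm, hmk, σ a, a, ?_, ha, hne, ?_⟩
    · rw [Polynomial.aeval_algHom_apply σ, ha, map_zero]
    · rw [← map_pow, h2]
  rw [InfiniteGalois.fixedField_fixingSubgroup] at h1
  have h2 : a ∈ (IntermediateField.adjoin K {a ^ m}).toSubalgebra := h1
  rw [IntermediateField.adjoin_simple_toSubalgebra_of_isAlgebraic (Algebra.IsAlgebraic.isAlgebraic _),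
    Algebra.adjoin_singleton_eq_range_aeval] at h2
  obtain ⟨r, hr⟩ := h2
  exact ⟨r, hr⟩

/-- Chinese remainder theorem -/
theorem crt {ι : Type*} [DecidableEq ι] (s : Finset ι) (g r : ι → K[X])
    (hg : ∀ i ∈ s, ∀ j ∈ s, i ≠ j → IsCoprime (g i) (g j)) : ∃ R : K[X], ∀ i ∈ s, g i ∣ R - r i := by
  induction s using Finset.induction_on with
  | empty => exact ⟨0, fun i hi => absurd hi (Finset.notMem_empty i)⟩
  | insert a s ha ih =>
    obtain ⟨R, hR⟩ := ih fun i hi j hj => hg i (Finset.mem_insert_of_mem hi) j (Finset.mem_insert_of_mem hj)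
    have hc : IsCoprime (g a) (∏ i ∈ s, g i) := IsCoprime.prod_right fun i hi =>
      hg a (Finset.mem_insert_self a s) i (Finset.mem_insert_of_mem hi) fun e => ha (e ▸ hi)
    obtain ⟨u, v, e⟩ := hc
    refine ⟨R * (u * g a) + r a * (v * ∏ i ∈ s, g i), fun i hi => ?_⟩
    rcases Finset.mem_insert.1 hi with rfl | hi
    · refine ⟨(R - r i) * u, ?_⟩
      linear_combination (r i) * e
    · have h1 : g i ∣ ∏ i ∈ s, g i := Finset.dvd_prod_of_mem g hi
      have h2 : R * (u * g a) + r a * (v * ∏ i ∈ s, g i) - r i = (R - r i) + (∏ i ∈ s, g i) * (v * (r a - R)) := by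
        linear_combination R * e
      rw [h2]
      exact dvd_add (hR i hi) (h1.mul_right _)

end poly

section lin

variable {K V : Type*} [Field K] [AddCommGroup V] [Module K V]

theorem comm_aeval {f y : V →ₗ[K] V} (h : Commute f y) (g : K[X]) : Commute f (aeval y g) := by
  induction g using Polynomial.induction_on' with
  | add p q hp hq => rw [map_add]; exact hp.add_right hq
  | monomial n a =>
    rw [aeval_monomial]
    exact (Algebra.commute_algebraMap_right a f).mul_right (h.pow_right n)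

theorem ker_prod_le {ι : Type*} [DecidableEq ι] (y : V →ₗ[K] V) (s : Finset ι) (g : ι → K[X])
    (hg : ∀ i ∈ s, ∀ j ∈ s, i ≠ j → IsCoprime (g i) (g j)) :
    LinearMap.ker (aeval y (∏ i ∈ s, g i)) ≤ ⨆ i ∈ s, LinearMap.ker (aeval y (g i)) := by
  induction s using Finset.induction_on with
  | empty =>
    rw [Finset.prod_empty, map_one]
    intro v hv
    have : v = 0 := hv
    rw [this]
    exact Submodule.zero_mem _
  | insert a s ha ih =>
    have hc : IsCoprime (g a) (∏ i ∈ s, g i) := IsCoprime.prod_right fun i hi =>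
      hg a (Finset.mem_insert_self a s) i (Finset.mem_insert_of_mem hi) fun e => ha (e ▸ hi)
    rw [Finset.prod_insert ha, ← Polynomial.sup_ker_aeval_eq_ker_aeval_mul_of_coprime y hc]
    refine sup_le ?_ ?_
    · exact le_iSup₂_of_le a (Finset.mem_insert_self a s) le_rfl
    · refine (ih fun i hi j hj => hg i (Finset.mem_insert_of_mem hi) j (Finset.mem_insert_of_mem hj)).trans ?_
      exact iSup₂_le fun i hi => le_iSup₂_of_le i (Finset.mem_insert_of_mem hi) le_rfl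

/-- **C7.** -/
theorem goodPow_of [FiniteDimensional K V] [PerfectField K] {y : V →ₗ[K] V} (hy : Function.Injective y) {S : Set K[X]}
    (hS : ∀ f ∈ S, Irr' f) {k : ℕ}
    (h1 : ∀ f, Irr' f → f ∉ S → Dv y f → ¬ Rep2 y f ∧ ¬ B1 k f)
    (h2 : ∀ f g, Irr' f → Irr' g → f ∉ S → f ≠ g → Dv y f → Dv y g → ¬ B2 k f g) : GoodPow y (smallP y S) k := by
  classical
  set μ := minpoly K y with hμ
  have hint : IsIntegral K y := Algebra.IsIntegral.isIntegral y
  have hμm : μ.Monic := minpoly.monic hint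
  have hμ0 : μ ≠ 0 := hμm.ne_zero
  -- proper divisors of `μ` do not kill
  have hproper : ∀ g h : K[X], μ = g * h → ¬ IsUnit g → ∃ u : V, aeval y h u ≠ 0 := by
    intro g h e hg
    by_contra hcon
    push Not at hcon
    have h3 : aeval y h = 0 := LinearMap.ext hcon
    have h4 : μ ∣ h := minpoly.dvd K y h3
    have hh0 : h ≠ 0 := by
      rintro rfl
      exact hμ0 (by rw [e, mul_zero])
    obtain ⟨c, hc⟩ := h4
    apply hg
    have h5 : h * (g * c) = h * 1 := by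
      rw [mul_one]
      conv_rhs => rw [hc, e]
      ring
    exact IsUnit.of_mul_eq_one c (mul_left_cancel₀ hh0 h5)
  set F : Finset K[X] := (UniqueFactorizationMonoid.normalizedFactors μ).toFinset with hF
  have hFirr : ∀ f ∈ F, Irreducible f := fun f hf =>
    UniqueFactorizationMonoid.irreducible_of_normalized_factor f (Multiset.mem_toFinset.1 hf)
  have hFm : ∀ f ∈ F, f.Monic := by
    intro f hf
    have h3 := UniqueFactorizationMonoid.normalize_normalized_factor f (Multiset.mem_toFinset.1 hf)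
    rw [← h3]
    exact Polynomial.monic_normalize (hFirr f hf).ne_zero
  have hFd : ∀ f ∈ F, f ∣ μ := fun f hf =>
    UniqueFactorizationMonoid.dvd_of_mem_normalizedFactors (Multiset.mem_toFinset.1 hf)
  have hFDv : ∀ f ∈ F, Dv y f := by
    intro f hf
    obtain ⟨g, hg⟩ := hFd f hf
    obtain ⟨u, hu⟩ := hproper f g hg (hFirr f hf).not_isUnit
    refine ⟨aeval y g u, hu, ?_⟩
    rw [← Module.End.mul_apply, ← map_mul, ← hg, minpoly.aeval, LinearMap.zero_apply]
  have hFX : ∀ f ∈ F, f ≠ Polynomial.X := by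
    rintro f hf rfl
    obtain ⟨v, hv, hv'⟩ := hFDv _ hf
    rw [aeval_X] at hv'
    exact hv (hy (by rw [hv', map_zero]))
  have hF' : ∀ f ∈ F, Irr' f := fun f hf => ⟨hFm f hf, hFirr f hf, hFX f hf⟩
  -- multiplicity one outside `S`
  have hone : ∀ f ∈ F, f ∉ S → (UniqueFactorizationMonoid.normalizedFactors μ).count f = 1 := by
    intro f hf hfS
    have h3 := (h1 f (hF' f hf) hfS (hFDv f hf)).1
    have h4 : 0 < (UniqueFactorizationMonoid.normalizedFactors μ).count f :=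
      Multiset.count_pos.2 (Multiset.mem_toFinset.1 hf)
    by_contra hne
    have h5 : 2 ≤ (UniqueFactorizationMonoid.normalizedFactors μ).count f := by omega
    have h6 : f ^ 2 ∣ μ := by
      have h7 : Multiset.replicate 2 f ≤ UniqueFactorizationMonoid.normalizedFactors μ :=
        Multiset.le_count_iff_replicate_le.1 h5
      have h8 := Multiset.prod_dvd_prod_of_le h7
      rw [Multiset.prod_replicate] at h8
      exact h8.trans (UniqueFactorizationMonoid.prod_normalizedFactors hμ0).dvd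
    obtain ⟨g, hg⟩ := h6
    obtain ⟨u, hu⟩ := hproper f (f * g) (by rw [hg]; ring) (hFirr f hf).not_isUnit
    apply h3
    refine Or.inr ⟨aeval y g u, ?_, ?_⟩
    · rw [← Module.End.mul_apply, ← map_mul, ← hg, minpoly.aeval, LinearMap.zero_apply]
    · rw [← Module.End.mul_apply, ← map_mul]
      exact hu
  set FS := F.filter (· ∈ S) with hFS
  set FN := F.filter (· ∉ S) with hFN
  set e : K[X] → ℕ := fun f => (UniqueFactorizationMonoid.normalizedFactors μ).count f with he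
  set P := ∏ f ∈ FS, f ^ e f with hP
  set Q := ∏ f ∈ FN, f with hQ
  have hPQ : P * Q = μ := by
    have h3 : ∏ f ∈ F, f ^ e f = μ := by
      rw [hF, ← Finset.prod_multiset_count]
      rw [UniqueFactorizationMonoid.prod_normalizedFactors_eq hμ0]
      exact hμm.normalize_eq_self
    rw [← h3, ← Finset.prod_filter_mul_prod_filter_not F (· ∈ S)]
    congr 1
    refine Finset.prod_congr rfl fun f hf => ?_
    rw [Finset.mem_filter] at hf
    rw [he]
    simp only
    rw [hone f hf.1 hf.2, pow_one]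
  have hcopF : ∀ f ∈ F, ∀ g ∈ F, f ≠ g → IsCoprime f g := fun f hf g hg hne =>
    coprime_of_ne (hFirr f hf) (hFm f hf) (hFirr g hg) (hFm g hg) hne
  have hcop : IsCoprime P Q := by
    refine IsCoprime.prod_left fun f hf => IsCoprime.prod_right fun g hg => ?_
    rw [Finset.mem_filter] at hf hg
    refine IsCoprime.pow_left (hcopF f hf.1 g hg.1 ?_)
    rintro rfl
    exact hg.2 hf.2
  -- the small part
  have hA : smallP y S = LinearMap.ker (aeval y P) := by
    apply le_antisymm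
    · refine iSup₂_le fun f hf => iSup_le fun j v hv => ?_
      have hfi := hS f hf
      have h3 : IsCoprime (f ^ j) Q := by
        refine IsCoprime.pow_left (IsCoprime.prod_right fun g hg => ?_)
        rw [Finset.mem_filter] at hg
        refine coprime_of_ne hfi.2.1 hfi.1 (hFirr g hg.1) (hFm g hg.1) ?_
        rintro rfl
        exact hg.2 hf
      obtain ⟨u, w, huw⟩ := h3
      rw [LinearMap.mem_ker] at hv ⊢
      have h4 : aeval y P v = aeval y (P * (u * f ^ j + w * Q)) v := by rw [huw, mul_one]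
      have h5 : P * (u * f ^ j + w * Q) = (P * u) * f ^ j + w * μ := by rw [← hPQ]; ring
      rw [h4, h5, map_add, LinearMap.add_apply, map_mul, Module.End.mul_apply, hv, map_zero, zero_add, map_mul,
        Module.End.mul_apply, minpoly.aeval, LinearMap.zero_apply, map_zero]
    · refine (ker_prod_le y FS (fun f => f ^ e f) fun f hf g hg hne => ?_).trans ?_
      · rw [Finset.mem_filter] at hf hg
        exact (hcopF f hf.1 g hg.1 hne).pow
      · refine iSup₂_le fun f hf => ?_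
        rw [Finset.mem_filter] at hf
        exact le_iSup₂_of_le f hf.2 (le_iSup_of_le (e f) le_rfl)
  rw [hA]
  set A := LinearMap.ker (aeval y P) with hAd
  set B := LinearMap.ker (aeval y Q) with hBd
  have hcompl : IsCompl A B := by
    constructor
    · exact Polynomial.disjoint_ker_aeval_of_isCoprime y hcop
    · rw [codisjoint_iff, hAd, hBd, Polynomial.sup_ker_aeval_eq_ker_aeval_mul_of_coprime y hcop, hPQ, minpoly.aeval]
      exact LinearMap.ker_zero
  have hcomm : ∀ (g : K[X]) (v : V), aeval y g (y v) = y (aeval y g v) := by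
    intro g v
    have h3 : Commute (aeval y g) y := (comm_aeval (Commute.refl y) g).symm
    exact LinearMap.congr_fun h3.eq v
  refine ⟨B, hcompl, fun a ha => ?_, fun b hb => ?_, ?_⟩
  · rw [hAd, LinearMap.mem_ker] at ha ⊢
    rw [hcomm, ha, map_zero]
  · rw [hBd, LinearMap.mem_ker] at hb ⊢
    rw [hcomm, hb, map_zero]
  intro m hm hmk φ hφ
  -- choose roots
  choose! ro hro using fun (f : K[X]) (hf : Irr' f) => exists_root hf
  set G : K[X] → K[X] := fun f => minpoly K (ro f ^ m) with hG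
  have hGd : ∀ f ∈ F, f ∣ expand K m (G f) := fun f hf => dvd_expand (hF' f hf) (hro f (hF' f hf)) m
  have hGc : ∀ f ∈ FN, ∀ g ∈ F, f ≠ g → IsCoprime (G f) (G g) := by
    intro f hf g hg hne
    rw [Finset.mem_filter] at hf
    exact coprime_pow hm hmk (h2 f g (hF' f hf.1) (hF' g hg) hf.2 hne (hFDv f hf.1) (hFDv g hg))
      (hro f (hF' f hf.1)) (hro g (hF' g hg))
  -- the idempotent
  obtain ⟨w, hw1, hw2⟩ : ∃ w : K[X], P ∣ expand K m w ∧ Q ∣ expand K m w - 1 := by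
    have h3 : IsCoprime (∏ f ∈ FS, G f ^ e f) (∏ f ∈ FN, G f) := by
      refine IsCoprime.prod_left fun f hf => IsCoprime.prod_right fun g hg => ?_
      refine IsCoprime.pow_left (hGc g hg f (Finset.mem_filter.1 hf).1 ?_).symm
      rintro rfl
      exact (Finset.mem_filter.1 hg).2 (Finset.mem_filter.1 hf).2
    obtain ⟨u, v, huv⟩ := h3
    refine ⟨u * ∏ f ∈ FS, G f ^ e f, ?_, ?_⟩
    · rw [map_mul, map_prod]
      refine Dvd.dvd.mul_left (Finset.prod_dvd_prod_of_dvd _ _ fun f hf => ?_) _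
      rw [map_pow]
      exact pow_dvd_pow_of_dvd (hGd f (Finset.mem_filter.1 hf).1) _
    · have h4 : expand K m (u * ∏ f ∈ FS, G f ^ e f) - 1 = - (expand K m v * ∏ f ∈ FN, expand K m (G f)) := by
        have h5 := congrArg (expand K m) huv
        rw [map_add, map_one, map_mul (expand K m) v, map_prod (expand K m) G] at h5
        linear_combination h5
      rw [h4]
      refine (Dvd.dvd.mul_left (Finset.prod_dvd_prod_of_dvd _ _ fun f hf => ?_) _).neg_right
      exact hGd f (Finset.mem_filter.1 hf).1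
  -- the polynomial for `y`
  obtain ⟨r, hr⟩ : ∃ r : K[X], Q ∣ expand K m r - Polynomial.X := by
    have h3 : ∀ f ∈ FN, ∃ r : K[X], aeval (ro f ^ m) r = ro f := by
      intro f hf
      rw [Finset.mem_filter] at hf
      exact exists_poly hm hmk (h1 f (hF' f hf.1) hf.2 (hFDv f hf.1)).2 (hro f (hF' f hf.1))
    choose! rr hrr using h3
    obtain ⟨R, hR⟩ := crt FN G rr fun f hf g hg hne => hGc f hf g (Finset.mem_filter.1 hg).1 hne
    refine ⟨R, Finset.prod_dvd_of_coprime (fun f hf g hg hne => ?_) fun f hf => ?_⟩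
    · exact hcopF f (Finset.mem_filter.1 hf).1 g (Finset.mem_filter.1 hg).1 hne
    · have hfF := (Finset.mem_filter.1 hf).1
      rw [eq_minpoly (hF' f hfF) (hro f (hF' f hfF))]
      apply minpoly.dvd
      rw [map_sub, expand_aeval, aeval_X]
      obtain ⟨c, hc⟩ := hR f hf
      have h4 : R = rr f + G f * c := by rw [← hc]; ring
      rw [h4, map_add, hrr f hf, map_mul]
      have h5 : aeval (ro f ^ m) (G f) = 0 := minpoly.aeval K _
      rw [h5, zero_mul, add_zero, sub_self]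
  have hφW : ∀ (g : K[X]) (v : V), φ (aeval y (expand K m g) v) = aeval y (expand K m g) (φ v) := by
    intro g v
    rw [expand_aeval]
    have h3 : Commute φ (aeval (y ^ m) g) := comm_aeval hφ g
    exact LinearMap.congr_fun h3.eq v
  have hWA : ∀ a ∈ A, aeval y (expand K m w) a = 0 := by
    intro a ha
    obtain ⟨c, hc⟩ := hw1
    rw [hc, mul_comm, map_mul, Module.End.mul_apply, LinearMap.mem_ker.1 ha, map_zero]
  have hWB : ∀ b ∈ B, aeval y (expand K m w) b = b := by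
    intro b hb
    obtain ⟨c, hc⟩ := hw2
    have h3 : expand K m w = 1 + c * Q := by rw [mul_comm c, ← hc]; ring
    rw [h3, map_add, map_one, LinearMap.add_apply, map_mul, Module.End.mul_apply, LinearMap.mem_ker.1 hb, map_zero,
      add_zero, Module.End.one_apply]
  have hdec : ∀ v : V, ∃ a ∈ A, ∃ b ∈ B, v = a + b := by
    intro v
    have h3 : v ∈ A ⊔ B := by rw [hcompl.sup_eq_top]; exact Submodule.mem_top
    obtain ⟨a, ha, b, hb, e⟩ := Submodule.mem_sup.1 h3
    exact ⟨a, ha, b, hb, e.symm⟩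
  have hφA : ∀ a ∈ A, φ a ∈ A := by
    intro a ha
    have h3 := hφW w a
    rw [hWA a ha, map_zero] at h3
    obtain ⟨a', ha', b', hb', e⟩ := hdec (φ a)
    rw [e, map_add, hWA a' ha', hWB b' hb', zero_add] at h3
    rw [e, ← h3, add_zero]
    exact ha'
  have hφB : ∀ b ∈ B, φ b ∈ B := by
    intro b hb
    have h3 := hφW w b
    rw [hWB b hb] at h3
    obtain ⟨a', ha', b', hb', e⟩ := hdec (φ b)
    rw [h3] at e
    have h4 : φ b = b' := by
      obtain ⟨a'', ha'', b'', hb'', e'⟩ := hdec (φ b)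
      have h5 : aeval y (expand K m w) (φ b) = b'' := by rw [e', map_add, hWA a'' ha'', hWB b'' hb'', zero_add]
      have h6 : aeval y (expand K m w) (φ b) = φ b := h3.symm
      have h7 : φ b = b'' := by rw [← h6, h5]
      have h8 : φ b ∈ B := by rw [h7]; exact hb''
      have h9 : φ b = a' + b' := by rw [← e, h6]
      have h10 : a' ∈ A ⊓ B := ⟨ha', by
        have : a' = φ b - b' := by rw [h9]; abel
        rw [this]
        exact B.sub_mem h8 hb'⟩
      rw [hcompl.inf_eq_bot, Submodule.mem_bot] at h10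
      rw [h9, h10, zero_add]
    rw [h4]
    exact hb'
  refine ⟨hφA, hφB, fun b hb => ?_⟩
  have hyB : ∀ b ∈ B, y b = aeval y (expand K m r) b := by
    intro b hb
    obtain ⟨c, hc⟩ := hr
    have h3 : expand K m r = Polynomial.X + c * Q := by rw [mul_comm c, ← hc]; ring
    rw [h3, map_add, aeval_X, LinearMap.add_apply, map_mul, Module.End.mul_apply, LinearMap.mem_ker.1 hb, map_zero,
      add_zero]
  rw [hyB b hb, hφW, ← hyB _ (hφB b hb)]

end lin

end Cfsg.Agent.H930.RG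
end

-- part: H926/RG/CoreSum
section
/-!
# S5714, core estimate: only the three sums over irreducible polynomials as hypotheses
-/

set_option autoImplicit false

namespace Cfsg.Agent.H926.RG

open Polynomial Module Cfsg.Agent.H141.Rg

theorem dvLe : DvLe := fun K V _ _ _ _ _ X _ _ σ τ s c h f hf hs => H560.Rg.dv_le h hf hs

theorem dv2Le : Dv2Le := fun K V _ _ _ _ _ X _ _ σ τ s c h f g hf hg hfg hs hs' => H560.Rg.dv2_le h hf hg hfg hs hs'

theorem rep2Le : Rep2Le := fun K V _ _ _ _ _ X _ _ σ τ s c h f hf hs => H560.Rg.rep2_le h hf hs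

theorem goodOf : GoodOf := fun K V _ _ _ _ _ y hy S hS k h1 h2 => H930.RG.goodPow_of hy hS h1 h2

/-- almost all elements are good -/
theorem core_of_sums (hB1 : ∃ A : ℝ, 0 < A ∧ SumB1 A) (hB2 : ∃ A : ℝ, 0 < A ∧ SumB2 A)
    (hSR : ∃ A : ℝ, 0 < A ∧ SumRep A) :
    ∃ A : ℝ, 0 < A ∧ ∀ (K V : Type) [Field K] [Finite K] [AddCommGroup V] [Module K V] [Finite V] (X : Type) [Group X]
    [Finite X] (σ : K →+* K), (∀ x, σ (σ x) = x) → ∀ (τ : X →* (V →ₗ[K] V)) (s : K[X]), (s = 1 ∨ s = Polynomial.X ^ 2 - 1) →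
    ∀ (c : ℕ → ℝ), (∀ D, 1 ≤ c D) → EL σ τ s c → ∀ (k L : ℕ) (M : ℝ), 0 ≤ M → 1 ≤ k → 1 ≤ L →
    (∀ D, L ≤ D → D ≤ finrank K V → c D * (Nat.card K : ℝ) ^ (-(D : ℝ) / 16) ≤ M) →
    (Nat.card {x : X // ¬ GoodPow (τ x) (smallP (τ x) (Sml L s)) k} : ℝ) ≤
      A * k ^ 3 * ((finrank K V : ℝ) + 1) ^ 3 * M * Nat.card X :=
  core_of dvLe dv2Le rep2Le hB1 hB2 hSR goodOf

end Cfsg.Agent.H926.RG
end

-- part: H244/Rg/Orb
section
/-!
# S5714 [C6]: the roots of irreducible polynomials over a finite field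

* `core1` : `c ^ (p ^ g) = c`, `g ∣ 2 j`, `c ^ (p ^ j + 1) = 1` give `c ^ 2 = 1` or `c ^ (n + 1) = 1` with `n ^ 2 = p ^ g`;
* `root_pow`, `mem_aeval`, `roots_conj` : the roots of an irreducible polynomial;
* `sd_root` : the roots of the self-dual polynomials; `b1_root`, `b1_sd_root`, `dual_root`.
-/

set_option autoImplicit false

namespace Cfsg.Agent.H244.Rg

open Polynomial Module Cfsg.Agent.H141.Rg

section pows

variable {L : Type*} [Field L] {x : L} {Q a b : ℕ}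

theorem pow_gcd (ha : x ^ Q ^ a = x) (hb : x ^ Q ^ b = x) : x ^ Q ^ Nat.gcd a b = x := by
  have h : ∀ n : ℕ, Function.IsPeriodicPt (fun y : L => y ^ Q) n x ↔ x ^ Q ^ n = x := by
    intro n
    show (fun y : L => y ^ Q)^[n] x = x ↔ _
    rw [pow_iterate]
  exact (h _).1 (((h a).2 ha).gcd ((h b).2 hb))

theorem pow_mul_self (ha : x ^ Q ^ a = x) (k : ℕ) : x ^ Q ^ (a * k) = x := by
  induction k with
  | zero => simp
  | succ n ih => rw [Nat.mul_succ, pow_add, pow_mul, ih, ha]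

/-- the two cases -/
theorem core1 {p g j : ℕ} (h1 : x ^ p ^ g = x) (h2 : g ∣ 2 * j) (h3 : x ^ (p ^ j + 1) = 1) :
    x ^ 2 = 1 ∨ ∃ n, n ^ 2 = p ^ g ∧ x ^ (n + 1) = 1 := by
  obtain ⟨u, hu⟩ := h2
  rcases Nat.even_or_odd' u with ⟨v, rfl | rfl⟩
  · left
    have h4 : j = g * v := by
      have : 2 * j = 2 * (g * v) := by rw [hu]; ring
      omega
    rw [pow_succ, h4, pow_mul_self h1] at h3
    rw [pow_two]; exact h3
  · right
    have h5 : 2 ∣ g := by
      have h6 : 2 ∣ g * (2 * v + 1) := ⟨j, hu.symm⟩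
      have h7 : Nat.Coprime 2 (2 * v + 1) := by simp
      exact h7.dvd_of_dvd_mul_right h6
    obtain ⟨w, rfl⟩ := h5
    have h4 : j = 2 * w * v + w := by
      have : 2 * j = 2 * (2 * w * v + w) := by rw [hu]; ring
      omega
    refine ⟨p ^ w, by rw [← pow_mul, mul_comm], ?_⟩
    rw [pow_succ, h4, pow_add, pow_mul, pow_mul_self h1, ← pow_succ] at h3
    exact h3

end pows

section count

variable {L : Type*} [Field L]

theorem ncard_of_poly {P : L[X]} (hP : P ≠ 0) {S : Set L} (h : ∀ x ∈ S, P.eval x = 0) :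
    S.Finite ∧ S.ncard ≤ P.natDegree := by
  classical
  have h1 : S ⊆ (P.roots.toFinset : Set L) := by
    intro x hx
    rw [Finset.mem_coe, Multiset.mem_toFinset, mem_roots hP]
    exact h x hx
  refine ⟨(Finset.finite_toSet _).subset h1, (Set.ncard_le_ncard h1 (Finset.finite_toSet _)).trans ?_⟩
  rw [Set.ncard_coe_finset]
  exact (Multiset.toFinset_card_le _).trans (card_roots' P)

theorem ncard_self {n : ℕ} (hn : 1 < n) : {x : L | x ^ n = x}.Finite ∧ {x : L | x ^ n = x}.ncard ≤ n := by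
  have h := ncard_of_poly (FiniteField.X_pow_card_sub_X_ne_zero L hn) (S := {x : L | x ^ n = x}) (by
    intro x hx
    rw [Set.mem_ofPred_eq] at hx
    simp [hx])
  rw [FiniteField.X_pow_card_sub_X_natDegree_eq L hn] at h
  exact h

theorem ncard_nth {n : ℕ} (hn : 0 < n) (a : L) : {x : L | x ^ n = a}.Finite ∧ {x : L | x ^ n = a}.ncard ≤ n := by
  have h := ncard_of_poly (P := X ^ n - C a) (X_pow_sub_C_ne_zero hn a) (S := {x : L | x ^ n = a}) (by
    intro x hx
    rw [Set.mem_ofPred_eq] at hx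
    simp [hx])
  rw [natDegree_X_pow_sub_C] at h
  exact h

end count

section roots

variable {K : Type*} [Field K] [Finite K]

local notation "Kb" => AlgebraicClosure K

theorem one_lt_card : 1 < Nat.card K := Finite.one_lt_card

/-- the Frobenius -/
theorem aeval_pow (x : Kb) (P : K[X]) (i : ℕ) : aeval (x ^ Nat.card K ^ i) P = (aeval x P) ^ Nat.card K ^ i := by
  have := Fintype.ofFinite K
  have h1 : ∀ x : Kb, aeval (x ^ Nat.card K) P = (aeval x P) ^ Nat.card K := by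
    intro x
    have h2 := Polynomial.aeval_algHom_apply (FiniteField.frobeniusAlgHom K Kb) x P
    rw [FiniteField.coe_frobeniusAlgHom, ← Nat.card_eq_fintype_card] at h2
    exact h2
  induction i with
  | zero => simp
  | succ n ih => rw [pow_succ, pow_mul, h1, ih, ← pow_mul]

theorem minpoly_eq {f : K[X]} (hf : Irr' f) {a : Kb} (ha : aeval a f = 0) : minpoly K a = f :=
  (minpoly.eq_of_irreducible_of_monic hf.2.1 ha hf.1).symm

theorem coeff_zero_ne {f : K[X]} (hf : Irr' f) : f.coeff 0 ≠ 0 := by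
  intro h
  have h1 : X ∣ f := X_dvd_iff.2 h
  have h2 : Associated X f := (Polynomial.irreducible_X).associated_of_dvd hf.2.1 h1
  exact hf.2.2 (eq_of_monic_of_associated monic_X hf.1 h2).symm

theorem root_ne_zero {f : K[X]} (hf : Irr' f) {a : Kb} (ha : aeval a f = 0) : a ≠ 0 := by
  rintro rfl
  rw [aeval_def, eval₂_at_zero, map_eq_zero_iff _ (algebraMap K Kb).injective] at ha
  exact coeff_zero_ne hf ha

theorem natDegree_pos {f : K[X]} (hf : Irr' f) : 0 < f.natDegree := hf.2.1.natDegree_pos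

/-- a bijection with the polynomials of small degree -/
theorem card_adjoin {f : K[X]} (hf : Irr' f) {a : Kb} (ha : aeval a f = 0) :
    (Set.range fun P : K[X] => (aeval a P : Kb)).ncard = Nat.card K ^ f.natDegree ∧
      (Set.range fun P : K[X] => (aeval a P : Kb)).Finite := by
  have hint : IsIntegral K a := Algebra.IsIntegral.isIntegral a
  have h1 : (Set.range fun P : K[X] => (aeval a P : Kb)) = (IntermediateField.adjoin K {a} : Set Kb) := by
    have h2 : (IntermediateField.adjoin K {a}).toSubalgebra = Algebra.adjoin K {a} :=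
      IntermediateField.adjoin_simple_toSubalgebra_of_isAlgebraic hint.isAlgebraic
    rw [Algebra.adjoin_singleton_eq_range_aeval] at h2
    exact (congrArg (fun S : Subalgebra K Kb => (S : Set Kb)) h2).symm
  have hfd : FiniteDimensional K (IntermediateField.adjoin K {a}) := IntermediateField.adjoin.finiteDimensional hint
  have hfin : Finite (IntermediateField.adjoin K {a}) := Module.finite_of_finite K
  rw [h1]
  refine ⟨?_, Set.toFinite _⟩
  have h4 : Nat.card (IntermediateField.adjoin K {a}) = Nat.card K ^ f.natDegree := by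
    rw [Module.natCard_eq_pow_finrank (K := K), IntermediateField.adjoin.finrank hint, minpoly_eq hf ha]
  rw [← h4]
  rfl

theorem root_pow {f : K[X]} (hf : Irr' f) {a : Kb} (ha : aeval a f = 0) : a ^ Nat.card K ^ f.natDegree = a := by
  have hint : IsIntegral K a := Algebra.IsIntegral.isIntegral a
  have hfd : FiniteDimensional K (IntermediateField.adjoin K {a}) := IntermediateField.adjoin.finiteDimensional hint
  have hfin : Finite (IntermediateField.adjoin K {a}) := Module.finite_of_finite K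
  have := Fintype.ofFinite (IntermediateField.adjoin K {a})
  have h4 : Nat.card (IntermediateField.adjoin K {a}) = Nat.card K ^ f.natDegree := by
    rw [Module.natCard_eq_pow_finrank (K := K), IntermediateField.adjoin.finrank hint, minpoly_eq hf ha]
  have h5 := FiniteField.pow_card (⟨a, IntermediateField.mem_adjoin_simple_self K a⟩ : IntermediateField.adjoin K {a})
  rw [← Nat.card_eq_fintype_card, h4] at h5
  exact congrArg Subtype.val h5

theorem one_lt_pow {d : ℕ} (hd : 0 < d) : 1 < Nat.card K ^ d := Nat.one_lt_pow hd.ne' one_lt_card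

/-- the elements of the field generated by `a` -/
theorem mem_aeval {f : K[X]} (hf : Irr' f) {a : Kb} (ha : aeval a f = 0) {x : Kb}
    (hx : x ^ Nat.card K ^ f.natDegree = x) : ∃ P : K[X], x = aeval a P := by
  have h1 := ncard_self (L := Kb) (one_lt_pow (K := K) (natDegree_pos hf))
  have h2 := card_adjoin hf ha
  have h3 : (Set.range fun P : K[X] => (aeval a P : Kb)) ⊆ {x : Kb | x ^ Nat.card K ^ f.natDegree = x} := by
    rintro _ ⟨P, rfl⟩
    rw [Set.mem_ofPred_eq, ← aeval_pow, root_pow hf ha]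
  have h4 := Set.eq_of_subset_of_ncard_le h3 (by rw [h2.1]; exact h1.2) h1.1
  have h5 : x ∈ {x : Kb | x ^ Nat.card K ^ f.natDegree = x} := hx
  rw [← h4] at h5
  obtain ⟨P, hP⟩ := h5
  exact ⟨P, hP.symm⟩

/-- `a` is in no smaller field -/
theorem le_of_pow {f : K[X]} (hf : Irr' f) {a : Kb} (ha : aeval a f = 0) {c : ℕ} (hc : 0 < c)
    (h : a ^ Nat.card K ^ c = a) : f.natDegree ≤ c := by
  have h1 := ncard_self (L := Kb) (one_lt_pow (K := K) hc)
  have h2 := card_adjoin hf ha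
  have h3 : (Set.range fun P : K[X] => (aeval a P : Kb)) ⊆ {x : Kb | x ^ Nat.card K ^ c = x} := by
    rintro _ ⟨P, rfl⟩
    rw [Set.mem_ofPred_eq, ← aeval_pow, h]
  have h4 := (Set.ncard_le_ncard h3 h1.1).trans h1.2
  rw [h2.1] at h4
  exact (Nat.pow_le_pow_iff_right one_lt_card).1 h4

theorem pow_inj {n : ℕ} {x y : Kb} (h : x ^ Nat.card K ^ n = y ^ Nat.card K ^ n) : x = y := by
  have := Fintype.ofFinite K
  have h1 : ∀ x y : Kb, x ^ Nat.card K = y ^ Nat.card K → x = y := by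
    intro x y hxy
    apply (FiniteField.frobeniusAlgHom K Kb).toRingHom.injective
    have h2 : ∀ z : Kb, (FiniteField.frobeniusAlgHom K Kb).toRingHom z = z ^ Nat.card K := by
      intro z
      rw [Nat.card_eq_fintype_card]
      rfl
    rw [h2, h2]
    exact hxy
  induction n with
  | zero => simpa using h
  | succ n ih =>
    apply ih
    apply h1
    rw [← pow_mul, ← pow_mul, ← pow_succ]
    exact h

theorem orbit_eq {f : K[X]} (hf : Irr' f) {a : Kb} (ha : aeval a f = 0) :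
    (∀ x : Kb, x ∈ f.aroots Kb ↔ aeval x f = 0) ∧
    (∀ b : Kb, aeval b f = 0 → ∃ i < f.natDegree, b = a ^ Nat.card K ^ i) ∧
    {x : Kb | aeval x f = 0}.Finite ∧ {x : Kb | aeval x f = 0}.ncard = f.natDegree := by
  classical
  have h0 : f.map (algebraMap K Kb) ≠ 0 := (Polynomial.map_ne_zero_iff (algebraMap K Kb).injective).2 hf.1.ne_zero
  have hmem' : ∀ x : Kb, x ∈ f.aroots Kb ↔ aeval x f = 0 := by
    intro x
    rw [mem_aroots']
    exact ⟨fun h => h.2, fun h => ⟨h0, h⟩⟩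
  have hmem : ∀ x : Kb, x ∈ (f.aroots Kb).toFinset ↔ aeval x f = 0 := by
    intro x
    rw [Multiset.mem_toFinset, hmem']
  have hinj : Set.InjOn (fun i => a ^ Nat.card K ^ i) (Finset.range f.natDegree : Set ℕ) := by
    have key : ∀ i j, i < j → j < f.natDegree → a ^ Nat.card K ^ i ≠ a ^ Nat.card K ^ j := by
      intro i j hij hj h
      have h1 : a ^ Nat.card K ^ (j - i) = a := by
        apply pow_inj (n := i)
        rw [← pow_mul, ← pow_add, Nat.sub_add_cancel hij.le, h]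
      have := le_of_pow hf ha (by omega) h1
      omega
    intro i hi j hj h
    rw [Finset.mem_coe, Finset.mem_range] at hi hj
    rcases lt_trichotomy i j with h1 | h1 | h1
    · exact absurd h (key i j h1 hj)
    · exact h1
    · exact absurd h.symm (key j i h1 hi)
  have h1 : (Finset.range f.natDegree).image (fun i => a ^ Nat.card K ^ i) = (f.aroots Kb).toFinset := by
    apply Finset.eq_of_subset_of_card_le
    · intro x hx
      rw [Finset.mem_image] at hx
      obtain ⟨i, -, rfl⟩ := hx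
      rw [hmem, aeval_pow, ha, zero_pow (pow_ne_zero _ (by have := one_lt_card (K := K); omega))]
    · rw [Finset.card_image_of_injOn hinj, Finset.card_range]
      exact (Multiset.toFinset_card_le _).trans ((card_roots' _).trans natDegree_map_le)
  have hset : {x : Kb | aeval x f = 0} = ((f.aroots Kb).toFinset : Set Kb) := by
    ext x
    rw [Finset.mem_coe, hmem, Set.mem_ofPred_eq]
  refine ⟨hmem', fun b hb => ?_, ?_, ?_⟩
  · have h2 := (hmem b).2 hb
    rw [← h1, Finset.mem_image] at h2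
    obtain ⟨i, hi, h3⟩ := h2
    exact ⟨i, Finset.mem_range.1 hi, h3.symm⟩
  · rw [hset]; exact Finset.finite_toSet _
  · rw [hset, Set.ncard_coe_finset, ← h1, Finset.card_image_of_injOn hinj, Finset.card_range]

theorem roots_conj {f : K[X]} (hf : Irr' f) {a b : Kb} (ha : aeval a f = 0) (hb : aeval b f = 0) :
    ∃ i < f.natDegree, b = a ^ Nat.card K ^ i := (orbit_eq hf ha).2.1 b hb

theorem exists_root {f : K[X]} (hf : Irr' f) : ∃ a : Kb, aeval a f = 0 := by
  have h := IsAlgClosed.exists_aeval_eq_zero Kb f (by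
    rw [degree_eq_natDegree hf.1.ne_zero]
    exact_mod_cast (natDegree_pos hf).ne')
  exact h

end roots

end Cfsg.Agent.H244.Rg
end

-- part: H244/Rg/Sd
section
/-!
# S5714 [C6]: self-dual polynomials and coincidences between powers of roots
-/

set_option autoImplicit false

namespace Cfsg.Agent.H244.Rg

open Polynomial Module Cfsg.Agent.H141.Rg

section sigma

variable {K : Type*} [Field K] [Finite K] {p : ℕ} [hp : Fact p.Prime] [CharP K p] {σ : K →+* K} {s : ℕ}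

local notation "Kb" => AlgebraicClosure K

omit hp [CharP K p] in
theorem exists_prime (K : Type*) [Field K] [Finite K] :
    ∃ p e : ℕ, p.Prime ∧ CharP K p ∧ 0 < e ∧ Nat.card K = p ^ e := by
  have := Fintype.ofFinite K
  obtain ⟨p, hc⟩ := CharP.exists K
  obtain ⟨n, hp, hn⟩ := FiniteField.card K p
  exact ⟨p, n, hp, hc, n.pos, by rw [Nat.card_eq_fintype_card]; exact hn⟩

theorem sigma_pow (σ : K →+* K) : ∃ s, ∀ x, σ x = x ^ p ^ s := by
  let _ : Algebra (ZMod p) K := ZMod.algebra K p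
  let τ : K →ₐ[ZMod p] K :=
    { σ with
      commutes' := fun r => by
        show σ (algebraMap (ZMod p) K r) = algebraMap (ZMod p) K r
        rw [← RingHom.comp_apply]
        congr 1
        exact Subsingleton.elim _ _ }
  obtain ⟨n, hn⟩ := (FiniteField.bijective_frobeniusAlgHom_pow (ZMod p) K).2 τ
  refine ⟨n.1, fun x => ?_⟩
  have h1 := DFunLike.congr_fun hn x
  simp only [AlgHom.coe_pow, FiniteField.coe_frobeniusAlgHom, pow_iterate, ZMod.card] at h1
  exact h1.symm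

instance charP_bar : CharP Kb p := charP_of_injective_algebraMap (algebraMap K Kb).injective p

theorem frob_aeval (n : ℕ) (x : Kb) (P : K[X]) (τ : K →+* K) (hτ : ∀ y, τ y = y ^ p ^ n) :
    aeval (x ^ p ^ n) (P.map τ) = (aeval x P) ^ p ^ n := by
  have h1 := Polynomial.hom_eval₂ P (algebraMap K Kb) (iterateFrobenius Kb p n) x
  rw [aeval_def, aeval_def, eval₂_map, ← iterateFrobenius_def, ← iterateFrobenius_def, h1]
  congr 1
  ext y
  rw [RingHom.comp_apply, RingHom.comp_apply, iterateFrobenius_def, hτ, map_pow]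

theorem pow_inj' {n : ℕ} {x y : Kb} (h : x ^ p ^ n = y ^ p ^ n) : x = y := by
  rw [← iterateFrobenius_def, ← iterateFrobenius_def] at h
  exact (iterateFrobenius Kb p n).injective h

omit [Finite K] hp [CharP K p] in
theorem eval_str {h : K[X]} {a : Kb} (ha : a ≠ 0) (h1 : aeval a (str σ h) = 0) : aeval a⁻¹ (h.map σ) = 0 := by
  have hi : Invertible a⁻¹ := invertibleOfNonzero (inv_ne_zero ha)
  have h2 := eval₂_reverse_mul_pow (algebraMap K Kb) a⁻¹ (h.map σ)
  rw [invOf_eq_inv, inv_inv] at h2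
  rw [aeval_def, ← h2]
  have h3 : eval₂ (algebraMap K Kb) a (h.map σ).reverse = 0 := h1
  rw [h3, zero_mul]

theorem root_str (hs : ∀ y, σ y = y ^ p ^ s) {h : K[X]} {a : Kb} (ha : a ≠ 0) (h1 : aeval a (str σ h) = 0) :
    ∃ b : Kb, aeval b h = 0 ∧ a⁻¹ = b ^ p ^ s := by
  obtain ⟨b, hb⟩ := IsAlgClosed.exists_pow_nat_eq a⁻¹ (pow_pos hp.out.pos s)
  refine ⟨b, ?_, hb.symm⟩
  have h2 := eval_str ha h1
  rw [← hb, frob_aeval s b h σ hs] at h2
  exact pow_eq_zero_iff (pow_pos hp.out.pos s).ne' |>.1 h2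

omit hp [Finite K] [CharP K p] in
theorem aeval_of_dvd {f g : K[X]} {a : Kb} (h : f ∣ g) (ha : aeval a f = 0) : aeval a g = 0 := by
  obtain ⟨w, rfl⟩ := h
  rw [map_mul, ha, zero_mul]

/-- the roots of the self-dual polynomials -/
theorem sd_root (hσ : ∀ x, σ (σ x) = x) {f : K[X]} (hf : Irr' f) (hsd : f ∣ str σ f) {a : Kb} (ha : aeval a f = 0) :
    a ^ 2 = 1 ∨ ∃ n, n ^ 2 = Nat.card K ^ f.natDegree ∧ a ^ (n + 1) = 1 := by
  obtain ⟨p, e, hp', hch, he, hQ⟩ := exists_prime K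
  have hp : Fact p.Prime := ⟨hp'⟩
  obtain ⟨s, hs⟩ := sigma_pow (p := p) σ
  have ha0 := root_ne_zero hf ha
  obtain ⟨b, hb, hab⟩ := root_str hs ha0 (aeval_of_dvd hsd ha)
  obtain ⟨i, hi, rfl⟩ := roots_conj hf ha hb
  have hj : a⁻¹ = a ^ p ^ (e * i + s) := by
    rw [hab, hQ, ← pow_mul, ← pow_mul, ← pow_add]
  set j := e * i + s with hjdef
  have h3 : a ^ (p ^ j + 1) = 1 := by
    rw [pow_succ, ← hj, inv_mul_cancel₀ ha0]
  have ha2 : a ^ p ^ (2 * j) = a := by
    rw [two_mul, pow_add, pow_mul, ← hj, inv_pow, ← hj, inv_inv]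
  -- the power map fixes `K`
  have hK : ∀ y : K, (RingHom.id K) y = y ^ p ^ (2 * j) := by
    intro y
    have h4 : y ^ p ^ (2 * s) = y := by
      rw [two_mul, pow_add, pow_mul, ← hs, ← hs, hσ]
    have h5 : y ^ Nat.card K = y := by
      have := Fintype.ofFinite K
      rw [Nat.card_eq_fintype_card, FiniteField.pow_card]
    have h6 : ∀ n : ℕ, y ^ Nat.card K ^ n = y := by
      intro n
      induction n with
      | zero => simp
      | succ n ih => rw [pow_succ, pow_mul, ih, h5]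
    have h7 : p ^ (2 * j) = Nat.card K ^ (2 * i) * p ^ (2 * s) := by
      rw [hQ, ← pow_mul, ← pow_add]
      congr 1
      rw [hjdef]; ring
    rw [RingHom.id_apply, h7, pow_mul, h6, h4]
  set m := e * f.natDegree with hm
  have hQd : Nat.card K ^ f.natDegree = p ^ m := by rw [hQ, ← pow_mul]
  have hmpos : 0 < m := Nat.mul_pos he (natDegree_pos hf)
  have hfix : ∀ x : Kb, x ^ p ^ m = x → x ^ p ^ (2 * j) = x := by
    intro x hx
    obtain ⟨P, rfl⟩ := mem_aeval hf ha (by rw [hQd]; exact hx)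
    have h4 := frob_aeval (2 * j) a P (RingHom.id K) hK
    rw [ha2, Polynomial.map_id] at h4
    exact h4.symm
  -- `m ∣ 2 j`
  have hdvd : m ∣ 2 * j := by
    by_contra hcon
    have hr : 0 < 2 * j % m := Nat.pos_of_ne_zero fun h => hcon (Nat.dvd_of_mod_eq_zero h)
    have h4 : {x : Kb | x ^ p ^ m = x} ⊆ {x : Kb | x ^ p ^ (2 * j % m) = x} := by
      intro x hx
      rw [Set.mem_ofPred_eq] at hx ⊢
      have h5 := hfix x hx
      rw [← Nat.div_add_mod (2 * j) m, pow_add, pow_mul, pow_mul_self hx] at h5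
      exact h5
    have h5 := ncard_self (L := Kb) (Nat.one_lt_pow hr.ne' hp.out.one_lt)
    have h6 := (Set.ncard_le_ncard h4 h5.1).trans h5.2
    have h7 := card_adjoin hf ha
    have h8 : (Set.range fun P : K[X] => (aeval a P : Kb)) ⊆ {x : Kb | x ^ p ^ m = x} := by
      rintro _ ⟨P, rfl⟩
      rw [Set.mem_ofPred_eq, ← hQd, ← aeval_pow, root_pow hf ha]
    have h9 := (Set.ncard_le_ncard h8 (h5.1.subset h4)).trans h6
    rw [h7.1, hQd] at h9
    have h10 := (Nat.pow_le_pow_iff_right hp.out.one_lt).1 h9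
    have h11 := Nat.mod_lt (2 * j) hmpos
    omega
  have h12 := core1 (L := Kb) (by rw [← hQd]; exact root_pow hf ha) hdvd h3
  rw [hQd]
  exact h12

omit hp [CharP K p] in
theorem b1_root {f : K[X]} (hf : Irr' f) {a b : Kb} (ha : aeval a f = 0) (hb : aeval b f = 0) (hab : a ≠ b) {m : ℕ}
    (h : a ^ m = b ^ m) : ∃ g, 0 < g ∧ g ∣ f.natDegree ∧ g < f.natDegree ∧ (a ^ m) ^ Nat.card K ^ g = a ^ m := by
  obtain ⟨i, hi, rfl⟩ := roots_conj hf ha hb
  have hi0 : i ≠ 0 := by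
    rintro rfl
    exact hab (by rw [pow_zero, pow_one])
  have h1 : (a ^ m) ^ Nat.card K ^ i = a ^ m := by
    rw [← pow_mul, mul_comm, pow_mul]; exact h.symm
  have h2 : (a ^ m) ^ Nat.card K ^ f.natDegree = a ^ m := by
    rw [← pow_mul, mul_comm, pow_mul, root_pow hf ha]
  refine ⟨Nat.gcd i f.natDegree, Nat.gcd_pos_of_pos_left _ (Nat.pos_of_ne_zero hi0), Nat.gcd_dvd_right _ _, ?_, pow_gcd h1 h2⟩
  exact (Nat.le_of_dvd (Nat.pos_of_ne_zero hi0) (Nat.gcd_dvd_left _ _)).trans_lt hi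

theorem b1_sd_root (hσ : ∀ x, σ (σ x) = x) {f : K[X]} (hf : Irr' f) (hsd : f ∣ str σ f) {a b : Kb}
    (ha : aeval a f = 0) (hb : aeval b f = 0) (hab : a ≠ b) {m : ℕ} (h : a ^ m = b ^ m) :
    (a ^ m) ^ 2 = 1 ∨ ∃ g, 0 < g ∧ 3 * g ≤ f.natDegree ∧ (a ^ m) ^ Nat.card K ^ g = a ^ m := by
  obtain ⟨g, hg0, hgd, hlt, hc⟩ := b1_root hf ha hb hab h
  rcases sd_root hσ hf hsd ha with h2 | ⟨n, hn, h2⟩
  · left
    rw [← pow_mul, mul_comm, pow_mul, h2, one_pow]
  · obtain ⟨u, hu⟩ := hgd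
    have hc1 : (a ^ m) ^ (n + 1) = 1 := by rw [← pow_mul, mul_comm, pow_mul, h2, one_pow]
    rcases Nat.even_or_odd' u with ⟨v, hv | hv⟩
    · left
      have h3 : n = Nat.card K ^ (g * v) := by
        apply Nat.pow_left_injective (n := 2) (by norm_num)
        show n ^ 2 = _ ^ 2
        rw [hn, hu, hv, ← pow_mul]
        congr 1; ring
      rw [pow_succ, h3, pow_mul_self hc] at hc1
      rw [pow_two]; exact hc1
    · right
      refine ⟨g, hg0, ?_, hc⟩
      have hv0 : v ≠ 0 := by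
        rintro rfl
        rw [hv] at hu
        omega
      rw [hu, hv]
      nlinarith only [Nat.pos_of_ne_zero hv0]

theorem dual_root (hs : ∀ y, σ y = y ^ p ^ s) {f h : K[X]} (hf : Irr' f) (hh : Irr' h) (hd : f ∣ str σ h) {a b : Kb}
    (ha : aeval a f = 0) (hb : aeval b h = 0) {m : ℕ} (hab : a ^ m = b ^ m) :
    ∃ i < h.natDegree, (b ^ m) ^ (p ^ s * Nat.card K ^ i + 1) = 1 := by
  have ha0 := root_ne_zero hf ha
  obtain ⟨b', hb', h1⟩ := root_str hs ha0 (aeval_of_dvd hd ha)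
  obtain ⟨i, hi, rfl⟩ := roots_conj hh hb hb'
  refine ⟨i, hi, ?_⟩
  have h2 : (b ^ m) ^ (p ^ s * Nat.card K ^ i) = (a ^ m)⁻¹ := by
    rw [← inv_pow, h1, ← pow_mul, ← pow_mul, ← pow_mul]
    congr 1; ring
  rw [pow_succ, h2, hab, inv_mul_cancel₀]
  exact pow_ne_zero _ (root_ne_zero hh hb)

theorem dual_unique (hs : ∀ y, σ y = y ^ p ^ s) {h h' : K[X]} (hh : Irr' h) (hh' : Irr' h') {a : Kb} (ha : a ≠ 0)
    (h1 : aeval a (str σ h) = 0) (h2 : aeval a (str σ h') = 0) : h = h' := by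
  obtain ⟨b, hb, h3⟩ := root_str hs ha h1
  obtain ⟨b', hb', h4⟩ := root_str hs ha h2
  have h5 : b = b' := pow_inj' (p := p) (n := s) (h3.symm.trans h4)
  rw [← minpoly_eq hh hb, ← minpoly_eq hh' hb', h5]

/-! ### counting -/

omit hp [CharP K p] in
theorem one_le_sqrt (d : ℕ) : 1 ≤ Real.sqrt ((Nat.card K : ℝ) ^ d) := by
  rw [Real.one_le_sqrt]
  apply one_le_pow₀
  exact_mod_cast (one_lt_card (K := K)).le

omit hp [CharP K p] [Finite K] in
theorem ncard_two {n : ℕ} {x : ℝ} (hx : 1 ≤ x) (hn : (n : ℝ) ≤ x) :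
    ({c : Kb | c ^ 2 = 1} ∪ {c : Kb | c ^ (n + 1) = 1}).Finite ∧
      (({c : Kb | c ^ 2 = 1} ∪ {c : Kb | c ^ (n + 1) = 1}).ncard : ℝ) ≤ 4 * x := by
  have h1 := ncard_nth (L := Kb) (n := 2) (by norm_num) 1
  have h2 := ncard_nth (L := Kb) (n := n + 1) (by omega) 1
  refine ⟨h1.1.union h2.1, ?_⟩
  have h3 : (({c : Kb | c ^ 2 = 1} ∪ {c : Kb | c ^ (n + 1) = 1}).ncard : ℝ) ≤ 2 + (n + 1) := by
    have h4 := (Set.ncard_union_le {c : Kb | c ^ 2 = 1} {c : Kb | c ^ (n + 1) = 1}).trans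
      (Nat.add_le_add h1.2 h2.2)
    exact_mod_cast h4
  linarith only [hx, hn, h3]

omit [Finite K] in
theorem count_c [Finite K] {e : ℕ} (he : 0 < e) (j : ℕ) :
    {c : Kb | c ^ Nat.card K ^ e = c ∧ c ^ (p ^ j + 1) = 1}.Finite ∧
      ({c : Kb | c ^ Nat.card K ^ e = c ∧ c ^ (p ^ j + 1) = 1}.ncard : ℝ) ≤
        4 * Real.sqrt ((Nat.card K : ℝ) ^ e) := by
  have hch : ∃ e, 0 < e ∧ Nat.card K = p ^ e := by
    have := Fintype.ofFinite K
    obtain ⟨n, -, hn⟩ := FiniteField.card K p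
    exact ⟨n, n.pos, by rw [Nat.card_eq_fintype_card]; exact hn⟩
  obtain ⟨f, hf, hQ⟩ := hch
  set m := f * e with hm
  have hmpos : 0 < m := Nat.mul_pos hf he
  have hQe : Nat.card K ^ e = p ^ m := by rw [hQ, ← pow_mul]
  set g := Nat.gcd m (2 * j) with hg
  set n := Nat.sqrt (p ^ g) with hn
  have hsub : {c : Kb | c ^ Nat.card K ^ e = c ∧ c ^ (p ^ j + 1) = 1} ⊆
      {c : Kb | c ^ 2 = 1} ∪ {c : Kb | c ^ (n + 1) = 1} := by
    rintro c ⟨h1, h2⟩
    rw [hQe] at h1
    have hc0 : c ≠ 0 := by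
      rintro rfl
      rw [zero_pow (by omega)] at h2
      exact zero_ne_one h2
    have h3 : c ^ p ^ j = c⁻¹ := by
      rw [pow_succ] at h2
      exact eq_inv_of_mul_eq_one_left h2
    have h4 : c ^ p ^ (2 * j) = c := by
      rw [two_mul, pow_add, pow_mul, h3, inv_pow, h3, inv_inv]
    rcases core1 (pow_gcd h1 h4) (Nat.gcd_dvd_right _ _) h2 with h5 | ⟨n', h5, h6⟩
    · exact Or.inl h5
    · right
      have h7 : n = n' := by rw [hn, hg, ← h5, Nat.sqrt_eq' n']
      rw [Set.mem_ofPred_eq, h7]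
      exact h6
  have hnle : (n : ℝ) ≤ Real.sqrt ((Nat.card K : ℝ) ^ e) := by
    apply Real.le_sqrt_of_sq_le
    have h1 : n ^ 2 ≤ Nat.card K ^ e := by
      refine (Nat.sqrt_le' _).trans ?_
      rw [hQe]
      exact Nat.pow_le_pow_right hp.out.pos (Nat.le_of_dvd hmpos (Nat.gcd_dvd_left _ _))
    exact_mod_cast h1
  have h8 := ncard_two (K := K) (n := n) (one_le_sqrt e) hnle
  refine ⟨h8.1.subset hsub, le_trans ?_ h8.2⟩
  exact_mod_cast Set.ncard_le_ncard hsub h8.1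

/-- the roots of the self-dual polynomials of degree `d` -/
def SdR (σ : K →+* K) (d : ℕ) : Set Kb := {a | ∃ f : K[X], Irr' f ∧ f.natDegree = d ∧ f ∣ str σ f ∧ aeval a f = 0}

theorem sd_count (hσ : ∀ x, σ (σ x) = x) (d : ℕ) :
    (SdR σ d).Finite ∧ ((SdR σ d).ncard : ℝ) ≤ 4 * Real.sqrt ((Nat.card K : ℝ) ^ d) := by
  set n := Nat.sqrt (Nat.card K ^ d) with hn
  have hsub : SdR σ d ⊆ {c : Kb | c ^ 2 = 1} ∪ {c : Kb | c ^ (n + 1) = 1} := by
    rintro a ⟨f, hf, rfl, hsd, ha⟩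
    rcases sd_root hσ hf hsd ha with h5 | ⟨n', h5, h6⟩
    · exact Or.inl h5
    · right
      have h7 : n = n' := by rw [hn, ← h5, Nat.sqrt_eq' n']
      rw [Set.mem_ofPred_eq, h7]
      exact h6
  have hnle : (n : ℝ) ≤ Real.sqrt ((Nat.card K : ℝ) ^ d) := by
    apply Real.le_sqrt_of_sq_le
    have h1 : n ^ 2 ≤ Nat.card K ^ d := Nat.sqrt_le' _
    exact_mod_cast h1
  have h8 := ncard_two (K := K) (n := n) (one_le_sqrt d) hnle
  refine ⟨h8.1.subset hsub, le_trans ?_ h8.2⟩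
  exact_mod_cast Set.ncard_le_ncard hsub h8.1

end sigma

end Cfsg.Agent.H244.Rg
end

-- part: H244/Rg/Cnt
section
/-!
# S5714 [C6]: counting lemmas, the degree `ed`, finite sums
-/

set_option autoImplicit false

namespace Cfsg.Agent.H244.Rg

open Polynomial Module Cfsg.Agent.H141.Rg

section fin

variable {ι : Type*}

theorem finsum_le {S : Set ι} (hS : S.Finite) {g : ι → ℝ} {B N : ℝ} (hB : 0 ≤ B) (hN : (S.ncard : ℝ) ≤ N)
    (h : ∀ x ∈ S, g x ≤ B) : ∑ᶠ x ∈ S, g x ≤ N * B := by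
  rw [finsum_mem_eq_finite_toFinset_sum g hS]
  have h1 := Finset.sum_le_card_nsmul hS.toFinset g B (fun x hx => h x (hS.mem_toFinset.1 hx))
  rw [← Set.ncard_eq_toFinset_card S hS, nsmul_eq_mul] at h1
  exact h1.trans (mul_le_mul_of_nonneg_right hN hB)

theorem finsum_split {S : Set ι} (hS : S.Finite) (A : Set ι) {g : ι → ℝ} {X Y : ℝ} (h1 : ∑ᶠ x ∈ S ∩ A, g x ≤ X)
    (h2 : ∑ᶠ x ∈ S \ A, g x ≤ Y) : ∑ᶠ x ∈ S, g x ≤ X + Y := by
  rw [← finsum_mem_inter_add_sdiff A hS (f := g)]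
  exact add_le_add h1 h2

variable {L : Type*} [Field L]

open Classical in
/-- triples -/
theorem triples {S : Set ι} {k : ℕ} {C : Set L} (hC : C.Finite) (G : ℕ → L → L) (P : ι → ℕ → L → L → Prop)
    (h : ∀ x ∈ S, ∃ m c a, 1 ≤ m ∧ m < k ∧ c ∈ C ∧ a ^ m = G m c ∧ P x m c a)
    (hinj : ∀ x ∈ S, ∀ y ∈ S, ∀ m c a, P x m c a → P y m c a → x = y) :
    S.Finite ∧ (S.ncard : ℝ) ≤ (k : ℝ) ^ 2 * C.ncard := by
  let T : Finset (ℕ × L × L) := (Finset.range k).biUnion fun m => hC.toFinset.biUnion fun c =>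
    ((nthRoots m (G m c)).toFinset).image fun a => (m, c, a)
  have hT : T.card ≤ k * (C.ncard * k) := by
    calc T.card ≤ ∑ m ∈ Finset.range k, (hC.toFinset.biUnion fun c =>
          ((nthRoots m (G m c)).toFinset).image fun a => (m, c, a)).card := Finset.card_biUnion_le
      _ ≤ ∑ _m ∈ Finset.range k, C.ncard * k := by
        apply Finset.sum_le_sum
        intro m hm
        rw [Finset.mem_range] at hm
        calc (hC.toFinset.biUnion fun c => ((nthRoots m (G m c)).toFinset).image fun a => (m, c, a)).card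
            ≤ ∑ c ∈ hC.toFinset, (((nthRoots m (G m c)).toFinset).image fun a => (m, c, a)).card :=
              Finset.card_biUnion_le
          _ ≤ ∑ _c ∈ hC.toFinset, k := by
            apply Finset.sum_le_sum
            intro c _
            exact Finset.card_image_le.trans ((Multiset.toFinset_card_le _).trans ((card_nthRoots _ _).trans hm.le))
          _ = C.ncard * k := by rw [Finset.sum_const, smul_eq_mul, ← Set.ncard_eq_toFinset_card C hC]
      _ = k * (C.ncard * k) := by rw [Finset.sum_const, smul_eq_mul, Finset.card_range]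
  choose! m c a h1 h2 h3 h4 h5 using h
  have hmap : ∀ x ∈ S, (fun x => (m x, c x, a x)) x ∈ (T : Set (ℕ × L × L)) := by
    intro x hx
    show (m x, c x, a x) ∈ T
    rw [Finset.mem_biUnion]
    refine ⟨m x, Finset.mem_range.2 (h2 x hx), ?_⟩
    rw [Finset.mem_biUnion]
    refine ⟨c x, hC.mem_toFinset.2 (h3 x hx), ?_⟩
    rw [Finset.mem_image]
    exact ⟨a x, Multiset.mem_toFinset.2 ((mem_nthRoots (h1 x hx)).2 (h4 x hx)), rfl⟩
  have hin : Set.InjOn (fun x => (m x, c x, a x)) S := by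
    intro x hx y hy hxy
    simp only [Prod.mk.injEq] at hxy
    refine hinj x hx y hy (m x) (c x) (a x) (h5 x hx) ?_
    rw [hxy.1, hxy.2.1, hxy.2.2]
    exact h5 y hy
  have hfin : S.Finite := Set.Finite.of_finite_image ((Finset.finite_toSet T).subset (Set.image_subset_iff.2 hmap)) hin
  refine ⟨hfin, ?_⟩
  have h6 : S.ncard ≤ T.card := by
    rw [← Set.ncard_coe_finset]
    exact Set.ncard_le_ncard_of_injOn _ hmap hin (Finset.finite_toSet T)
  calc (S.ncard : ℝ) ≤ T.card := by exact_mod_cast h6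
    _ ≤ (k * (C.ncard * k) : ℕ) := by exact_mod_cast hT
    _ = (k : ℝ) ^ 2 * C.ncard := by push_cast; ring

/-- unions -/
theorem ncard_iUnion {n : ℕ} {B : ℝ} (hB : 0 ≤ B) (f : ℕ → Set L) (h : ∀ i < n, (f i).Finite ∧ ((f i).ncard : ℝ) ≤ B) :
    {c : L | ∃ i < n, c ∈ f i}.Finite ∧ ({c : L | ∃ i < n, c ∈ f i}.ncard : ℝ) ≤ n * B := by
  induction n with
  | zero =>
    have h1 : {c : L | ∃ i < 0, c ∈ f i} = ∅ := by
      ext c
      simp
    rw [h1]
    simp
  | succ n ih =>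
    have h1 : {c : L | ∃ i < n + 1, c ∈ f i} = {c : L | ∃ i < n, c ∈ f i} ∪ f n := by
      ext c
      simp only [Set.mem_ofPred_eq, Set.mem_union]
      constructor
      · rintro ⟨i, hi, hc⟩
        rcases Nat.lt_succ_iff_lt_or_eq.1 hi with h2 | rfl
        · exact Or.inl ⟨i, h2, hc⟩
        · exact Or.inr hc
      · rintro (⟨i, hi, hc⟩ | hc)
        · exact ⟨i, hi.trans (Nat.lt_succ_self n), hc⟩
        · exact ⟨n, Nat.lt_succ_self n, hc⟩
    have h2 := ih fun i hi => h i (hi.trans (Nat.lt_succ_self n))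
    have h3 := h n (Nat.lt_succ_self n)
    rw [h1]
    refine ⟨h2.1.union h3.1, ?_⟩
    have h4 : (({c : L | ∃ i < n, c ∈ f i} ∪ f n).ncard : ℝ) ≤ ({c : L | ∃ i < n, c ∈ f i}.ncard : ℝ) + (f n).ncard := by
      exact_mod_cast Set.ncard_union_le _ _
    push_cast
    linarith [h2.2, h3.2]

end fin

section edeg

variable {K : Type*} [Field K] {σ : K →+* K}

open Classical in
theorem ed_le {f : K[X]} (hf : f ≠ 0) : ed σ f ≤ f.natDegree :=
  natDegree_le_of_dvd (EuclideanDomain.gcd_dvd_left _ _) hf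

theorem str_mul (f g : K[X]) : str σ (f * g) = str σ f * str σ g := by
  unfold str
  rw [Polynomial.map_mul, reverse_mul_of_domain]

theorem str_one : str σ (1 : K[X]) = 1 := by
  unfold str
  rw [Polynomial.map_one]
  exact reverse_C (1 : K)

theorem str_pow (f : K[X]) (n : ℕ) : str σ (f ^ n) = str σ f ^ n := by
  induction n with
  | zero => rw [pow_zero, pow_zero, str_one]
  | succ n ih => rw [pow_succ, pow_succ, str_mul, ih]

open Classical in
theorem ed_pow_eq_zero {f : K[X]} (hf : Irr' f) (h : ¬ f ∣ str σ f) (n : ℕ) : ed σ (f ^ n) = 0 := by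
  unfold ed
  apply natDegree_eq_zero_of_isUnit
  rw [EuclideanDomain.gcd_isUnit_iff, str_pow]
  exact ((hf.2.1.coprime_iff_not_dvd).2 h).pow

theorem ed_eq_zero {f : K[X]} (hf : Irr' f) (h : ¬ f ∣ str σ f) : ed σ f = 0 := by
  have := ed_pow_eq_zero hf h 1
  rwa [pow_one] at this

open Classical in
theorem ed_mul_le {f h : K[X]} (hf : Irr' f) (hh : Irr' h) (h1 : ¬ h ∣ str σ h) (h2 : ¬ h ∣ str σ f) :
    ed σ (f * h) ≤ f.natDegree := by
  unfold ed
  apply natDegree_le_of_dvd _ hf.1.ne_zero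
  have h3 : IsCoprime h (str σ (f * h)) := by
    rw [str_mul, hh.2.1.coprime_iff_not_dvd]
    intro h4
    rcases hh.2.1.prime.dvd_or_dvd h4 with h5 | h5
    · exact h2 h5
    · exact h1 h5
  have h4 : IsCoprime h (EuclideanDomain.gcd (f * h) (str σ (f * h))) :=
    h3.of_isCoprime_of_dvd_right (EuclideanDomain.gcd_dvd_right _ _)
  exact h4.symm.dvd_of_dvd_mul_right (EuclideanDomain.gcd_dvd_left _ _)

end edeg

section polys

variable {K : Type*} [Field K] [Finite K]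

local notation "Kb" => AlgebraicClosure K

/-- the number of polynomials and the number of roots -/
theorem polys_count {S : Set K[X]} {d : ℕ} (hS : ∀ f ∈ S, Irr' f ∧ f.natDegree = d) {R : Set Kb} (hR : R.Finite)
    (h : ∀ f ∈ S, ∀ a : Kb, aeval a f = 0 → a ∈ R) : S.Finite ∧ d * S.ncard ≤ R.ncard := by
  classical
  have hex : ∀ f ∈ S, ∃ a : Kb, aeval a f = 0 := fun f hf => exists_root (hS f hf).1
  choose! r hr using hex
  have hin : Set.InjOn r S := by
    intro f hf g hg hfg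
    rw [← minpoly_eq (hS f hf).1 (hr f hf), ← minpoly_eq (hS g hg).1 (hr g hg), hfg]
  have hfin : S.Finite := Set.Finite.of_finite_image (hR.subset (Set.image_subset_iff.2 fun f hf => h f hf _ (hr f hf))) hin
  refine ⟨hfin, ?_⟩
  have hfr : ∀ f ∈ S, {x : Kb | aeval x f = 0}.Finite := fun f hf => (orbit_eq (hS f hf).1 (hr f hf)).2.2.1
  have h1 : (hfin.toFinset.biUnion fun f => (f.aroots Kb).toFinset).card = d * S.ncard := by
    rw [Finset.card_biUnion]
    · rw [Finset.sum_congr rfl (g := fun _ => d), Finset.sum_const, smul_eq_mul, ← Set.ncard_eq_toFinset_card S hfin,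
        mul_comm]
      intro f hf
      have hf' := hfin.mem_toFinset.1 hf
      have h2 := orbit_eq (hS f hf').1 (hr f hf')
      rw [← (hS f hf').2, ← h2.2.2.2, ← Set.ncard_coe_finset]
      congr 1
      ext x
      rw [Finset.mem_coe, Multiset.mem_toFinset, h2.1, Set.mem_ofPred_eq]
    · intro f hf g hg hfg
      have hf' := hfin.mem_toFinset.1 hf
      have hg' := hfin.mem_toFinset.1 hg
      show Disjoint (f.aroots Kb).toFinset (g.aroots Kb).toFinset
      rw [Finset.disjoint_left]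
      intro x hx hx'
      rw [Multiset.mem_toFinset, (orbit_eq (hS f hf').1 (hr f hf')).1] at hx
      rw [Multiset.mem_toFinset, (orbit_eq (hS g hg').1 (hr g hg')).1] at hx'
      exact hfg (by rw [← minpoly_eq (hS f hf').1 hx, ← minpoly_eq (hS g hg').1 hx'])
  rw [← h1, ← Set.ncard_coe_finset]
  apply Set.ncard_le_ncard _ hR
  intro x hx
  rw [Finset.mem_coe, Finset.mem_biUnion] at hx
  obtain ⟨f, hf, hx⟩ := hx
  have hf' := hfin.mem_toFinset.1 hf
  rw [Multiset.mem_toFinset, (orbit_eq (hS f hf').1 (hr f hf')).1] at hx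
  exact h f hf' x hx

/-- all polynomials of degree `d` -/
theorem all_count (d : ℕ) (hd : 0 < d) : {f : K[X] | Irr' f ∧ f.natDegree = d}.Finite ∧
    d * ({f : K[X] | Irr' f ∧ f.natDegree = d}.ncard : ℝ) ≤ (Nat.card K : ℝ) ^ d := by
  have h1 := ncard_self (L := Kb) (one_lt_pow (K := K) hd)
  have h2 := polys_count (S := {f : K[X] | Irr' f ∧ f.natDegree = d}) (d := d) (fun f hf => hf) h1.1 (by
    rintro f ⟨hf, rfl⟩ a ha
    exact root_pow hf ha)
  refine ⟨h2.1, ?_⟩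
  exact_mod_cast h2.2.trans h1.2

/-- the self-dual polynomials of degree `d` -/
theorem sdp_count {σ : K →+* K} (hσ : ∀ x, σ (σ x) = x) (d : ℕ) :
    {f : K[X] | Irr' f ∧ f.natDegree = d ∧ f ∣ str σ f}.Finite ∧
    d * ({f : K[X] | Irr' f ∧ f.natDegree = d ∧ f ∣ str σ f}.ncard : ℝ) ≤ 4 * Real.sqrt ((Nat.card K : ℝ) ^ d) := by
  have h1 := sd_count hσ d
  have h2 := polys_count (S := {f : K[X] | Irr' f ∧ f.natDegree = d ∧ f ∣ str σ f}) (d := d)
    (fun f hf => ⟨hf.1, hf.2.1⟩) h1.1 (by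
    rintro f ⟨hf, hd, hs⟩ a ha
    exact ⟨f, hf, hd, hs, ha⟩)
  refine ⟨h2.1, ?_⟩
  refine le_trans ?_ h1.2
  exact_mod_cast h2.2

/-- small subfields -/
theorem count_small (w d : ℕ) (hw : 0 < w) : {c : Kb | ∃ g, 0 < g ∧ w * g ≤ d ∧ c ^ Nat.card K ^ g = c}.Finite ∧
    ({c : Kb | ∃ g, 0 < g ∧ w * g ≤ d ∧ c ^ Nat.card K ^ g = c}.ncard : ℝ) ≤ d * (Nat.card K : ℝ) ^ ((d : ℝ) / w) := by
  have hq : (1 : ℝ) ≤ Nat.card K := by exact_mod_cast (one_lt_card (K := K)).le
  have hB : 0 ≤ (Nat.card K : ℝ) ^ ((d : ℝ) / w) := by positivity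
  have h1 := ncard_iUnion (L := Kb) (n := d) hB
    (fun i => {c : Kb | w * (i + 1) ≤ d ∧ c ^ Nat.card K ^ (i + 1) = c}) (by
      intro i hi
      have h2 := ncard_self (L := Kb) (one_lt_pow (K := K) (Nat.succ_pos i))
      by_cases h3 : w * (i + 1) ≤ d
      · have h4 : {c : Kb | w * (i + 1) ≤ d ∧ c ^ Nat.card K ^ (i + 1) = c} ⊆ {c : Kb | c ^ Nat.card K ^ (i + 1) = c} :=
          fun c hc => hc.2
        refine ⟨h2.1.subset h4, ?_⟩
        have h5 : ((Set.ncard {c : Kb | w * (i + 1) ≤ d ∧ c ^ Nat.card K ^ (i + 1) = c} : ℕ) : ℝ) ≤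
            (Nat.card K : ℝ) ^ (i + 1) := by
          exact_mod_cast (Set.ncard_le_ncard h4 h2.1).trans h2.2
        refine h5.trans ?_
        rw [← Real.rpow_natCast]
        apply Real.rpow_le_rpow_of_exponent_le hq
        rw [le_div_iff₀ (by exact_mod_cast hw), mul_comm]
        exact_mod_cast h3
      · have h4 : {c : Kb | w * (i + 1) ≤ d ∧ c ^ Nat.card K ^ (i + 1) = c} = ∅ := by
          ext c
          simp [h3]
        rw [h4]
        exact ⟨Set.finite_empty, by rw [Set.ncard_empty]; simpa only [_root_.CharP.cast_eq_zero] using hB⟩)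
  have h2 : {c : Kb | ∃ g, 0 < g ∧ w * g ≤ d ∧ c ^ Nat.card K ^ g = c} ⊆
      {c : Kb | ∃ i < d, c ∈ {c : Kb | w * (i + 1) ≤ d ∧ c ^ Nat.card K ^ (i + 1) = c}} := by
    rintro c ⟨g, hg0, hg, hc⟩
    refine ⟨g - 1, ?_, ?_, ?_⟩
    · have : g ≤ w * g := Nat.le_mul_of_pos_left g hw
      omega
    · rw [Nat.sub_add_cancel hg0]; exact hg
    · rw [Nat.sub_add_cancel hg0]; exact hc
  refine ⟨h1.1.subset h2, le_trans ?_ h1.2⟩
  exact_mod_cast Set.ncard_le_ncard h2 h1.1

theorem count_dual {p : ℕ} [Fact p.Prime] [CharP K p] {e : ℕ} (he : 0 < e) (s n : ℕ) :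
    {c : Kb | ∃ i < n, c ∈ {c : Kb | c ^ Nat.card K ^ e = c ∧ c ^ (p ^ s * Nat.card K ^ i + 1) = 1}}.Finite ∧
      ({c : Kb | ∃ i < n, c ∈ {c : Kb | c ^ Nat.card K ^ e = c ∧ c ^ (p ^ s * Nat.card K ^ i + 1) = 1}}.ncard : ℝ) ≤
        n * (4 * Real.sqrt ((Nat.card K : ℝ) ^ e)) := by
  have hch : ∃ e, 0 < e ∧ Nat.card K = p ^ e := by
    have := Fintype.ofFinite K
    obtain ⟨n, -, hn⟩ := FiniteField.card K p
    exact ⟨n, n.pos, by rw [Nat.card_eq_fintype_card]; exact hn⟩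
  obtain ⟨f, hf, hQ⟩ := hch
  apply ncard_iUnion (by positivity)
  intro i _
  have h1 : p ^ s * Nat.card K ^ i = p ^ (s + f * i) := by rw [hQ, ← pow_mul, ← pow_add]
  rw [h1]
  exact count_c he (s + f * i)

end polys

end Cfsg.Agent.H244.Rg
end

-- part: H244/Rg/Sums
section
/-!
# S5714 [C6]: the sums over irreducible polynomials: `sum_rep`, `sum_cyc`, `sum_b1`, `sum_b2`
-/

set_option autoImplicit false

namespace Cfsg.Agent.H244.Rg

open Polynomial Module Cfsg.Agent.H141.Rg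

section real

variable {q : ℝ} (hq : 2 ≤ q)

include hq

theorem two_le_pow {d : ℕ} (hd : 1 ≤ d) : 2 ≤ q ^ d := by
  calc (2 : ℝ) ≤ q := hq
    _ = q ^ 1 := (pow_one q).symm
    _ ≤ q ^ d := pow_le_pow_right₀ (by linarith) hd

theorem half_le {d : ℕ} (hd : 1 ≤ d) : q ^ d / 2 ≤ q ^ d - 1 := by
  have := two_le_pow hq hd
  linarith only [this]

theorem sqrt_mono {a b : ℕ} (hab : a ≤ b) : Real.sqrt (q ^ a) ≤ Real.sqrt (q ^ b) :=
  Real.sqrt_le_sqrt (pow_le_pow_right₀ (by linarith) hab)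

theorem sqrt_rpow (n : ℕ) : Real.sqrt (q ^ n) = q ^ ((n : ℝ) / 2) := by
  rw [Real.sqrt_eq_rpow, ← Real.rpow_natCast, ← Real.rpow_mul (by linarith)]
  congr 1; ring

/-- the first term -/
theorem term_le {d a n : ℕ} (hd : 1 ≤ d) (ha : a ≤ n) :
    Real.sqrt (q ^ a) / (q ^ d - 1) ≤ 2 * q ^ ((n : ℝ) / 2 - d) := by
  have h1 := half_le hq hd
  have h2 := two_le_pow hq hd
  have h3 := sqrt_mono hq ha
  rw [sqrt_rpow hq n] at h3
  have h0 : (0 : ℝ) < q := by linarith only [hq]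
  rw [div_le_iff₀ (by linarith only [h1]), Real.rpow_sub h0, Real.rpow_natCast]
  have h4 : 0 < q ^ ((n : ℝ) / 2) := Real.rpow_pos_of_pos h0 _
  calc Real.sqrt (q ^ a) ≤ q ^ ((n : ℝ) / 2) := h3
    _ = 2 * (q ^ ((n : ℝ) / 2) / q ^ d) * (q ^ d / 2) := by
      field_simp
    _ ≤ 2 * (q ^ ((n : ℝ) / 2) / q ^ d) * (q ^ d - 1) := by
      apply mul_le_mul_of_nonneg_left h1
      positivity

theorem term2_le {d e a n : ℕ} (hd : 1 ≤ d) (he : 1 ≤ e) (ha : a ≤ n) :
    Real.sqrt (q ^ a) / ((q ^ d - 1) * (q ^ e - 1)) ≤ 4 * q ^ ((n : ℝ) / 2 - d - e) := by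
  have h1 := half_le hq hd
  have h2 := two_le_pow hq hd
  have h1' := half_le hq he
  have h2' := two_le_pow hq he
  have h3 := sqrt_mono hq ha
  rw [sqrt_rpow hq n] at h3
  have h0 : (0 : ℝ) < q := by linarith only [hq]
  rw [div_le_iff₀ (mul_pos (by linarith only [h1]) (by linarith only [h1'])), Real.rpow_sub h0, Real.rpow_sub h0, Real.rpow_natCast,
    Real.rpow_natCast]
  have h4 : 0 < q ^ ((n : ℝ) / 2) := Real.rpow_pos_of_pos h0 _
  calc Real.sqrt (q ^ a) ≤ q ^ ((n : ℝ) / 2) := h3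
    _ = 4 * (q ^ ((n : ℝ) / 2) / q ^ d / q ^ e) * ((q ^ d / 2) * (q ^ e / 2)) := by
      field_simp
      norm_num
    _ ≤ 4 * (q ^ ((n : ℝ) / 2) / q ^ d / q ^ e) * ((q ^ d - 1) * (q ^ e - 1)) := by
      apply mul_le_mul_of_nonneg_left _ (by positivity)
      exact mul_le_mul h1 h1' (by positivity) (by linarith only [h1])

end real

theorem two_le_card (K : Type*) [Field K] [Finite K] : (2 : ℝ) ≤ Nat.card K := by
  exact_mod_cast one_lt_card (K := K)

theorem sq_le_cube (k : ℕ) : (k : ℝ) ^ 2 ≤ (k : ℝ) ^ 3 := by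
  rcases Nat.eq_zero_or_pos k with rfl | hk
  · simp
  · exact pow_le_pow_right₀ (by exact_mod_cast hk) (by norm_num)

section sums

variable {K : Type*} [Field K] [Finite K] {σ : K →+* K} (hσ : ∀ x, σ (σ x) = x)

include hσ

/-- **`sum_rep`** -/
theorem sum_rep' {d : ℕ} (hd : 1 ≤ d) :
    (∑ᶠ f ∈ {f : K[X] | Irr' f ∧ f.natDegree = d}, (Real.sqrt ((Nat.card K : ℝ) ^ ed σ f) / ((Nat.card K : ℝ) ^ (2 * d) - 1) +
      Real.sqrt ((Nat.card K : ℝ) ^ ed σ (f ^ 2)) / ((Nat.card K : ℝ) ^ d * ((Nat.card K : ℝ) ^ d - 1)))) ≤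
      20 * (Nat.card K : ℝ) ^ (-(d : ℝ) / 2) := by
  have hq := two_le_card K
  set q : ℝ := (Nat.card K : ℝ) with hqd
  have hd0 : 0 < d := hd
  have hd1 : (1 : ℝ) ≤ d := by exact_mod_cast hd
  obtain ⟨hfin, hall⟩ := all_count (K := K) d hd0
  obtain ⟨-, hsd⟩ := sdp_count hσ d
  have hX := two_le_pow hq hd
  have hX2 : q ^ (2 * d) = q ^ d * q ^ d := by rw [two_mul, pow_add]
  have hx0 : 0 < Real.sqrt (q ^ d) := Real.sqrt_pos.2 (by linarith only [hX])
  have hxx : Real.sqrt (q ^ d) * Real.sqrt (q ^ d) = q ^ d := Real.mul_self_sqrt (by linarith only [hX])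
  have hx1 : 1 ≤ Real.sqrt (q ^ d) := by rw [Real.one_le_sqrt]; linarith only [hX]
  have hs2 : Real.sqrt (q ^ (2 * d)) = q ^ d := by rw [hX2, Real.sqrt_mul_self (by linarith only [hX])]
  have hneg : q ^ (-(d : ℝ) / 2) = 1 / Real.sqrt (q ^ d) := by
    rw [sqrt_rpow hq, neg_div, Real.rpow_neg (by linarith only [hq]), one_div]
  rw [hneg]
  set X : ℝ := q ^ d with hXd
  set x : ℝ := Real.sqrt X with hxd
  have h1 : ∑ᶠ f ∈ {f : K[X] | Irr' f ∧ f.natDegree = d} ∩ {f | f ∣ str σ f},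
      (Real.sqrt (q ^ ed σ f) / (q ^ (2 * d) - 1) + Real.sqrt (q ^ ed σ (f ^ 2)) / (X * (X - 1))) ≤
      (4 * x) * (4 / X) := by
    refine finsum_le (hfin.inter_of_left _) (by positivity) ?_ ?_
    · have h2 : {f : K[X] | Irr' f ∧ f.natDegree = d} ∩ {f | f ∣ str σ f} =
          {f : K[X] | Irr' f ∧ f.natDegree = d ∧ f ∣ str σ f} := by
        ext f
        simp only [Set.mem_inter_iff, Set.mem_ofPred_eq, and_assoc]
      rw [h2]
      refine le_trans ?_ hsd
      exact le_mul_of_one_le_left (Nat.cast_nonneg _) hd1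
    · rintro f ⟨⟨hf, hfd⟩, -⟩
      have e1 : Real.sqrt (q ^ ed σ f) ≤ x := sqrt_mono hq (by rw [← hfd]; exact ed_le hf.1.ne_zero)
      have e2 : Real.sqrt (q ^ ed σ (f ^ 2)) ≤ X := by
        rw [← hs2]
        refine sqrt_mono hq ((ed_le (pow_ne_zero 2 hf.1.ne_zero)).trans ?_)
        rw [natDegree_pow, hfd]
      have e3 : Real.sqrt (q ^ ed σ f) / (q ^ (2 * d) - 1) ≤ 2 / X := by
        rw [hX2, div_le_div_iff₀ (by nlinarith only [hX]) (by linarith only [hX])]
        have e5 : x ≤ X := by nlinarith only [hx0, hxx, hx1]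
        nlinarith only [hX, e1, e5]
      have e4 : Real.sqrt (q ^ ed σ (f ^ 2)) / (X * (X - 1)) ≤ 2 / X := by
        rw [div_le_div_iff₀ (by nlinarith only [hX]) (by linarith only [hX])]
        nlinarith only [hX, e2]
      calc _ ≤ 2 / X + 2 / X := add_le_add e3 e4
        _ = 4 / X := by ring
  have h2 : ∑ᶠ f ∈ {f : K[X] | Irr' f ∧ f.natDegree = d} \ {f | f ∣ str σ f},
      (Real.sqrt (q ^ ed σ f) / (q ^ (2 * d) - 1) + Real.sqrt (q ^ ed σ (f ^ 2)) / (X * (X - 1))) ≤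
      X * (4 / (X * X)) := by
    refine finsum_le (hfin.subset Set.diff_subset) (by (clear * - hq; positivity)) ?_ ?_
    · have h3 : (({f : K[X] | Irr' f ∧ f.natDegree = d} \ {f | f ∣ str σ f}).ncard : ℝ) ≤
          ({f : K[X] | Irr' f ∧ f.natDegree = d}).ncard := by
        exact_mod_cast Set.ncard_le_ncard Set.diff_subset hfin
      refine h3.trans (le_trans ?_ hall)
      exact le_mul_of_one_le_left (Nat.cast_nonneg _) hd1
    · rintro f ⟨⟨hf, hfd⟩, hn⟩
      rw [ed_eq_zero hf hn, ed_pow_eq_zero hf hn, pow_zero, Real.sqrt_one, hX2]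
      have e3 : 1 / (X * X - 1) ≤ 2 / (X * X) := by
        rw [div_le_div_iff₀ (by nlinarith only [hX]) (by nlinarith only [hX])]
        nlinarith only [hX]
      have e4 : 1 / (X * (X - 1)) ≤ 2 / (X * X) := by
        rw [div_le_div_iff₀ (by nlinarith only [hX]) (by nlinarith only [hX])]
        nlinarith only [hX]
      calc _ ≤ 2 / (X * X) + 2 / (X * X) := add_le_add e3 e4
        _ = 4 / (X * X) := by ring
  refine (finsum_split hfin _ h1 h2).trans ?_
  have e1 : 4 * x * (4 / X) = 16 / x := by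
    rw [← hxx]; field_simp; norm_num
  have e2 : X * (4 / (X * X)) = 4 / X := by field_simp
  have e3 : 4 / X ≤ 4 / x := by
    apply div_le_div_of_nonneg_left (by norm_num) hx0
    nlinarith only [hx0, hxx, hx1]
  rw [e1, e2]
  calc 16 / x + 4 / X ≤ 16 / x + 4 / x := by linarith only [e3]
    _ = 20 * (1 / x) := by ring

/-- **`sum_cyc`** -/
theorem sum_cyc' {d : ℕ} (hd : 1 ≤ d) :
    (∑ᶠ f ∈ {f : K[X] | Irr' f ∧ f.natDegree = d}, (d : ℝ) * ∑' j : ℕ, Real.sqrt ((Nat.card K : ℝ) ^ ed σ (f ^ (j + 1))) /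
      ((Nat.card K : ℝ) ^ (d * j) * ((Nat.card K : ℝ) ^ d - 1))) ≤ 36 := by
  have hq := two_le_card K
  set q : ℝ := (Nat.card K : ℝ) with hqd
  have hd0 : 0 < d := hd
  have hd1 : (1 : ℝ) ≤ d := by exact_mod_cast hd
  obtain ⟨hfin, hall⟩ := all_count (K := K) d hd0
  obtain ⟨-, hsd⟩ := sdp_count hσ d
  have hX := two_le_pow hq hd
  have hx0 : 0 < Real.sqrt (q ^ d) := Real.sqrt_pos.2 (by linarith only [hX])
  have hxx : Real.sqrt (q ^ d) * Real.sqrt (q ^ d) = q ^ d := Real.mul_self_sqrt (by linarith only [hX])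
  have hx43 : 4 / 3 ≤ Real.sqrt (q ^ d) := by
    apply Real.le_sqrt_of_sq_le
    linarith only [hX]
  have hxj : ∀ j : ℕ, Real.sqrt (q ^ (d * j)) = Real.sqrt (q ^ d) ^ j := by
    intro j
    induction j with
    | zero => simp
    | succ n ih => rw [Nat.mul_succ, pow_add, Real.sqrt_mul (by positivity), ih, pow_succ]
  set X : ℝ := q ^ d with hXd
  set x : ℝ := Real.sqrt X with hxd
  have hqj : ∀ j : ℕ, q ^ (d * j) = X ^ j := fun j => by rw [pow_mul]
  have hx1 : (1 : ℝ) < x := by linarith only [hx43]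
  have h1 : ∑ᶠ f ∈ {f : K[X] | Irr' f ∧ f.natDegree = d} ∩ {f | f ∣ str σ f},
      ((d : ℝ) * ∑' j : ℕ, Real.sqrt (q ^ ed σ (f ^ (j + 1))) / (q ^ (d * j) * (X - 1))) ≤
      ({f : K[X] | Irr' f ∧ f.natDegree = d ∧ f ∣ str σ f}.ncard : ℝ) * (d * (8 / x)) := by
    refine finsum_le (hfin.inter_of_left _) (by positivity) ?_ ?_
    · have h2 : {f : K[X] | Irr' f ∧ f.natDegree = d} ∩ {f | f ∣ str σ f} =
          {f : K[X] | Irr' f ∧ f.natDegree = d ∧ f ∣ str σ f} := by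
        ext f
        simp only [Set.mem_inter_iff, Set.mem_ofPred_eq, and_assoc]
      rw [h2]
    · rintro f ⟨⟨hf, hfd⟩, -⟩
      apply mul_le_mul_of_nonneg_left _ (by positivity)
      have hb : ∀ j : ℕ, Real.sqrt (q ^ ed σ (f ^ (j + 1))) / (q ^ (d * j) * (X - 1)) ≤ (x / (X - 1)) * (1 / x) ^ j := by
        intro j
        have e1 : Real.sqrt (q ^ ed σ (f ^ (j + 1))) ≤ x ^ (j + 1) := by
          rw [← hxj]
          refine sqrt_mono hq ((ed_le (pow_ne_zero _ hf.1.ne_zero)).trans ?_)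
          rw [natDegree_pow, hfd, mul_comm]
        have e2 : x / (X - 1) * (1 / x) ^ j = x ^ (j + 1) / (X ^ j * (X - 1)) := by
          have e5 : X ^ j = x ^ j * x ^ j := by rw [← hxx, mul_pow]
          have e6 : X - 1 ≠ 0 := by linarith only [hX]
          rw [e5, one_div, inv_pow, pow_succ]
          field_simp
        rw [e2, hqj]
        apply div_le_div_of_nonneg_right e1
        have : 0 < X - 1 := by linarith only [hX]
        (clear * - hq this; positivity)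
      have hx1' : 1 / x < 1 := by rw [div_lt_one hx0]; exact hx1
      have hgeo : Summable fun j : ℕ => (x / (X - 1)) * (1 / x) ^ j :=
        (summable_geometric_of_lt_one (by positivity) hx1').mul_left _
      have hnn : ∀ j : ℕ, 0 ≤ Real.sqrt (q ^ ed σ (f ^ (j + 1))) / (q ^ (d * j) * (X - 1)) := by
        intro j
        have : 0 < X - 1 := by linarith only [hX]
        (clear * - hq this; positivity)
      have hsum := Summable.of_nonneg_of_le hnn hb hgeo
      refine (hsum.tsum_le_tsum hb hgeo).trans ?_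
      rw [tsum_mul_left, tsum_geometric_of_lt_one (by positivity) hx1']
      have e3 : x / (X - 1) ≤ 2 / x := by
        rw [div_le_div_iff₀ (by linarith only [hX]) hx0, hxx]
        linarith only [hX]
      have e4 : (1 - 1 / x)⁻¹ ≤ 4 := by
        rw [inv_le_comm₀ (by linarith only [hx1']) (by norm_num)]
        rw [div_lt_one hx0] at hx1'
        have : 1 / x ≤ 3 / 4 := by
          rw [div_le_div_iff₀ hx0 (by norm_num)]
          linarith only [hx43]
        linarith only [this]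
      calc x / (X - 1) * (1 - 1 / x)⁻¹ ≤ 2 / x * 4 := by
            apply mul_le_mul e3 e4 _ (by positivity)
            rw [inv_nonneg]; linarith only [hx1']
        _ = 8 / x := by ring
  have h2 : ∑ᶠ f ∈ {f : K[X] | Irr' f ∧ f.natDegree = d} \ {f | f ∣ str σ f},
      ((d : ℝ) * ∑' j : ℕ, Real.sqrt (q ^ ed σ (f ^ (j + 1))) / (q ^ (d * j) * (X - 1))) ≤
      ({f : K[X] | Irr' f ∧ f.natDegree = d}.ncard : ℝ) * (d * (4 / X)) := by
    refine finsum_le (hfin.subset Set.diff_subset) (by positivity) ?_ ?_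
    · exact_mod_cast Set.ncard_le_ncard Set.diff_subset hfin
    · rintro f ⟨⟨hf, hfd⟩, hn⟩
      apply mul_le_mul_of_nonneg_left _ (by positivity)
      have hb : ∀ j : ℕ, Real.sqrt (q ^ ed σ (f ^ (j + 1))) / (q ^ (d * j) * (X - 1)) = (1 / (X - 1)) * (1 / X) ^ j := by
        intro j
        rw [ed_pow_eq_zero hf hn, pow_zero, Real.sqrt_one, hqj, one_div, one_div, one_div, mul_inv, inv_pow, mul_comm]
      have hX1 : 1 / X < 1 := by rw [div_lt_one (by linarith only [hX])]; linarith only [hX]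
      rw [tsum_congr hb, tsum_mul_left, tsum_geometric_of_lt_one (by positivity) hX1]
      have e3 : 1 / (X - 1) ≤ 2 / X := by
        rw [div_le_div_iff₀ (by linarith only [hX]) (by linarith only [hX])]
        linarith only [hX]
      have e5 : 1 / X ≤ 1 / 2 := by
        rw [div_le_div_iff₀ (by linarith only [hX]) (by norm_num)]
        linarith only [hX]
      have e4 : (1 - 1 / X)⁻¹ ≤ 2 := by
        rw [inv_le_comm₀ (by linarith only [hX1]) (by norm_num)]
        linarith only [e5]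
      calc 1 / (X - 1) * (1 - 1 / X)⁻¹ ≤ 2 / X * 2 := by
            apply mul_le_mul e3 e4 _ (by positivity)
            rw [inv_nonneg]; linarith only [hX1]
        _ = 4 / X := by ring
  refine (finsum_split hfin _ h1 h2).trans ?_
  have e1 : ({f : K[X] | Irr' f ∧ f.natDegree = d ∧ f ∣ str σ f}.ncard : ℝ) * (d * (8 / x)) ≤ 32 := by
    calc ({f : K[X] | Irr' f ∧ f.natDegree = d ∧ f ∣ str σ f}.ncard : ℝ) * (d * (8 / x))
        = (d * ({f : K[X] | Irr' f ∧ f.natDegree = d ∧ f ∣ str σ f}.ncard : ℝ)) * (8 / x) := by ring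
      _ ≤ (4 * x) * (8 / x) := by
        apply mul_le_mul_of_nonneg_right _ (by positivity)
        exact hsd
      _ = 32 := by field_simp; norm_num
  have e2 : ({f : K[X] | Irr' f ∧ f.natDegree = d}.ncard : ℝ) * (d * (4 / X)) ≤ 4 := by
    calc ({f : K[X] | Irr' f ∧ f.natDegree = d}.ncard : ℝ) * (d * (4 / X))
        = (d * ({f : K[X] | Irr' f ∧ f.natDegree = d}.ncard : ℝ)) * (4 / X) := by ring
      _ ≤ X * (4 / X) := by
        apply mul_le_mul_of_nonneg_right _ (by positivity)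
        exact hall
      _ = 4 := by field_simp
  linarith only [e1, e2]

end sums

end Cfsg.Agent.H244.Rg
end

-- part: H244/Rg/SumsB
section
/-!
# S5714 [C6]: the sums over the polynomials with coincidences between powers of the roots: `sum_b1`, `sum_b2`
-/

set_option autoImplicit false

namespace Cfsg.Agent.H244.Rg

open Polynomial Module Cfsg.Agent.H141.Rg

section sums

variable {K : Type*} [Field K] [Finite K] {σ : K →+* K} (hσ : ∀ x, σ (σ x) = x)

local notation "Kb" => AlgebraicClosure K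

include hσ

/-- **`sum_b1`** -/
theorem sum_b1' (k : ℕ) {d : ℕ} (hd : 1 ≤ d) :
    (∑ᶠ f ∈ {f : K[X] | Irr' f ∧ f.natDegree = d ∧ B1 k f}, Real.sqrt ((Nat.card K : ℝ) ^ ed σ f) /
      ((Nat.card K : ℝ) ^ d - 1)) ≤ 8 * k ^ 3 * d * (Nat.card K : ℝ) ^ (-(d : ℝ) / 6) := by
  have hq := two_le_card K
  have hd0 : 0 < d := hd
  have hd1 : (1 : ℝ) ≤ d := by exact_mod_cast hd
  have hfin : {f : K[X] | Irr' f ∧ f.natDegree = d ∧ B1 k f}.Finite :=
    (all_count (K := K) d hd0).1.subset fun f hf => ⟨hf.1, hf.2.1⟩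
  have hq0 : (0 : ℝ) < (Nat.card K : ℝ) := by linarith only [hq]
  have hq1 : (1 : ℝ) ≤ (Nat.card K : ℝ) := by linarith
  -- self-dual
  have h1 : ∑ᶠ f ∈ {f : K[X] | Irr' f ∧ f.natDegree = d ∧ B1 k f} ∩ {f | f ∣ str σ f},
      Real.sqrt ((Nat.card K : ℝ) ^ ed σ f) / ((Nat.card K : ℝ) ^ d - 1) ≤
      ((k : ℝ) ^ 2 * (3 * d * (Nat.card K : ℝ) ^ ((d : ℝ) / 3))) * (2 * (Nat.card K : ℝ) ^ ((d : ℝ) / 2 - d)) := by
    have hc1 := ncard_nth (L := Kb) (n := 2) (by norm_num) 1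
    have hc2 := count_small (K := K) 3 d (by norm_num)
    have hC := hc1.1.union hc2.1
    have hCc : (({c : Kb | c ^ 2 = 1} ∪ {c : Kb | ∃ g, 0 < g ∧ 3 * g ≤ d ∧ c ^ Nat.card K ^ g = c}).ncard : ℝ) ≤
        3 * d * (Nat.card K : ℝ) ^ ((d : ℝ) / 3) := by
      have h2 : (({c : Kb | c ^ 2 = 1} ∪ {c : Kb | ∃ g, 0 < g ∧ 3 * g ≤ d ∧ c ^ Nat.card K ^ g = c}).ncard : ℝ) ≤
          ({c : Kb | c ^ 2 = 1}.ncard : ℝ) + ({c : Kb | ∃ g, 0 < g ∧ 3 * g ≤ d ∧ c ^ Nat.card K ^ g = c}.ncard : ℝ) := by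
        exact_mod_cast Set.ncard_union_le _ _
      have h3 : ({c : Kb | c ^ 2 = 1}.ncard : ℝ) ≤ 2 := by exact_mod_cast hc1.2
      have h4 := hc2.2
      push_cast at h4
      have h5 : (1 : ℝ) ≤ (Nat.card K : ℝ) ^ ((d : ℝ) / 3) := Real.one_le_rpow hq1 (by positivity)
      have h6 : (1 : ℝ) ≤ d * (Nat.card K : ℝ) ^ ((d : ℝ) / 3) := by nlinarith only [hd1, h5]
      linarith only [hc2, h2, h3, h6]
    have htr := triples (S := {f : K[X] | Irr' f ∧ f.natDegree = d ∧ B1 k f} ∩ {f | f ∣ str σ f}) (k := k) hC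
      (fun _ c => c) (fun f _ _ a => aeval a f = 0) (by
        rintro f ⟨⟨hf, hfd, m, hm1, hmk, a, b, ha, hb, hab, habm⟩, hsd⟩
        refine ⟨m, a ^ m, a, hm1, hmk, ?_, rfl, ha⟩
        rcases b1_sd_root hσ hf hsd ha hb hab habm with h2 | h2
        · exact Or.inl h2
        · right
          rw [Set.mem_ofPred_eq, ← hfd]
          exact h2) (by
        rintro f ⟨⟨hf, -⟩, -⟩ g ⟨⟨hg, -⟩, -⟩ m c a h2 h3
        rw [← minpoly_eq hf h2, ← minpoly_eq hg h3])
    refine finsum_le htr.1 (by positivity) (htr.2.trans (mul_le_mul_of_nonneg_left hCc (by positivity))) ?_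
    rintro f ⟨⟨hf, hfd, -⟩, -⟩
    exact term_le hq hd (by rw [← hfd]; exact ed_le hf.1.ne_zero)
  -- not self-dual
  have h2 : ∑ᶠ f ∈ {f : K[X] | Irr' f ∧ f.natDegree = d ∧ B1 k f} \ {f | f ∣ str σ f},
      Real.sqrt ((Nat.card K : ℝ) ^ ed σ f) / ((Nat.card K : ℝ) ^ d - 1) ≤
      ((k : ℝ) ^ 2 * (d * (Nat.card K : ℝ) ^ ((d : ℝ) / 2))) * (2 * (Nat.card K : ℝ) ^ (((0 : ℕ) : ℝ) / 2 - d)) := by
    have hc2 := count_small (K := K) 2 d (by norm_num)
    have htr := triples (S := {f : K[X] | Irr' f ∧ f.natDegree = d ∧ B1 k f} \ {f | f ∣ str σ f}) (k := k) hc2.1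
      (fun _ c => c) (fun f _ _ a => aeval a f = 0) (by
        rintro f ⟨⟨hf, hfd, m, hm1, hmk, a, b, ha, hb, hab, habm⟩, -⟩
        refine ⟨m, a ^ m, a, hm1, hmk, ?_, rfl, ha⟩
        obtain ⟨g, hg0, hgd, hlt, hc⟩ := b1_root hf ha hb hab habm
        refine ⟨g, hg0, ?_, hc⟩
        obtain ⟨u, hu⟩ := hgd
        rw [hfd] at hu hlt
        rw [hu]
        have hu2 : 2 ≤ u := by
          rcases u with _ | _ | u
          · omega
          · omega
          · omega
        nlinarith only [hu2]) (by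
        rintro f ⟨⟨hf, -⟩, -⟩ g ⟨⟨hg, -⟩, -⟩ m c a h2 h3
        rw [← minpoly_eq hf h2, ← minpoly_eq hg h3])
    have h4 := hc2.2
    push_cast at h4
    refine finsum_le htr.1 (by positivity) (htr.2.trans (mul_le_mul_of_nonneg_left h4 (by positivity))) ?_
    rintro f ⟨⟨hf, hfd, -⟩, hn⟩
    exact term_le hq hd (by rw [ed_eq_zero hf hn])
  refine (finsum_split hfin _ h1 h2).trans ?_
  have e1 : (Nat.card K : ℝ) ^ ((d : ℝ) / 3) * (Nat.card K : ℝ) ^ ((d : ℝ) / 2 - d) = (Nat.card K : ℝ) ^ (-(d : ℝ) / 6) := by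
    rw [← Real.rpow_add hq0]; congr 1; ring
  have e2 : (Nat.card K : ℝ) ^ ((d : ℝ) / 2) * (Nat.card K : ℝ) ^ (((0 : ℕ) : ℝ) / 2 - d) ≤
      (Nat.card K : ℝ) ^ (-(d : ℝ) / 6) := by
    rw [← Real.rpow_add hq0]
    apply Real.rpow_le_rpow_of_exponent_le hq1
    push_cast
    linarith only []
  have hk := sq_le_cube k
  have hz : 0 ≤ (Nat.card K : ℝ) ^ (-(d : ℝ) / 6) := by positivity
  calc _ = (k : ℝ) ^ 2 * (6 * d) * ((Nat.card K : ℝ) ^ ((d : ℝ) / 3) * (Nat.card K : ℝ) ^ ((d : ℝ) / 2 - d)) +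
        (k : ℝ) ^ 2 * (2 * d) * ((Nat.card K : ℝ) ^ ((d : ℝ) / 2) * (Nat.card K : ℝ) ^ (((0 : ℕ) : ℝ) / 2 - d)) := by ring
    _ ≤ (k : ℝ) ^ 2 * (6 * d) * (Nat.card K : ℝ) ^ (-(d : ℝ) / 6) +
        (k : ℝ) ^ 2 * (2 * d) * (Nat.card K : ℝ) ^ (-(d : ℝ) / 6) := by
      rw [e1]
      have := mul_le_mul_of_nonneg_left e2 (show 0 ≤ (k : ℝ) ^ 2 * (2 * d) by (clear * - hd; positivity))
      linarith only [this]
    _ = (k : ℝ) ^ 2 * (8 * d * (Nat.card K : ℝ) ^ (-(d : ℝ) / 6)) := by ring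
    _ ≤ (k : ℝ) ^ 3 * (8 * d * (Nat.card K : ℝ) ^ (-(d : ℝ) / 6)) :=
      mul_le_mul_of_nonneg_right hk (by positivity)
    _ = _ := by ring

/-- **`sum_b2`** -/
theorem sum_b2' (k : ℕ) {d e : ℕ} (he : 1 ≤ e) (hed : e ≤ d) :
    (∑ᶠ p ∈ {p : K[X] × K[X] | Irr' p.1 ∧ Irr' p.2 ∧ p.1.natDegree = d ∧ p.2.natDegree = e ∧ p.1 ≠ p.2 ∧ B2 k p.1 p.2},
      Real.sqrt ((Nat.card K : ℝ) ^ ed σ (p.1 * p.2)) / (((Nat.card K : ℝ) ^ d - 1) * ((Nat.card K : ℝ) ^ e - 1))) ≤
      52 * k ^ 3 * d * (Nat.card K : ℝ) ^ (-(d : ℝ) / 2) := by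
  have hq := two_le_card K
  have hd : 1 ≤ d := he.trans hed
  have hd0 : 0 < d := hd
  have hd1 : (1 : ℝ) ≤ d := by exact_mod_cast hd
  have he1 : (1 : ℝ) ≤ e := by exact_mod_cast he
  have hed1 : (e : ℝ) ≤ d := by exact_mod_cast hed
  have hq0 : (0 : ℝ) < (Nat.card K : ℝ) := by linarith only [hq]
  have hq1 : (1 : ℝ) ≤ (Nat.card K : ℝ) := by linarith only [hq]
  obtain ⟨p, f0, hp', hch, -, -⟩ := exists_prime K
  have hp : Fact p.Prime := ⟨hp'⟩
  obtain ⟨s, hs⟩ := sigma_pow (p := p) σ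
  set S := {p : K[X] × K[X] | Irr' p.1 ∧ Irr' p.2 ∧ p.1.natDegree = d ∧ p.2.natDegree = e ∧ p.1 ≠ p.2 ∧ B2 k p.1 p.2}
    with hS
  -- all pairs
  have hE := ncard_self (L := Kb) (one_lt_pow (K := K) he)
  have hEr : ({x : Kb | x ^ Nat.card K ^ e = x}.ncard : ℝ) ≤ (Nat.card K : ℝ) ^ (e : ℝ) := by
    rw [Real.rpow_natCast]; exact_mod_cast hE.2
  have hall : ∀ S' ⊆ S, S'.Finite ∧ (S'.ncard : ℝ) ≤ (k : ℝ) ^ 2 * {x : Kb | x ^ Nat.card K ^ e = x}.ncard := by
    intro S' hS'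
    refine triples (S := S') (k := k) hE.1 (fun m c => c ^ m) (fun x _ c a => aeval a x.1 = 0 ∧ aeval c x.2 = 0) ?_ ?_
    · intro x hx
      obtain ⟨h1, h2, h3, h4, h5, m, hm1, hmk, a, b, ha, hb, hab⟩ := hS' hx
      refine ⟨m, b, a, hm1, hmk, ?_, hab, ha, hb⟩
      rw [Set.mem_ofPred_eq, ← h4]
      exact root_pow h2 hb
    · rintro x hx y hy m c a ⟨h1, h2⟩ ⟨h3, h4⟩
      have hx' := hS' hx
      have hy' := hS' hy
      apply Prod.ext
      · rw [← minpoly_eq hx'.1 h1, ← minpoly_eq hy'.1 h3]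
      · rw [← minpoly_eq hx'.2.1 h2, ← minpoly_eq hy'.2.1 h4]
  have hfin : S.Finite := (hall S subset_rfl).1
  have hdeg : ∀ x ∈ S, ed σ (x.1 * x.2) ≤ d + e := by
    intro x hx
    refine (ed_le (mul_ne_zero hx.1.1.ne_zero hx.2.1.1.ne_zero)).trans ?_
    rw [natDegree_mul hx.1.1.ne_zero hx.2.1.1.ne_zero, hx.2.2.1, hx.2.2.2.1]
  -- B : the second polynomial is self-dual
  have hB : ∑ᶠ x ∈ S ∩ {x | x.2 ∣ str σ x.2}, Real.sqrt ((Nat.card K : ℝ) ^ ed σ (x.1 * x.2)) /
      (((Nat.card K : ℝ) ^ d - 1) * ((Nat.card K : ℝ) ^ e - 1)) ≤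
      ((k : ℝ) ^ 2 * (4 * (Nat.card K : ℝ) ^ ((e : ℝ) / 2))) *
        (4 * (Nat.card K : ℝ) ^ (((d + e : ℕ) : ℝ) / 2 - d - e)) := by
    have hc := sd_count hσ e
    rw [sqrt_rpow hq] at hc
    have htr := triples (S := S ∩ {x | x.2 ∣ str σ x.2}) (k := k) hc.1 (fun m c => c ^ m)
      (fun x _ c a => aeval a x.1 = 0 ∧ aeval c x.2 = 0) (by
        rintro x ⟨⟨h1, h2, h3, h4, h5, m, hm1, hmk, a, b, ha, hb, hab⟩, hsd⟩
        exact ⟨m, b, a, hm1, hmk, ⟨x.2, h2, h4, hsd, hb⟩, hab, ha, hb⟩) (by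
        rintro x ⟨hx, -⟩ y ⟨hy, -⟩ m c a ⟨h1, h2⟩ ⟨h3, h4⟩
        apply Prod.ext
        · rw [← minpoly_eq hx.1 h1, ← minpoly_eq hy.1 h3]
        · rw [← minpoly_eq hx.2.1 h2, ← minpoly_eq hy.2.1 h4])
    refine finsum_le htr.1 (by positivity) (htr.2.trans (mul_le_mul_of_nonneg_left hc.2 (by (clear * -; positivity)))) ?_
    rintro x ⟨hx, -⟩
    exact term2_le hq hd he (hdeg x hx)
  -- D1 : the first polynomial is dual to the second
  have hD1 : ∑ᶠ x ∈ (S \ {x | x.2 ∣ str σ x.2}) ∩ {x | x.1 ∣ str σ x.2}, Real.sqrt ((Nat.card K : ℝ) ^ ed σ (x.1 * x.2)) /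
      (((Nat.card K : ℝ) ^ d - 1) * ((Nat.card K : ℝ) ^ e - 1)) ≤
      ((k : ℝ) ^ 2 * (e * (4 * (Nat.card K : ℝ) ^ ((e : ℝ) / 2)))) *
        (4 * (Nat.card K : ℝ) ^ (((d + e : ℕ) : ℝ) / 2 - d - e)) := by
    have hc := count_dual (K := K) (p := p) he s e
    rw [sqrt_rpow hq] at hc
    have htr := triples (S := (S \ {x | x.2 ∣ str σ x.2}) ∩ {x | x.1 ∣ str σ x.2}) (k := k) hc.1 (fun _ c => c)
      (fun x _ _ a => aeval a x.1 = 0) (by
        rintro x ⟨⟨⟨h1, h2, h3, h4, h5, m, hm1, hmk, a, b, ha, hb, hab⟩, -⟩, hdu⟩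
        refine ⟨m, b ^ m, a, hm1, hmk, ?_, hab, ha⟩
        obtain ⟨i, hi, h6⟩ := dual_root hs h1 h2 hdu ha hb hab
        refine ⟨i, by rw [← h4]; exact hi, ?_, h6⟩
        rw [← pow_mul, mul_comm, pow_mul, ← h4, root_pow h2 hb]) (by
        rintro x ⟨⟨hx, -⟩, hxd⟩ y ⟨⟨hy, -⟩, hyd⟩ m c a h1 h3
        apply Prod.ext
        · rw [← minpoly_eq hx.1 h1, ← minpoly_eq hy.1 h3]
        · exact dual_unique hs hx.2.1 hy.2.1 (root_ne_zero hx.1 h1) (aeval_of_dvd hxd h1) (aeval_of_dvd hyd h3))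
    refine finsum_le htr.1 (by positivity) (htr.2.trans (mul_le_mul_of_nonneg_left hc.2 (by (clear * -; positivity)))) ?_
    rintro x ⟨⟨hx, -⟩, -⟩
    exact term2_le hq hd he (hdeg x hx)
  -- D2 : the second polynomial is dual to the first
  have hD2 : ∑ᶠ x ∈ ((S \ {x | x.2 ∣ str σ x.2}) \ {x | x.1 ∣ str σ x.2}) ∩ {x | x.2 ∣ str σ x.1},
      Real.sqrt ((Nat.card K : ℝ) ^ ed σ (x.1 * x.2)) /
      (((Nat.card K : ℝ) ^ d - 1) * ((Nat.card K : ℝ) ^ e - 1)) ≤
      ((k : ℝ) ^ 2 * (d * (4 * (Nat.card K : ℝ) ^ ((e : ℝ) / 2)))) *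
        (4 * (Nat.card K : ℝ) ^ (((d + e : ℕ) : ℝ) / 2 - d - e)) := by
    have hc := count_dual (K := K) (p := p) he s d
    rw [sqrt_rpow hq] at hc
    have htr := triples (S := ((S \ {x | x.2 ∣ str σ x.2}) \ {x | x.1 ∣ str σ x.2}) ∩ {x | x.2 ∣ str σ x.1})
      (k := k) hc.1 (fun _ c => c)
      (fun x _ _ a => aeval a x.2 = 0) (by
        rintro x ⟨⟨⟨⟨h1, h2, h3, h4, h5, m, hm1, hmk, a, b, ha, hb, hab⟩, -⟩, -⟩, hdu⟩
        refine ⟨m, a ^ m, b, hm1, hmk, ?_, hab.symm, hb⟩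
        obtain ⟨i, hi, h6⟩ := dual_root hs h2 h1 hdu hb ha hab.symm
        refine ⟨i, by rw [← h3]; exact hi, ?_, h6⟩
        rw [hab, ← pow_mul, mul_comm, pow_mul, ← h4, root_pow h2 hb]) (by
        rintro x ⟨⟨⟨hx, -⟩, -⟩, hxd⟩ y ⟨⟨⟨hy, -⟩, -⟩, hyd⟩ m c a h1 h3
        apply Prod.ext
        · exact dual_unique hs hx.1 hy.1 (root_ne_zero hx.2.1 h1) (aeval_of_dvd hxd h1) (aeval_of_dvd hyd h3)
        · rw [← minpoly_eq hx.2.1 h1, ← minpoly_eq hy.2.1 h3])
    refine finsum_le htr.1 (by positivity) (htr.2.trans (mul_le_mul_of_nonneg_left hc.2 (by (clear * -; positivity)))) ?_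
    rintro x ⟨⟨⟨hx, -⟩, -⟩, -⟩
    exact term2_le hq hd he (hdeg x hx)
  -- the rest
  have hR : ∑ᶠ x ∈ ((S \ {x | x.2 ∣ str σ x.2}) \ {x | x.1 ∣ str σ x.2}) \ {x | x.2 ∣ str σ x.1},
      Real.sqrt ((Nat.card K : ℝ) ^ ed σ (x.1 * x.2)) /
      (((Nat.card K : ℝ) ^ d - 1) * ((Nat.card K : ℝ) ^ e - 1)) ≤
      ((k : ℝ) ^ 2 * (Nat.card K : ℝ) ^ (e : ℝ)) * (4 * (Nat.card K : ℝ) ^ ((d : ℝ) / 2 - d - e)) := by
    have htr := hall (((S \ {x | x.2 ∣ str σ x.2}) \ {x | x.1 ∣ str σ x.2}) \ {x | x.2 ∣ str σ x.1})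
      (fun x hx => hx.1.1.1)
    refine finsum_le htr.1 (by positivity) (htr.2.trans (mul_le_mul_of_nonneg_left hEr (by (clear * -; positivity)))) ?_
    rintro x ⟨⟨⟨hx, h1⟩, h2⟩, h3⟩
    refine term2_le hq hd he ?_
    rw [← hx.2.2.1]
    exact ed_mul_le hx.1 hx.2.1 h1 h3
  refine (finsum_split hfin _ hB (finsum_split (hfin.subset Set.diff_subset) _ hD1
    (finsum_split (hfin.subset fun x hx => hx.1.1) _ hD2 hR))).trans ?_
  set q : ℝ := (Nat.card K : ℝ) with hqdef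
  have e1 : q ^ ((e : ℝ) / 2) * q ^ (((d + e : ℕ) : ℝ) / 2 - d - e) = q ^ (-(d : ℝ) / 2) := by
    rw [← Real.rpow_add hq0]; congr 1; push_cast; ring
  have e2 : q ^ (e : ℝ) * q ^ ((d : ℝ) / 2 - d - e) = q ^ (-(d : ℝ) / 2) := by
    rw [← Real.rpow_add hq0]; congr 1; ring
  have hk := sq_le_cube k
  have hz : 0 ≤ q ^ (-(d : ℝ) / 2) := by positivity
  calc _ = (k : ℝ) ^ 2 * (16 + 16 * e + 16 * d) * (q ^ ((e : ℝ) / 2) * q ^ (((d + e : ℕ) : ℝ) / 2 - d - e)) +
        (k : ℝ) ^ 2 * 4 * (q ^ (e : ℝ) * q ^ ((d : ℝ) / 2 - d - e)) := by ring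
    _ = (k : ℝ) ^ 2 * ((20 + 16 * e + 16 * d) * q ^ (-(d : ℝ) / 2)) := by rw [e1, e2]; ring
    _ ≤ (k : ℝ) ^ 2 * ((52 * d) * q ^ (-(d : ℝ) / 2)) := by
      apply mul_le_mul_of_nonneg_left _ (by (clear * -; positivity))
      apply mul_le_mul_of_nonneg_right _ hz
      linarith only [hd1, hed1]
    _ ≤ (k : ℝ) ^ 3 * ((52 * d) * q ^ (-(d : ℝ) / 2)) := mul_le_mul_of_nonneg_right hk (by (clear * - hd hq; positivity))
    _ = _ := by ring

end sums

theorem sum_b1 : ∃ A : ℝ, 0 < A ∧ ∀ (K : Type) [Field K] [Finite K] (σ : K →+* K), (∀ x, σ (σ x) = x) → ∀ k d : ℕ, 1 ≤ d →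
    (∑ᶠ f ∈ {f : K[X] | Irr' f ∧ f.natDegree = d ∧ B1 k f}, Real.sqrt ((Nat.card K : ℝ) ^ ed σ f) / ((Nat.card K : ℝ) ^ d - 1)) ≤
      A * k ^ 3 * d * (Nat.card K : ℝ) ^ (-(d : ℝ) / 6) :=
  ⟨8, by norm_num, fun _ _ _ _ hσ k _ hd => sum_b1' hσ k hd⟩

theorem sum_b2 : ∃ A : ℝ, 0 < A ∧ ∀ (K : Type) [Field K] [Finite K] (σ : K →+* K), (∀ x, σ (σ x) = x) → ∀ k d e : ℕ,
    1 ≤ e → e ≤ d →
    (∑ᶠ p ∈ {p : K[X] × K[X] | Irr' p.1 ∧ Irr' p.2 ∧ p.1.natDegree = d ∧ p.2.natDegree = e ∧ p.1 ≠ p.2 ∧ B2 k p.1 p.2},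
      Real.sqrt ((Nat.card K : ℝ) ^ ed σ (p.1 * p.2)) / (((Nat.card K : ℝ) ^ d - 1) * ((Nat.card K : ℝ) ^ e - 1))) ≤
      A * k ^ 3 * d * (Nat.card K : ℝ) ^ (-(d : ℝ) / 2) :=
  ⟨52, by norm_num, fun _ _ _ _ hσ k _ _ he hed => sum_b2' hσ k he hed⟩

theorem sum_rep : ∃ A : ℝ, 0 < A ∧ ∀ (K : Type) [Field K] [Finite K] (σ : K →+* K), (∀ x, σ (σ x) = x) → ∀ d : ℕ, 1 ≤ d →
    (∑ᶠ f ∈ {f : K[X] | Irr' f ∧ f.natDegree = d}, (Real.sqrt ((Nat.card K : ℝ) ^ ed σ f) / ((Nat.card K : ℝ) ^ (2 * d) - 1) +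
      Real.sqrt ((Nat.card K : ℝ) ^ ed σ (f ^ 2)) / ((Nat.card K : ℝ) ^ d * ((Nat.card K : ℝ) ^ d - 1)))) ≤
      A * (Nat.card K : ℝ) ^ (-(d : ℝ) / 2) :=
  ⟨20, by norm_num, fun _ _ _ _ hσ _ hd => sum_rep' hσ hd⟩

theorem sum_cyc : ∃ A : ℝ, 0 < A ∧ ∀ (K : Type) [Field K] [Finite K] (σ : K →+* K), (∀ x, σ (σ x) = x) → ∀ d : ℕ, 1 ≤ d →
    (∑ᶠ f ∈ {f : K[X] | Irr' f ∧ f.natDegree = d}, (d : ℝ) * ∑' j : ℕ, Real.sqrt ((Nat.card K : ℝ) ^ ed σ (f ^ (j + 1))) /
      ((Nat.card K : ℝ) ^ (d * j) * ((Nat.card K : ℝ) ^ d - 1))) ≤ A :=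
  ⟨36, by norm_num, fun _ _ _ _ hσ _ hd => sum_cyc' hσ hd⟩

end Cfsg.Agent.H244.Rg
end

private theorem dce_fc65e685127d : _root_.True := by
  try have : _root_.True := by simp only [_root_.Cfsg.Agent.H926.RG.cnt.eq_1]
  exact _root_.True.intro
end

-- part: H5/Rg/Small
section
prune_inst 0x400000a2000000000000000000000000002200400000280000000840004080000000000001061000008000000000000000000002000000000000000204010000000000000000400086000000000000000000000000000000000000000000200000000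
set_option linter.all false
open scoped Cfsg.Agent.FastGrp

-- part: H5/Rg/Ker
section
/-!
# S5714, team RG: dimensions of the primary components (helper5)
-/

set_option autoImplicit false

namespace Cfsg.Agent.H5.Rg

open Cfsg Cfsg.Agent.H141.Rg Polynomial Module

section ker

variable {K V : Type*} [Field K] [AddCommGroup V] [Module K V]

/-- the kernel of `f (y) ^ j` -/
noncomputable def kk (y : V →ₗ[K] V) (f : K[X]) (j : ℕ) : Submodule K V := LinearMap.ker (aeval y (f ^ j))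

theorem mem_kk {y : V →ₗ[K] V} {f : K[X]} {j : ℕ} {v : V} : v ∈ kk y f j ↔ aeval y (f ^ j) v = 0 := Iff.rfl

theorem aeval_mul_apply (y : V →ₗ[K] V) (f g : K[X]) (v : V) : aeval y (f * g) v = aeval y f (aeval y g v) := by
  rw [map_mul, Module.End.mul_apply]

theorem aeval_dvd {y : V →ₗ[K] V} {f g : K[X]} {v : V} (h : aeval y f v = 0) (hd : f ∣ g) : aeval y g v = 0 := by
  obtain ⟨k, rfl⟩ := hd
  rw [mul_comm, aeval_mul_apply, h, map_zero]

theorem kk_mono (y : V →ₗ[K] V) (f : K[X]) : Monotone (kk y f) := fun _ _ h _ hv =>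
  mem_kk.2 (aeval_dvd (mem_kk.1 hv) (pow_dvd_pow f h))

theorem kk_zero (y : V →ₗ[K] V) (f : K[X]) : kk y f 0 = ⊥ := by
  ext v
  rw [mem_kk, pow_zero, map_one, Module.End.one_apply, Submodule.mem_bot]

theorem ann_of_not_mem {y : V →ₗ[K] V} {f : K[X]} (hf : Irreducible f) {j : ℕ} {v : V} (h1 : v ∈ kk y f (j + 1))
    (h2 : v ∉ kk y f j) : Ann y v (f ^ (j + 1)) := by
  intro g
  refine ⟨fun hg => ?_, fun hd => aeval_dvd (mem_kk.1 h1) hd⟩
  classical
  have hh : aeval y (EuclideanDomain.gcd g (f ^ (j + 1))) v = 0 := by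
    rw [EuclideanDomain.gcd_eq_gcd_ab, map_add, LinearMap.add_apply, mul_comm, aeval_mul_apply, hg, map_zero,
      mul_comm (f ^ (j + 1)), aeval_mul_apply, mem_kk.1 h1, map_zero, add_zero]
  obtain ⟨i, hi, hu⟩ := (dvd_prime_pow hf.prime (j + 1)).1 (EuclideanDomain.gcd_dvd_right g (f ^ (j + 1)))
  have hi' : i = j + 1 := by
    by_contra hne
    exact h2 (mem_kk.2 (aeval_dvd hh (hu.dvd.trans (pow_dvd_pow f (by omega)))))
  subst hi'
  exact hu.symm.dvd.trans (EuclideanDomain.gcd_dvd_left _ _)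

/-- a space containing all `g (y) v` has dimension at least the degree of the annihilator of `v` -/
theorem natDegree_le_finrank [FiniteDimensional K V] {y : V →ₗ[K] V} {g : K[X]} (hg : g.Monic) {v : V} (hv : Ann y v g)
    (W : Submodule K V) (hW : ∀ h : K[X], aeval y h v ∈ W) : g.natDegree ≤ finrank K W := by
  let φ : degreeLT K g.natDegree →ₗ[K] W :=
    { toFun := fun h => ⟨aeval y (h : K[X]) v, hW _⟩
      map_add' := fun a b => by
        ext; simp
      map_smul' := fun a b => by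
        ext; simp }
  have hφ : Function.Injective φ := by
    rw [← LinearMap.ker_eq_bot, LinearMap.ker_eq_bot']
    rintro ⟨h, hh⟩ h0
    have h1 : aeval y h v = 0 := congrArg Subtype.val h0
    have h2 := (hv h).1 h1
    ext1
    by_contra hne
    have h3 := degree_le_of_dvd h2 hne
    rw [mem_degreeLT, ← degree_eq_natDegree hg.ne_zero] at hh
    exact absurd (h3.trans_lt hh) (lt_irrefl _)
  have := LinearMap.finrank_le_finrank_of_injective hφ
  rwa [(degreeLTEquiv K g.natDegree).finrank_eq, finrank_fin_fun] at this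

/-- the dimension of the kernel of `f (y) ^ j` -/
noncomputable def kd (y : V →ₗ[K] V) (f : K[X]) (j : ℕ) : ℕ := finrank K (kk y f j)

theorem kd_zero (y : V →ₗ[K] V) (f : K[X]) : kd y f 0 = 0 := by
  rw [kd, kk_zero, finrank_bot]

variable [FiniteDimensional K V]

theorem kd_mono (y : V →ₗ[K] V) (f : K[X]) : Monotone (kd y f) := fun _ _ h => Submodule.finrank_mono (kk_mono y f h)

/-- if the chain does not stop at `j`, then the lower terms are large -/
theorem kd_step {y : V →ₗ[K] V} {f : K[X]} (hf : Irreducible f) (hm : f.Monic) {j : ℕ} (h : kd y f j ≠ kd y f (j + 1)) :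
    f.natDegree * j ≤ kd y f j ∧ kd y f j + f.natDegree ≤ kd y f (j + 1) := by
  obtain ⟨v, h1, h2⟩ : ∃ v, v ∈ kk y f (j + 1) ∧ v ∉ kk y f j := by
    by_contra hc
    push Not at hc
    exact h (le_antisymm (kd_mono y f (Nat.le_succ j)) (Submodule.finrank_mono hc))
  have hv := ann_of_not_mem hf h1 h2
  constructor
  · have hu : Ann y (aeval y f v) (f ^ j) := by
      intro g
      rw [← aeval_mul_apply, hv, pow_succ, mul_dvd_mul_iff_right hf.ne_zero]
    have := natDegree_le_finrank (hm.pow j) hu (kk y f j) (fun h => by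
      rw [mem_kk, ← aeval_mul_apply, ← aeval_mul_apply]
      exact (hv _).2 (by rw [pow_succ, mul_assoc, mul_comm h]; exact mul_dvd_mul_left _ (Dvd.intro _ rfl)))
    rwa [natDegree_pow, mul_comm] at this
  · let φ : degreeLT K f.natDegree →ₗ[K] V :=
      { toFun := fun h => aeval y (h : K[X]) v
        map_add' := fun a b => by simp
        map_smul' := fun a b => by simp }
    have hφ0 : ∀ g, φ g ∈ kk y f j → g = 0 := by
      rintro ⟨g, hg⟩ h0
      have h1 : aeval y (f ^ j * g) v = 0 := by rw [aeval_mul_apply]; exact h0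
      have h2 : f ∣ g := by
        have := (hv _).1 h1
        rw [pow_succ] at this
        exact (mul_dvd_mul_iff_left (pow_ne_zero j hf.ne_zero)).1 this
      ext1
      by_contra hne
      have h3 := degree_le_of_dvd h2 hne
      rw [mem_degreeLT, ← degree_eq_natDegree hm.ne_zero] at hg
      exact absurd (h3.trans_lt hg) (lt_irrefl _)
    have hφ : Function.Injective φ := by
      rw [← LinearMap.ker_eq_bot, LinearMap.ker_eq_bot']
      intro g hg
      exact hφ0 g (hg ▸ Submodule.zero_mem _)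
    have hdis : Disjoint (kk y f j) (LinearMap.range φ) := by
      rw [Submodule.disjoint_def]
      rintro x hx ⟨g, rfl⟩
      rw [hφ0 g hx, map_zero]
    have hle : kk y f j ⊔ LinearMap.range φ ≤ kk y f (j + 1) := by
      refine sup_le (kk_mono y f (Nat.le_succ j)) ?_
      rintro x ⟨g, rfl⟩
      rw [mem_kk]
      show aeval y (f ^ (j + 1)) (aeval y (g : K[X]) v) = 0
      rw [← aeval_mul_apply]
      exact (hv _).2 (Dvd.intro _ rfl)
    have h3 := Submodule.finrank_mono hle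
    have h4 := Submodule.finrank_sup_add_finrank_inf_eq (kk y f j) (LinearMap.range φ)
    rw [hdis.eq_bot, finrank_bot, add_zero] at h4
    rw [h4, LinearMap.finrank_range_of_inj hφ, (degreeLTEquiv K f.natDegree).finrank_eq, finrank_fin_fun] at h3
    exact h3

theorem kd_le (y : V →ₗ[K] V) (f : K[X]) (j : ℕ) : kd y f j ≤ finrank K V := Submodule.finrank_le _

omit [FiniteDimensional K V] in
/-- if the chain stops once, it stops forever -/
theorem kk_stop {y : V →ₗ[K] V} {f : K[X]} {j : ℕ} (h : kk y f (j + 1) ≤ kk y f j) (i : ℕ) : kk y f (j + i) ≤ kk y f j := by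
  induction i with
  | zero => exact le_rfl
  | succ i ih =>
    intro v hv
    apply ih
    rw [mem_kk] at hv ⊢
    have h1 : aeval y (f ^ i) v ∈ kk y f (j + 1) := by
      rw [mem_kk, ← aeval_mul_apply, ← pow_add]
      rwa [show j + 1 + i = j + (i + 1) by ring]
    have h2 := h h1
    rwa [mem_kk, ← aeval_mul_apply, ← pow_add] at h2

theorem kk_stop' {y : V →ₗ[K] V} {f : K[X]} {j : ℕ} (h : kd y f j = kd y f (j + 1)) (i : ℕ) : kk y f i ≤ kk y f j := by
  have h1 : kk y f (j + 1) ≤ kk y f j := (Submodule.eq_of_le_of_finrank_eq (kk_mono y f (Nat.le_succ j)) h).ge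
  rcases le_total i j with hi | hi
  · exact kk_mono y f hi
  · obtain ⟨k, rfl⟩ := Nat.exists_eq_add_of_le hi
    exact kk_stop h1 k

/-- the primary component -/
noncomputable def kv (y : V →ₗ[K] V) (f : K[X]) : Submodule K V := ⨆ j : ℕ, LinearMap.ker (aeval y (f ^ j))

theorem kv_le_of_stop {y : V →ₗ[K] V} {f : K[X]} {j : ℕ} (h : kd y f j = kd y f (j + 1)) : kv y f ≤ kk y f j :=
  iSup_le fun i => kk_stop' h i

theorem kv_le {y : V →ₗ[K] V} {f : K[X]} (hf : Irreducible f) (hm : f.Monic) {n : ℕ} (hn : finrank K V ≤ n) :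
    kv y f ≤ kk y f n := by
  refine kv_le_of_stop ?_
  by_contra h
  obtain ⟨h1, h2⟩ := kd_step hf hm h
  have h3 := kd_le y f (n + 1)
  have h4 : 1 ≤ f.natDegree := hf.natDegree_pos
  nlinarith

theorem kd_two_le (y : V →ₗ[K] V) (f : K[X]) : kd y f 2 ≤ 2 * kd y f 1 := by
  let φ : kk y f 2 →ₗ[K] V := (aeval y f).domRestrict (kk y f 2)
  have h1 := LinearMap.finrank_range_add_finrank_ker φ
  have h2 : LinearMap.range φ ≤ kk y f 1 := by
    rintro x ⟨⟨v, hv⟩, rfl⟩
    rw [mem_kk, pow_one]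
    show aeval y f (aeval y f v) = 0
    rw [← aeval_mul_apply, ← sq]
    exact hv
  have h3 : (LinearMap.ker φ).map (kk y f 2).subtype ≤ kk y f 1 := by
    rintro x ⟨⟨v, hv⟩, h, rfl⟩
    rw [mem_kk, pow_one]
    exact h
  have h4 := Submodule.finrank_mono h2
  have h5 := Submodule.finrank_mono h3
  rw [Submodule.finrank_map_subtype_eq] at h5
  change _ + _ = kd y f 2 at h1
  change _ ≤ kd y f 1 at h4
  change _ ≤ kd y f 1 at h5
  omega

end ker

/-! ### counting vectors -/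

section count

variable {K V : Type*} [Field K] [Finite K] [AddCommGroup V] [Module K V] [Finite V]

theorem two_le_q : (2 : ℝ) ≤ Nat.card K := by
  exact_mod_cast (Finite.one_lt_card (α := K))

omit [Finite K] in
theorem card_kk (y : V →ₗ[K] V) (f : K[X]) (j : ℕ) : Nat.card (kk y f j) = Nat.card K ^ kd y f j :=
  Module.natCard_eq_pow_finrank (K := K)

/-- the number of vectors with annihilator `f ^ (j + 1)` -/
theorem count_ge {y : V →ₗ[K] V} {f : K[X]} (hf : Irreducible f) (hm : f.Monic) (j : ℕ) :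
    ((Nat.card K : ℝ) ^ (kd y f (j + 1) - kd y f j) - 1) * (Nat.card K : ℝ) ^ (f.natDegree * j) ≤
      Nat.card {v : V // Ann y v (f ^ (j + 1))} := by
  have hQ := two_le_q (K := K)
  rcases eq_or_ne (kd y f j) (kd y f (j + 1)) with h | h
  · rw [h, Nat.sub_self, pow_zero, sub_self, zero_mul]
    exact Nat.cast_nonneg _
  obtain ⟨h1, h2⟩ := kd_step hf hm h
  have h3 : Nat.card K ^ kd y f (j + 1) ≤ Nat.card {v : V // Ann y v (f ^ (j + 1))} + Nat.card K ^ kd y f j := by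
    rw [← card_kk, ← card_kk]
    have h4 : ((kk y f (j + 1) : Set V)) ⊆ {v : V | Ann y v (f ^ (j + 1))} ∪ (kk y f j : Set V) := by
      intro v hv
      by_cases hv' : v ∈ kk y f j
      · exact Or.inr hv'
      · exact Or.inl (ann_of_not_mem hf hv hv')
    have h5 := Set.ncard_le_ncard h4 (Set.toFinite _)
    exact h5.trans (Set.ncard_union_le _ _)
  have h4 : (Nat.card K : ℝ) ^ kd y f (j + 1) ≤
      Nat.card {v : V // Ann y v (f ^ (j + 1))} + (Nat.card K : ℝ) ^ kd y f j := by exact_mod_cast h3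
  have h5 : (Nat.card K : ℝ) ^ (kd y f (j + 1) - kd y f j) * (Nat.card K : ℝ) ^ kd y f j =
      (Nat.card K : ℝ) ^ kd y f (j + 1) := by
    rw [← pow_add]; congr 1; omega
  have h6 : (Nat.card K : ℝ) ^ (f.natDegree * j) ≤ (Nat.card K : ℝ) ^ kd y f j :=
    pow_le_pow_right₀ (by linarith only [hQ]) h1
  have h7 : (1 : ℝ) ≤ (Nat.card K : ℝ) ^ (kd y f (j + 1) - kd y f j) := one_le_pow₀ (by linarith only [hQ])
  nlinarith only [h4, h5, h6, h7]

/-- `b (q ^ d - 1) ≤ d (q ^ b - 1)` for `d ≤ b` -/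
theorem conv {q : ℝ} (hq : 2 ≤ q) {d b : ℕ} (hd : 1 ≤ d) (h : d ≤ b) : (b : ℝ) * (q ^ d - 1) ≤ d * (q ^ b - 1) := by
  induction b, h using Nat.le_induction with
  | base => exact le_rfl
  | succ b h ih =>
    have h1 : q ^ d ≤ q ^ b := pow_le_pow_right₀ (by linarith only [hq]) h
    have h2 : (1 : ℝ) ≤ d := by exact_mod_cast hd
    have h3 : (0 : ℝ) < q ^ b := by positivity
    rw [pow_succ]
    push_cast
    nlinarith only [ih, h1, h3, mul_le_mul h2 (show (1 : ℝ) ≤ q - 1 by linarith) zero_le_one (by linarith)]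

/-- the number of vectors with annihilator `f ^ (j + 1)` -/
theorem count_ge' {y : V →ₗ[K] V} {f : K[X]} (hf : Irreducible f) (hm : f.Monic) (j : ℕ) :
    ((kd y f (j + 1) - kd y f j : ℕ) : ℝ) * ((Nat.card K : ℝ) ^ (f.natDegree * j) * ((Nat.card K : ℝ) ^ f.natDegree - 1)) ≤
      f.natDegree * Nat.card {v : V // Ann y v (f ^ (j + 1))} := by
  have hQ := two_le_q (K := K)
  rcases eq_or_ne (kd y f j) (kd y f (j + 1)) with h | h
  · rw [h, Nat.sub_self, Nat.cast_zero, zero_mul]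
    (clear * -; positivity)
  obtain ⟨h1, h2⟩ := kd_step hf hm h
  have h3 := conv hQ hf.natDegree_pos (show f.natDegree ≤ kd y f (j + 1) - kd y f j by omega)
  have h4 := count_ge (y := y) hf hm j
  have h5 : (0 : ℝ) < (Nat.card K : ℝ) ^ (f.natDegree * j) := by positivity
  have h6 : (0 : ℝ) ≤ f.natDegree := Nat.cast_nonneg _
  calc _ = (((kd y f (j + 1) - kd y f j : ℕ) : ℝ) * ((Nat.card K : ℝ) ^ f.natDegree - 1)) *
        (Nat.card K : ℝ) ^ (f.natDegree * j) := by ring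
    _ ≤ (f.natDegree * ((Nat.card K : ℝ) ^ (kd y f (j + 1) - kd y f j) - 1)) * (Nat.card K : ℝ) ^ (f.natDegree * j) :=
        mul_le_mul_of_nonneg_right h3 h5.le
    _ = f.natDegree * (((Nat.card K : ℝ) ^ (kd y f (j + 1) - kd y f j) - 1) * (Nat.card K : ℝ) ^ (f.natDegree * j)) := by
        ring
    _ ≤ _ := mul_le_mul_of_nonneg_left h4 h6

omit [Finite K] in
/-- the number of pairs -/
theorem sum_ann {X : Type*} [Group X] [Fintype X] (τ : X →* (V →ₗ[K] V)) (g : K[X]) :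
    ∑ x : X, (Nat.card {v : V // Ann (τ x) v g} : ℝ) = Nat.card {p : X × V // Ann (τ p.1) p.2 g} := by
  rw [← Nat.cast_sum, ← Nat.card_sigma]
  congr 1
  exact Nat.card_congr
    { toFun := fun p => ⟨(p.1, p.2.1), p.2.2⟩
      invFun := fun p => ⟨p.1.1, p.1.2, p.2⟩
      left_inv := fun p => rfl
      right_inv := fun p => rfl }

/-- the average of the `j`-th step -/
theorem avg_step {X : Type*} [Group X] [Fintype X] (τ : X →* (V →ₗ[K] V)) {f : K[X]} (hf : Irreducible f) (hm : f.Monic)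
    (j : ℕ) {B : ℝ} (hB : (Nat.card {p : X × V // Ann (τ p.1) p.2 (f ^ (j + 1))} : ℝ) ≤ B) :
    ∑ x : X, ((kd (τ x) f (j + 1) - kd (τ x) f j : ℕ) : ℝ) ≤
      f.natDegree * B / ((Nat.card K : ℝ) ^ (f.natDegree * j) * ((Nat.card K : ℝ) ^ f.natDegree - 1)) := by
  have hQ := two_le_q (K := K)
  have h1 : (1 : ℝ) < (Nat.card K : ℝ) ^ f.natDegree := one_lt_pow₀ (by linarith) hf.natDegree_pos.ne'
  rw [le_div_iff₀ (mul_pos (by positivity) (by linarith)), Finset.sum_mul]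
  refine (Finset.sum_le_sum fun x _ => count_ge' hf hm j).trans ?_
  rw [← Finset.mul_sum, sum_ann]
  exact mul_le_mul_of_nonneg_left hB (Nat.cast_nonneg _)

omit [Finite K] in
theorem kv_sum {y : V →ₗ[K] V} {f : K[X]} (hf : Irreducible f) (hm : f.Monic) {n : ℕ} (hn : finrank K V ≤ n) :
    (finrank K (kv y f) : ℝ) ≤ ∑ j ∈ Finset.range n, ((kd y f (j + 1) - kd y f j : ℕ) : ℝ) := by
  have h1 : finrank K (kv y f) ≤ kd y f n := Submodule.finrank_mono (kv_le hf hm hn)
  have h2 : ∀ n, kd y f n = ∑ j ∈ Finset.range n, (kd y f (j + 1) - kd y f j) := by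
    intro n
    induction n with
    | zero => rw [kd_zero, Finset.sum_range_zero]
    | succ n ih =>
      rw [Finset.sum_range_succ, ← ih]
      have : kd y f n ≤ kd y f (n + 1) := kd_mono y f (Nat.le_succ n)
      omega
  rw [← Nat.cast_sum, ← h2]
  exact_mod_cast h1

omit [Finite K] in
/-- the sum of the primary components -/
theorem smallP_le (y : V →ₗ[K] V) {S : Set K[X]} {T : Finset K[X]} (h : ∀ f ∈ S, f ∈ T) :
    finrank K (smallP y S) ≤ ∑ f ∈ T, finrank K (kv y f) := by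
  classical
  have h1 : ∀ T : Finset K[X], finrank K ↥(T.sup fun f => kv y f) ≤ ∑ f ∈ T, finrank K (kv y f) := by
    intro T
    induction T using Finset.induction_on with
    | empty => simp only [_root_.Finset.sum_empty, _root_.nonpos_iff_eq_zero, _root_.Submodule.finrank_eq_zero, _root_.Finset.sup_empty]
    | insert a T ha ih =>
      rw [Finset.sup_insert, Finset.sum_insert ha]
      exact (Submodule.finrank_add_le_finrank_add_finrank _ _).trans (by omega)
  refine (Submodule.finrank_mono ?_).trans (h1 T)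
  exact iSup₂_le fun f hf => Finset.le_sup (f := fun f => kv y f) (h f hf)

end count

end Cfsg.Agent.H5.Rg
end

-- part: H5/Rg/Small
section
/-!
# S5714, team RG: the small part (helper5)
-/

set_option autoImplicit false
set_option linter.unusedSectionVars false

namespace Cfsg.Agent.H5.Rg

open Cfsg Cfsg.Agent.H141.Rg Polynomial Module

/-! ### numbers -/

theorem pow4_le (a : ℕ) : a ^ 4 ≤ 32 * 2 ^ a := by
  rcases Nat.lt_or_ge a 6 with h | h
  · interval_cases a <;> norm_num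
  · induction a, h using Nat.le_induction with
    | base => norm_num
    | succ a h ih =>
      have h1 : (a + 1) ^ 4 ≤ 2 * a ^ 4 := by
        have h2 : 36 ≤ a ^ 2 := by nlinarith
        have h3 : 6 * a ^ 3 ≤ a ^ 4 := by
          calc 6 * a ^ 3 ≤ a * a ^ 3 := Nat.mul_le_mul_right _ h
            _ = a ^ 4 := by ring
        have h4 : 6 * a ^ 2 ≤ a ^ 3 := by
          calc 6 * a ^ 2 ≤ a * a ^ 2 := Nat.mul_le_mul_right _ h
            _ = a ^ 3 := by ring
        have h5 : (a + 1) ^ 4 = a ^ 4 + 4 * a ^ 3 + 6 * a ^ 2 + 4 * a + 1 := by ring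
        nlinarith only [h2, h4]
      rw [pow_succ 2 a]
      omega

theorem sq_le_pow {r : ℝ} (hr : 0 ≤ r) (h2 : 2 ≤ r ^ 2) (a : ℕ) : (a : ℝ) ^ 2 ≤ 6 * r ^ a := by
  have h1 : (a : ℝ) ^ 4 ≤ 32 * 2 ^ a := by exact_mod_cast pow4_le a
  have h3 : (2 : ℝ) ^ a ≤ (r ^ 2) ^ a := pow_le_pow_left₀ (by norm_num) h2 a
  have h4 : ((a : ℝ) ^ 2) ^ 2 ≤ (6 * r ^ a) ^ 2 := by
    calc ((a : ℝ) ^ 2) ^ 2 = (a : ℝ) ^ 4 := by ring
      _ ≤ 32 * 2 ^ a := h1
      _ ≤ 36 * (r ^ 2) ^ a := by linarith only [h3, show (0 : ℝ) < 2 ^ a by positivity]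
      _ = (6 * r ^ a) ^ 2 := by ring
  exact (abs_le_of_sq_le_sq' h4 (by positivity)).2

/-! ### the divisors of `X ^ 2 - 1` -/

theorem irr_sub {K : Type*} [Field K] (a : K) : Irreducible (Polynomial.X - C a) := irreducible_X_sub_C a

theorem irr_dvd {K : Type*} [Field K] {f : K[X]} (hf : Irr' f) (h : f ∣ Polynomial.X ^ 2 - 1) :
    f = Polynomial.X - C 1 ∨ f = Polynomial.X - C (-1) := by
  have h1 : (Polynomial.X ^ 2 - 1 : K[X]) = (Polynomial.X - C 1) * (Polynomial.X - C (-1)) := by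
    rw [C_neg, C_1]; ring
  rw [h1] at h
  rcases hf.2.1.prime.dvd_or_dvd h with h | h
  · exact Or.inl (eq_of_monic_of_associated hf.1 (monic_X_sub_C _) (hf.2.1.associated_of_dvd (irr_sub _) h))
  · exact Or.inr (eq_of_monic_of_associated hf.1 (monic_X_sub_C _) (hf.2.1.associated_of_dvd (irr_sub _) h))

/-! ### orthogonal groups of bounded rank -/

section bounded

variable {K V : Type*} [Field K] [Finite K] [AddCommGroup V] [Module K V] [Finite V]

/-- the number of vectors with annihilator `(X - a) ^ j` -/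
noncomputable def nv (y : V →ₗ[K] V) (a : K) (j : ℕ) : ℝ := Nat.card {v : V // Ann y v ((Polynomial.X - C a) ^ j)}

theorem nv_nonneg (y : V →ₗ[K] V) (a : K) (j : ℕ) : 0 ≤ nv y a j := Nat.cast_nonneg _

theorem nv_ge (y : V →ₗ[K] V) (a : K) (j : ℕ) {l : ℕ}
    (h : kd y (Polynomial.X - C a) j + l ≤ kd y (Polynomial.X - C a) (j + 1)) :
    ((Nat.card K : ℝ) ^ l - 1) * (Nat.card K : ℝ) ^ j ≤ nv y a (j + 1) := by
  have hQ := two_le_q (K := K)
  have h1 := count_ge (y := y) (irr_sub a) (monic_X_sub_C a) j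
  rw [natDegree_X_sub_C, one_mul] at h1
  refine le_trans (mul_le_mul_of_nonneg_right (sub_le_sub_right (pow_le_pow_right₀ (by linarith) ?_) 1) (by positivity)) h1
  omega

theorem one_dim {y : V →ₗ[K] V} (a : K) (h : 2 ≤ finrank K (kv y (Polynomial.X - C a))) :
    2 ≤ kd y (Polynomial.X - C a) 1 ∨ kd y (Polynomial.X - C a) 1 + 1 ≤ kd y (Polynomial.X - C a) 2 := by
  by_contra hc
  push Not at hc
  have h1 := kd_mono y (Polynomial.X - C a) (show 1 ≤ 2 by norm_num)
  have h2 := Submodule.finrank_mono (kv_le_of_stop (y := y) (f := Polynomial.X - C a) (j := 1)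
    (by show kd _ _ 1 = kd _ _ 2; omega))
  change _ ≤ kd y (Polynomial.X - C a) 1 at h2
  omega

theorem two_dim {y : V →ₗ[K] V} (a : K) (h : 3 ≤ finrank K (kv y (Polynomial.X - C a))) :
    2 ≤ kd y (Polynomial.X - C a) 1 ∨ kd y (Polynomial.X - C a) 2 + 1 ≤ kd y (Polynomial.X - C a) 3 := by
  by_contra hc
  push Not at hc
  have h1 := kd_mono y (Polynomial.X - C a) (show 2 ≤ 3 by norm_num)
  have h2 := Submodule.finrank_mono (kv_le_of_stop (y := y) (f := Polynomial.X - C a) (j := 2)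
    (by show kd _ _ 2 = kd _ _ 3; omega))
  change _ ≤ kd y (Polynomial.X - C a) 2 at h2
  have h3 := kd_two_le y (Polynomial.X - C a)
  omega

open Classical in
/-- the weight -/
noncomputable def wt (y : V →ₗ[K] V) (a : K) : ℝ :=
  nv y a 1 / ((Nat.card K : ℝ) ^ 2 - 1) + (if (2 : K) ≠ 0 then nv y a 2 / (((Nat.card K : ℝ) - 1) * Nat.card K) else 0) +
    nv y a 3 / (((Nat.card K : ℝ) - 1) * (Nat.card K : ℝ) ^ 2)

theorem wt_nonneg (y : V →ₗ[K] V) (a : K) : 0 ≤ wt y a := by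
  have hQ := two_le_q (K := K)
  have h1 : (0 : ℝ) < (Nat.card K : ℝ) ^ 2 - 1 := by nlinarith
  have h2 : (0 : ℝ) < (Nat.card K : ℝ) - 1 := by linarith
  have p1 := nv_nonneg y a 1
  have p2 := nv_nonneg y a 2
  have p3 := nv_nonneg y a 3
  unfold wt
  split_ifs <;> (clear * - h1 h2 p1 p2 p3; positivity)

theorem one_le_wt {y : V →ₗ[K] V} {a : K} (h : 2 ≤ finrank K (kv y (Polynomial.X - C a)))
    (h' : (2 : K) ≠ 0 ∨ 3 ≤ finrank K (kv y (Polynomial.X - C a))) : 1 ≤ wt y a := by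
  have hQ := two_le_q (K := K)
  have h1 : (0 : ℝ) < (Nat.card K : ℝ) ^ 2 - 1 := by nlinarith only [hQ]
  have h2 : (0 : ℝ) < (Nat.card K : ℝ) - 1 := by linarith
  have p1 := nv_nonneg y a 1
  have p2 := nv_nonneg y a 2
  have p3 := nv_nonneg y a 3
  have q1 : 0 ≤ nv y a 1 / ((Nat.card K : ℝ) ^ 2 - 1) := by (clear * - h1 p1; positivity)
  have q2 : 0 ≤ nv y a 2 / (((Nat.card K : ℝ) - 1) * Nat.card K) := by (clear * - h2 p2; positivity)
  have q3 : 0 ≤ nv y a 3 / (((Nat.card K : ℝ) - 1) * (Nat.card K : ℝ) ^ 2) := by (clear * - h2 p3; positivity)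
  have hA : 2 ≤ kd y (Polynomial.X - C a) 1 → 1 ≤ nv y a 1 / ((Nat.card K : ℝ) ^ 2 - 1) := by
    intro h3
    rw [le_div_iff₀ h1, one_mul]
    have := nv_ge y a 0 (l := 2) (by rw [kd_zero]; simpa using h3)
    simpa only [_root_.tsub_le_iff_right, _root_.ge_iff_le, _root_.pow_zero, _root_.mul_one, _root_.zero_add] using this
  unfold wt
  by_cases h0 : (2 : K) ≠ 0
  · rw [if_pos h0]
    rcases one_dim a h with h3 | h3
    · linarith only [q2, q3, hA h3]
    · have := nv_ge y a 1 (l := 1) h3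
      simp only [pow_one, Nat.reduceAdd] at this
      have : 1 ≤ nv y a 2 / (((Nat.card K : ℝ) - 1) * Nat.card K) := by
        rw [le_div_iff₀ (by (clear * - hQ h2; positivity)), one_mul]
        exact this
      linarith only [q1, q3, this]
  · rw [if_neg h0]
    have h3 := h'.resolve_left h0
    rcases two_dim a h3 with h3 | h3
    · linarith only [q3, hA h3]
    · have := nv_ge y a 2 (l := 1) h3
      simp only [pow_one, Nat.reduceAdd] at this
      have : 1 ≤ nv y a 3 / (((Nat.card K : ℝ) - 1) * (Nat.card K : ℝ) ^ 2) := by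
        rw [le_div_iff₀ (by (clear * - hQ h2; positivity)), one_mul]
        exact this
      linarith only [q1, this]

theorem sum_wt {X : Type*} [Group X] [Fintype X] {τ : X →* (V →ₗ[K] V)} {c : ℝ} (h : ELsh τ c) {a : K}
    (ha : a = 1 ∨ a = -1) (hc : 1 ≤ c) : ∑ x : X, wt (τ x) a ≤ 6 * c / Nat.card K * Nat.card X := by
  classical
  have hQ := two_le_q (K := K)
  have h1 : (0 : ℝ) < (Nat.card K : ℝ) ^ 2 - 1 := by nlinarith
  have h2 : (0 : ℝ) < (Nat.card K : ℝ) - 1 := by linarith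
  obtain ⟨e1, e3, e2⟩ := h a ha
  have hX : (0 : ℝ) ≤ Nat.card X := Nat.cast_nonneg _
  rw [← sum_ann] at e1 e3
  have k1 : ∑ x : X, nv (τ x) a 1 ≤ c * Nat.card K * Nat.card X := by
    simpa only [nv, pow_one] using e1
  have k3 : ∑ x : X, nv (τ x) a 3 ≤ c * Nat.card K ^ 2 * Nat.card X := e3
  have b1 : (∑ x : X, nv (τ x) a 1) / ((Nat.card K : ℝ) ^ 2 - 1) ≤ 2 * c / Nat.card K * Nat.card X := by
    rw [div_le_iff₀ h1]
    refine k1.trans ?_
    have : c * Nat.card K ≤ 2 * c / Nat.card K * ((Nat.card K : ℝ) ^ 2 - 1) := by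
      rw [div_mul_eq_mul_div, le_div_iff₀ (by linarith)]
      linarith only [mul_nonneg (show (0 : ℝ) ≤ c by linarith) (show (0 : ℝ) ≤ (Nat.card K : ℝ) ^ 2 - 2 by nlinarith)]
    calc _ ≤ 2 * c / Nat.card K * ((Nat.card K : ℝ) ^ 2 - 1) * Nat.card X := mul_le_mul_of_nonneg_right this hX
      _ = _ := by ring
  have b3 : (∑ x : X, nv (τ x) a 3) / (((Nat.card K : ℝ) - 1) * (Nat.card K : ℝ) ^ 2) ≤
      2 * c / Nat.card K * Nat.card X := by
    rw [div_le_iff₀ (by (clear * - hQ h2; positivity))]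
    refine k3.trans ?_
    have : c * (Nat.card K : ℝ) ^ 2 ≤ 2 * c / Nat.card K * (((Nat.card K : ℝ) - 1) * (Nat.card K : ℝ) ^ 2) := by
      rw [div_mul_eq_mul_div, le_div_iff₀ (by linarith only [hQ])]
      linarith only [mul_nonneg (show (0 : ℝ) ≤ c * (Nat.card K : ℝ) ^ 2 by positivity) (show (0 : ℝ) ≤ Nat.card K - 2 by linarith)]
    calc _ ≤ 2 * c / Nat.card K * (((Nat.card K : ℝ) - 1) * (Nat.card K : ℝ) ^ 2) * Nat.card X :=
          mul_le_mul_of_nonneg_right this hX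
      _ = _ := by ring
  have b2 : (2 : K) ≠ 0 → (∑ x : X, nv (τ x) a 2) / (((Nat.card K : ℝ) - 1) * Nat.card K) ≤
      2 * c / Nat.card K * Nat.card X := by
    intro h0
    have e2' := e2 h0
    rw [← sum_ann] at e2'
    have k2 : ∑ x : X, nv (τ x) a 2 ≤ c * Nat.card K * Nat.card X := e2'
    rw [div_le_iff₀ (by (clear * - hQ h2; positivity))]
    refine k2.trans ?_
    have : c * Nat.card K ≤ 2 * c / Nat.card K * (((Nat.card K : ℝ) - 1) * Nat.card K) := by
      rw [div_mul_eq_mul_div, le_div_iff₀ (by linarith only [hQ])]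
      linarith only [mul_nonneg (show (0 : ℝ) ≤ c * (Nat.card K : ℝ) by positivity) (show (0 : ℝ) ≤ Nat.card K - 2 by linarith)]
    calc _ ≤ 2 * c / Nat.card K * (((Nat.card K : ℝ) - 1) * Nat.card K) * Nat.card X :=
          mul_le_mul_of_nonneg_right this hX
      _ = _ := by ring
  have b0 : 0 ≤ 2 * c / Nat.card K * (Nat.card X : ℝ) := by (clear * - hc; positivity)
  unfold wt
  rw [Finset.sum_add_distrib, Finset.sum_add_distrib, ← Finset.sum_div, ← Finset.sum_div]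
  by_cases h0 : (2 : K) ≠ 0
  · simp only [if_pos h0]
    rw [← Finset.sum_div]
    have := b2 h0
    have : 6 * c / Nat.card K * (Nat.card X : ℝ) = 3 * (2 * c / Nat.card K * (Nat.card X : ℝ)) := by ring
    linarith
  · simp only [if_neg h0, Finset.sum_const_zero]
    have : 6 * c / Nat.card K * (Nat.card X : ℝ) = 3 * (2 * c / Nat.card K * (Nat.card X : ℝ)) := by ring
    linarith

theorem finrank_small (y : V →ₗ[K] V) (h : 2 < finrank K (smallP y (Sml 1 (Polynomial.X ^ 2 - 1)))) :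
    1 ≤ wt y 1 + wt y (-1) := by
  classical
  have w1 := wt_nonneg y (1 : K)
  have w2 := wt_nonneg y (-1 : K)
  have hm : ∀ f ∈ Sml 1 (Polynomial.X ^ 2 - 1 : K[X]), f = Polynomial.X - C 1 ∨ f = Polynomial.X - C (-1) := by
    rintro f ⟨hf, h | h⟩
    · exact absurd hf.2.1.natDegree_pos (by omega)
    · exact irr_dvd hf h
  by_cases h0 : (2 : K) = 0
  · have e : (-1 : K) = 1 := by linear_combination -h0
    have h1 := smallP_le y (S := Sml 1 (Polynomial.X ^ 2 - 1)) (T := {Polynomial.X - C 1}) (fun f hf => by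
      have := hm f hf
      rw [e] at this
      simpa only [_root_.map_one, _root_.Finset.mem_singleton, _root_.or_self] using this)
    rw [Finset.sum_singleton] at h1
    linarith only [w2, one_le_wt (y := y) (a := 1) (by omega) (Or.inr (by omega))]
  · have h1 := smallP_le y (S := Sml 1 (Polynomial.X ^ 2 - 1)) (T := {Polynomial.X - C 1, Polynomial.X - C (-1)})
      (fun f hf => by simpa only [_root_.map_one, _root_.map_neg, _root_.sub_neg_eq_add, _root_.Finset.mem_insert, _root_.Finset.mem_singleton] using hm f hf)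
    have hne : (Polynomial.X - C 1 : K[X]) ≠ Polynomial.X - C (-1) := by
      intro h2
      have h3 := C_injective (sub_right_injective h2)
      exact h0 (by linear_combination h3)
    rw [Finset.sum_pair hne] at h1
    rcases Nat.lt_or_ge (finrank K (kv y (Polynomial.X - C 1))) 2 with h2 | h2
    · linarith only [w1, one_le_wt (y := y) (a := -1) (by omega) (Or.inl h0)]
    · linarith only [w2, one_le_wt (y := y) (a := 1) h2 (Or.inl h0)]

end bounded

/-- small part, orthogonal groups of bounded rank -/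
theorem small_o : ∃ A : ℝ, 0 < A ∧ ∀ (K V : Type) [Field K] [Finite K] [AddCommGroup V] [Module K V] [Finite V] (X : Type) [Group X]
    [Finite X] (τ : X →* (V →ₗ[K] V)) (c : ℝ), 1 ≤ c → ELsh τ c →
    (Nat.card {x : X // 2 < finrank K (smallP (τ x) (Sml 1 (Polynomial.X ^ 2 - 1)))} : ℝ) ≤
      A * c / Nat.card K * Nat.card X := by
  refine ⟨12, by norm_num, fun K V _ _ _ _ _ X _ _ τ c hc h => ?_⟩
  classical
  have := Fintype.ofFinite X
  have h1 := sum_wt h (Or.inl rfl) hc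
  have h2 := sum_wt h (Or.inr rfl) hc
  have h3 : (Nat.card {x : X // 2 < finrank K (smallP (τ x) (Sml 1 (Polynomial.X ^ 2 - 1)))} : ℝ) ≤
      ∑ x : X, (wt (τ x) 1 + wt (τ x) (-1)) := by
    rw [Nat.card_eq_fintype_card, Fintype.card_subtype, Finset.card_eq_sum_ones, Nat.cast_sum]
    rw [Finset.sum_filter]
    refine Finset.sum_le_sum fun x _ => ?_
    split_ifs with hx
    · rw [Nat.cast_one]
      exact finrank_small _ hx
    · exact add_nonneg (wt_nonneg _ _) (wt_nonneg _ _)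
  rw [Finset.sum_add_distrib] at h3
  have : 12 * c / Nat.card K * (Nat.card X : ℝ) = 2 * (6 * c / Nat.card K * (Nat.card X : ℝ)) := by ring
  linarith

/-! ### unbounded rank -/

section unb

variable {K V : Type*} [Field K] [Finite K] [AddCommGroup V] [Module K V] [Finite V]

theorem ed_le (σ : K →+* K) {g : K[X]} (hg : g ≠ 0) : ed σ g ≤ g.natDegree := by
  classical
  unfold ed
  refine natDegree_le_of_dvd ?_ hg
  convert EuclideanDomain.gcd_dvd_left g (str σ g)

/-- `√q` -/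
noncomputable def rq (K : Type*) : ℝ := Real.sqrt (Nat.card K)

theorem rq_sq : rq K ^ 2 = Nat.card K := Real.sq_sqrt (Nat.cast_nonneg _)

theorem rq_ge : (4 : ℝ) / 3 ≤ rq K := by
  have hQ := two_le_q (K := K)
  exact Real.le_sqrt_of_sq_le (by linarith only [hQ])

theorem rq_pow (m : ℕ) : Real.sqrt ((Nat.card K : ℝ) ^ m) = rq K ^ m := by
  rw [← rq_sq (K := K), ← pow_mul, mul_comm, pow_mul, Real.sqrt_sq (pow_nonneg (show 0 ≤ rq K from Real.sqrt_nonneg _) _)]

/-- the terms of the sum in `sum_cyc` -/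
noncomputable def tt (σ : K →+* K) (d : ℕ) (f : K[X]) (j : ℕ) : ℝ :=
  Real.sqrt ((Nat.card K : ℝ) ^ ed σ (f ^ (j + 1))) / ((Nat.card K : ℝ) ^ (d * j) * ((Nat.card K : ℝ) ^ d - 1))

theorem tt_nonneg (σ : K →+* K) {d : ℕ} (hd : 1 ≤ d) (f : K[X]) (j : ℕ) : 0 ≤ tt σ d f j := by
  have hQ := two_le_q (K := K)
  have h1 : (1 : ℝ) < (Nat.card K : ℝ) ^ d := one_lt_pow₀ (by linarith) (by omega)
  exact div_nonneg (Real.sqrt_nonneg _) (mul_nonneg (by positivity) (by linarith))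

theorem sqrt_ed_le (σ : K →+* K) {f : K[X]} (hf : f ≠ 0) (j : ℕ) :
    Real.sqrt ((Nat.card K : ℝ) ^ ed σ (f ^ j)) ≤ rq K ^ (f.natDegree * j) := by
  have h1 := rq_ge (K := K)
  rw [rq_pow]
  refine pow_le_pow_right₀ (by linarith) ((ed_le σ (pow_ne_zero _ hf)).trans ?_)
  exact (natDegree_pow_le).trans (by rw [mul_comm])

theorem tt_summable (σ : K →+* K) {f : K[X]} (hf : f ≠ 0) (hd : 1 ≤ f.natDegree) : Summable (tt σ f.natDegree f) := by
  have hQ := two_le_q (K := K)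
  have hr := rq_ge (K := K)
  have h1 : (1 : ℝ) < (Nat.card K : ℝ) ^ f.natDegree := one_lt_pow₀ (by linarith only [hQ]) (by omega)
  have h2 : (1 : ℝ) < rq K ^ f.natDegree := one_lt_pow₀ (by linarith only [hr]) (by omega)
  have h3 : Summable fun j : ℕ => rq K ^ f.natDegree / ((Nat.card K : ℝ) ^ f.natDegree - 1) * (1 / rq K ^ f.natDegree) ^ j :=
    (summable_geometric_of_lt_one (by positivity) ((div_lt_one (by positivity)).2 h2)).mul_left _
  refine Summable.of_nonneg_of_le (fun j => tt_nonneg σ hd f j) (fun j => ?_) h3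
  have h4 := sqrt_ed_le σ hf (j + 1)
  have h5 : (0 : ℝ) < (Nat.card K : ℝ) ^ f.natDegree - 1 := by linarith only [h1]
  have h6 : rq K ^ (f.natDegree * (j + 1)) = rq K ^ f.natDegree * rq K ^ (f.natDegree * j) := by
    rw [← pow_add]; congr 1; ring
  have h7 : (Nat.card K : ℝ) ^ (f.natDegree * j) = rq K ^ (f.natDegree * j) * rq K ^ (f.natDegree * j) := by
    rw [← rq_sq, ← pow_mul, ← pow_add]; congr 1; ring
  have h8 : (0 : ℝ) < rq K ^ (f.natDegree * j) := by positivity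
  unfold tt
  rw [one_div, inv_pow, ← pow_mul]
  calc _ ≤ rq K ^ (f.natDegree * (j + 1)) / ((Nat.card K : ℝ) ^ (f.natDegree * j) * ((Nat.card K : ℝ) ^ f.natDegree - 1)) :=
        div_le_div_of_nonneg_right h4 (by (clear * - hQ h1; positivity))
    _ = _ := by
      rw [h6, h7]
      field_simp

/-- one step, one polynomial -/
theorem step_le {X : Type*} [Group X] [Fintype X] {σ : K →+* K} {τ : X →* (V →ₗ[K] V)} {s : K[X]} {c : ℕ → ℝ} {c1 : ℝ}
    (hc1 : 1 ≤ c1) (h1 : ∀ D, 2 * D < finrank K V → c D ≤ c1) (h2 : ∀ D, c D ≤ c1 * Nat.card K) (hE : EL σ τ s c)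
    {L : ℕ} (hL : 16 * L ≤ finrank K V) {f : K[X]} (hf : Irr' f) (hs : IsCoprime f s) (hd : f.natDegree < L) (j : ℕ) :
    ∑ x : X, ((kd (τ x) f (j + 1) - kd (τ x) f j : ℕ) : ℝ) ≤
      (c1 * (f.natDegree * tt σ f.natDegree f j) + 12 * c1 / (finrank K V * (Nat.card K : ℝ) ^ L)) * Nat.card X := by
  have hQ := two_le_q (K := K)
  have hr := rq_ge (K := K)
  have hdp := hf.2.1.natDegree_pos
  have hX : (0 : ℝ) ≤ Nat.card X := Nat.cast_nonneg _
  have hn : (0 : ℝ) < finrank K V := by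
    have : 0 < finrank K V := by omega
    exact_mod_cast this
  have h3 : (1 : ℝ) < (Nat.card K : ℝ) ^ f.natDegree := one_lt_pow₀ (by linarith only [hQ]) (by omega)
  have h4 : (0 : ℝ) < (Nat.card K : ℝ) ^ f.natDegree - 1 := by linarith only [h3]
  have h5 : (0 : ℝ) ≤ c1 * (f.natDegree * tt σ f.natDegree f j) := by
    have := tt_nonneg σ hdp f j
    (clear * - hc1 hdp this; positivity)
  have h6 : (0 : ℝ) ≤ 12 * c1 / (finrank K V * (Nat.card K : ℝ) ^ L) := by (clear * - hc1 hQ hn; positivity)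
  rcases Nat.lt_or_ge (finrank K V) (f.natDegree * (j + 1)) with h7 | h7
  · have h8 : ∀ x : X, kd (τ x) f (j + 1) - kd (τ x) f j = 0 := by
      intro x
      rcases eq_or_ne (kd (τ x) f j) (kd (τ x) f (j + 1)) with h | h
      · omega
      · obtain ⟨h9, h10⟩ := kd_step hf.2.1 hf.1 h
        have h11 := kd_le (τ x) f (j + 1)
        have : f.natDegree * (j + 1) = f.natDegree * j + f.natDegree := by ring
        omega
    simp only [h8, Nat.cast_zero, Finset.sum_const_zero]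
    (clear * - hc1 h5; positivity)
  have hdeg : (f ^ (j + 1)).natDegree = f.natDegree * (j + 1) := by rw [natDegree_pow, mul_comm]
  have h8 := hE (f ^ (j + 1)) (hf.1.pow _) (by
    rw [coeff_zero_eq_eval_zero, eval_pow]
    refine pow_ne_zero _ fun h0 => hf.2.2 ?_
    have h9 : (Polynomial.X : K[X]) ∣ f := by
      rw [X_dvd_iff, coeff_zero_eq_eval_zero]; exact h0
    exact (eq_of_monic_of_associated hf.1 monic_X (irreducible_X.associated_of_dvd hf.2.1 h9).symm)) hs.pow_left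
  rw [hdeg] at h8
  rcases Nat.lt_or_ge (2 * (f.natDegree * (j + 1))) (finrank K V) with h9 | h9
  · have h10 : (Nat.card {p : X × V // Ann (τ p.1) p.2 (f ^ (j + 1))} : ℝ) ≤
        c1 * Real.sqrt ((Nat.card K : ℝ) ^ ed σ (f ^ (j + 1))) * Nat.card X :=
      h8.trans (mul_le_mul_of_nonneg_right (mul_le_mul_of_nonneg_right (h1 _ h9) (Real.sqrt_nonneg _)) hX)
    refine (avg_step τ hf.2.1 hf.1 j h10).trans ?_
    rw [add_mul]
    refine le_trans (le_of_eq ?_) (le_add_of_nonneg_right (mul_nonneg h6 hX))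
    unfold tt
    ring
  · have h10 : (Nat.card {p : X × V // Ann (τ p.1) p.2 (f ^ (j + 1))} : ℝ) ≤
        c1 * Nat.card K * rq K ^ (f.natDegree * (j + 1)) * Nat.card X := by
      refine h8.trans (mul_le_mul_of_nonneg_right ?_ hX)
      exact mul_le_mul (h2 _) (sqrt_ed_le σ hf.1.ne_zero _) (Real.sqrt_nonneg _) (by (clear * - hc1 hQ; positivity))
    refine (avg_step τ hf.2.1 hf.1 j h10).trans ?_
    rw [add_mul]
    refine le_trans ?_ (le_add_of_nonneg_left (mul_nonneg h5 hX))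
    -- the numerical estimate
    set m := f.natDegree * (j + 1) with hm
    obtain ⟨a, ha⟩ : ∃ a, m = a + (2 * L + 2) := ⟨m - (2 * L + 2), by omega⟩
    have k1 : finrank K V ≤ 4 * a := by omega
    have k2 : (f.natDegree * finrank K V : ℝ) ≤ 6 * rq K ^ a := by
      refine le_trans ?_ (sq_le_pow (by linarith only [hr]) (by rw [rq_sq]; exact hQ) a)
      have k3 : 4 * f.natDegree ≤ a := by omega
      have k4 : f.natDegree * finrank K V ≤ a ^ 2 := by nlinarith only [hL, hd, h9, ha]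
      exact_mod_cast k4
    have k5 : (Nat.card K : ℝ) ^ (f.natDegree * j) * ((Nat.card K : ℝ) ^ f.natDegree - 1) ≥ rq K ^ m * rq K ^ m / 2 := by
      have k6 : rq K ^ m * rq K ^ m = (Nat.card K : ℝ) ^ (f.natDegree * j) * (Nat.card K : ℝ) ^ f.natDegree := by
        rw [← rq_sq, ← pow_mul, ← pow_mul, ← pow_add, ← pow_add, hm]; congr 1; ring
      have k7 : (2 : ℝ) ≤ (Nat.card K : ℝ) ^ f.natDegree := hQ.trans (le_self_pow₀ (by linarith only [hQ]) (by omega))
      rw [k6]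
      have k8 : (0 : ℝ) < (Nat.card K : ℝ) ^ (f.natDegree * j) := by (clear * - hQ; positivity)
      nlinarith only [h3, k6, k7]
    have k9 : rq K ^ m = rq K ^ a * ((Nat.card K : ℝ) ^ L * Nat.card K) := by
      rw [← rq_sq, ← pow_mul, ← pow_add, ← pow_add, ha]
    have k10 : (0 : ℝ) < rq K ^ m := by positivity
    have k11 : (0 : ℝ) < (Nat.card K : ℝ) ^ (f.natDegree * j) * ((Nat.card K : ℝ) ^ f.natDegree - 1) := by (clear * - hQ h3; positivity)
    rw [div_mul_eq_mul_div, div_le_div_iff₀ k11 (by (clear * - hQ hn; positivity))]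
    have k12 : f.natDegree * (finrank K V : ℝ) * ((Nat.card K : ℝ) ^ L * Nat.card K) ≤ 6 * rq K ^ m := by
      rw [k9]
      calc _ ≤ (6 * rq K ^ a) * ((Nat.card K : ℝ) ^ L * Nat.card K) := mul_le_mul_of_nonneg_right k2 (by (clear * - hQ; positivity))
        _ = _ := by ring
    calc _ = (c1 * rq K ^ m * Nat.card X) * (f.natDegree * (finrank K V : ℝ) * ((Nat.card K : ℝ) ^ L * Nat.card K)) := by
          ring
      _ ≤ (c1 * rq K ^ m * Nat.card X) * (6 * rq K ^ m) := mul_le_mul_of_nonneg_left k12 (by (clear * - hc1 hr; positivity))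
      _ = 12 * c1 * Nat.card X * (rq K ^ m * rq K ^ m / 2) := by ring
      _ ≤ _ := mul_le_mul_of_nonneg_left k5 (by (clear * - hc1; positivity))

/-- `X - a` -/
theorem pm_step {X : Type*} [Group X] [Fintype X] {τ : X →* (V →ₗ[K] V)} {c : ℕ → ℝ} {c1 : ℝ}
    (hc1 : 1 ≤ c1) (h1 : ∀ D, 2 * D < finrank K V → c D ≤ c1) (h2 : ∀ D, c D ≤ c1 * Nat.card K) (hE : ELpm τ c)
    (hn : 16 ≤ finrank K V) {a : K} (ha : a = 1 ∨ a = -1) (j : ℕ) :
    ∑ x : X, ((kd (τ x) (Polynomial.X - C a) (j + 1) - kd (τ x) (Polynomial.X - C a) j : ℕ) : ℝ) ≤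
      15 * c1 * (3 / 4) ^ j * Nat.card X := by
  have hQ := two_le_q (K := K)
  have hr := rq_ge (K := K)
  have hX : (0 : ℝ) ≤ Nat.card X := Nat.cast_nonneg _
  have h3 := hE (j + 1) a (by omega) ha
  rw [rq_pow] at h3
  have hr0 : (0 : ℝ) < rq K := by linarith only [hr]
  rcases Nat.lt_or_ge j 4 with hj | hj
  · -- the small steps
    have h4 : ∀ x : X, ((kd (τ x) (Polynomial.X - C a) (j + 1) - kd (τ x) (Polynomial.X - C a) j : ℕ) : ℝ) ≤
        2 + 4 / ((Nat.card K : ℝ) ^ 2 * (Nat.card K : ℝ) ^ j) * Nat.card {v : V // Ann (τ x) v ((Polynomial.X - C a) ^ (j + 1))} := by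
      intro x
      have h5 := count_ge (y := τ x) (irr_sub a) (monic_X_sub_C a) j
      rw [natDegree_X_sub_C, one_mul] at h5
      generalize kd (τ x) (Polynomial.X - C a) (j + 1) - kd (τ x) (Polynomial.X - C a) j = l at h5 ⊢
      have h6 : (l : ℝ) ≤ 2 + 4 / (Nat.card K : ℝ) ^ 2 * ((Nat.card K : ℝ) ^ l - 1) := by
        rcases Nat.lt_or_ge l 3 with hl | hl
        · have h7 : (l : ℝ) ≤ 2 := by exact_mod_cast (show l ≤ 2 by omega)
          have h8 : (1 : ℝ) ≤ (Nat.card K : ℝ) ^ l := one_le_pow₀ (by linarith only [hQ])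
          have h9 : (0 : ℝ) ≤ 4 / (Nat.card K : ℝ) ^ 2 * ((Nat.card K : ℝ) ^ l - 1) :=
            mul_nonneg (by positivity) (by linarith only [h8])
          linarith only [h7, h9]
        · obtain ⟨i, rfl⟩ := Nat.exists_eq_add_of_le hl
          have h7 : (3 + i : ℕ) ≤ 2 + 2 * 2 ^ i := by
            have := Nat.lt_two_pow_self (n := i)
            omega
          have h7' : ((3 + i : ℕ) : ℝ) ≤ 2 + 2 * 2 ^ i := by exact_mod_cast h7
          have h8 : (2 : ℝ) ^ i ≤ (Nat.card K : ℝ) ^ i := pow_le_pow_left₀ (by norm_num) hQ i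
          have h9 : 2 * (Nat.card K : ℝ) ^ i ≤ 4 / (Nat.card K : ℝ) ^ 2 * ((Nat.card K : ℝ) ^ (3 + i) - 1) := by
            rw [div_mul_eq_mul_div, le_div_iff₀ (by positivity)]
            have h10 : (1 : ℝ) ≤ (Nat.card K : ℝ) ^ i := one_le_pow₀ (by linarith only [hQ])
            have h11 : (Nat.card K : ℝ) ^ (3 + i) = (Nat.card K : ℝ) ^ 2 * Nat.card K * (Nat.card K : ℝ) ^ i := by ring
            rw [h11]
            have h12 : (4 : ℝ) ≤ (Nat.card K : ℝ) ^ 2 := by nlinarith only [hQ]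
            have h13 : (4 : ℝ) * 1 ≤ (Nat.card K : ℝ) ^ 2 * (Nat.card K : ℝ) ^ i := mul_le_mul h12 h10 zero_le_one (by positivity)
            nlinarith only [hQ, h12, h13]
          linarith only [h7', h8, h9]
      refine h6.trans ?_
      have h7 : 4 / ((Nat.card K : ℝ) ^ 2 * (Nat.card K : ℝ) ^ j) * (((Nat.card K : ℝ) ^ l - 1) * (Nat.card K : ℝ) ^ j) =
          4 / (Nat.card K : ℝ) ^ 2 * ((Nat.card K : ℝ) ^ l - 1) := by field_simp
      rw [← h7]
      exact add_le_add_right (mul_le_mul_of_nonneg_left h5 (by (clear * - hQ; positivity))) _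
    refine (Finset.sum_le_sum fun x _ => h4 x).trans ?_
    rw [Finset.sum_add_distrib, ← Finset.mul_sum, sum_ann, Finset.sum_const, Finset.card_univ, nsmul_eq_mul,
      ← Nat.card_eq_fintype_card]
    have h5 : 4 / ((Nat.card K : ℝ) ^ 2 * (Nat.card K : ℝ) ^ j) *
        (Nat.card {p : X × V // Ann (τ p.1) p.2 ((Polynomial.X - C a) ^ (j + 1))} : ℝ) ≤ 4 * c1 * Nat.card X := by
      have h6 : c (j + 1) ≤ c1 := h1 _ (by omega)
      calc _ ≤ 4 / ((Nat.card K : ℝ) ^ 2 * (Nat.card K : ℝ) ^ j) * (c1 * (Nat.card K * rq K ^ (j + 1)) * Nat.card X) := by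
            refine mul_le_mul_of_nonneg_left (h3.trans ?_) (by (clear * - hQ; positivity))
            exact mul_le_mul_of_nonneg_right (mul_le_mul_of_nonneg_right h6 (by positivity)) hX
        _ = 4 * c1 * Nat.card X * (rq K ^ (j + 1) / ((Nat.card K : ℝ) * (Nat.card K : ℝ) ^ j)) := by
            field_simp
        _ ≤ 4 * c1 * Nat.card X * 1 := by
            refine mul_le_mul_of_nonneg_left ?_ (by (clear * - hc1; positivity))
            rw [div_le_one (by positivity), ← pow_succ', ← rq_sq, ← pow_mul]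
            exact pow_le_pow_right₀ (by linarith only [hr]) (by omega)
        _ = _ := by ring
    have h6 : (27 / 64 : ℝ) ≤ (3 / 4) ^ j := by
      calc (27 / 64 : ℝ) = (3 / 4) ^ 3 := by norm_num
        _ ≤ _ := pow_le_pow_of_le_one (by norm_num) (by norm_num) (by omega)
    have h7 : (Nat.card X : ℝ) * 2 ≤ 2 * c1 * Nat.card X := by nlinarith only [hc1]
    have h8 : 6 * c1 * (Nat.card X : ℝ) ≤ 15 * c1 * (3 / 4) ^ j * Nat.card X := by
      have : (0 : ℝ) ≤ c1 * Nat.card X := by (clear * - hc1; positivity)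
      nlinarith only [h6, h7]
    linarith only [h5, h7, h8]
  · have h4 := avg_step τ (irr_sub a) (monic_X_sub_C a) j h3
    refine h4.trans ?_
    rw [natDegree_X_sub_C, Nat.cast_one, one_mul, one_mul, pow_one]
    obtain ⟨i, rfl⟩ := Nat.exists_eq_add_of_le (show 3 ≤ j by omega)
    have h5 : c (3 + i + 1) * (Nat.card K * rq K ^ (3 + i + 1)) * Nat.card X / ((Nat.card K : ℝ) ^ (3 + i) * (Nat.card K - 1)) ≤
        2 * c1 * Nat.card X * (1 / rq K) ^ i := by
      rw [div_le_iff₀ (mul_pos (by positivity) (by linarith only [hQ]))]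
      have h6 : (Nat.card K : ℝ) ^ (3 + i) = rq K ^ i * (rq K ^ i * rq K ^ 6) := by
        rw [← rq_sq]; ring
      have h7 : (1 / rq K) ^ i * ((Nat.card K : ℝ) ^ (3 + i) * (Nat.card K - 1)) = rq K ^ i * rq K ^ 6 * (Nat.card K - 1) := by
        rw [h6, one_div, inv_pow]
        field_simp
      have h8 : (Nat.card K : ℝ) ≤ 2 * (Nat.card K - 1) := by linarith only [hQ]
      calc _ ≤ c1 * Nat.card K * (Nat.card K * rq K ^ (3 + i + 1)) * Nat.card X :=
            mul_le_mul_of_nonneg_right (mul_le_mul_of_nonneg_right (h2 _) (by positivity)) hX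
        _ = c1 * Nat.card X * (rq K ^ i * rq K ^ 6) * Nat.card K := by
            rw [← rq_sq]; ring
        _ ≤ c1 * Nat.card X * (rq K ^ i * rq K ^ 6) * (2 * (Nat.card K - 1)) := mul_le_mul_of_nonneg_left h8 (by (clear * - hc1 hr; positivity))
        _ = 2 * c1 * Nat.card X * (rq K ^ i * rq K ^ 6 * (Nat.card K - 1)) := by ring
        _ = 2 * c1 * Nat.card X * ((1 / rq K) ^ i * ((Nat.card K : ℝ) ^ (3 + i) * (Nat.card K - 1))) := by rw [h7]
        _ = _ := by ring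
    refine h5.trans ?_
    have h6 : (1 / rq K) ^ i ≤ (3 / 4) ^ i := by
      refine pow_le_pow_left₀ (by positivity) ?_ i
      rw [div_le_iff₀ hr0]
      linarith only [hr]
    calc _ ≤ 2 * c1 * Nat.card X * (3 / 4) ^ i := mul_le_mul_of_nonneg_left h6 (by (clear * - hc1; positivity))
      _ ≤ 15 * c1 * (3 / 4) ^ 3 * Nat.card X * (3 / 4) ^ i := by
          refine mul_le_mul_of_nonneg_right ?_ (by positivity)
          have : (0 : ℝ) ≤ c1 * Nat.card X := by positivity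
          linarith only [this]
      _ = _ := by ring

/-- the primary components for `X - a` -/
theorem pm_sum {X : Type*} [Group X] [Fintype X] {τ : X →* (V →ₗ[K] V)} {c : ℕ → ℝ} {c1 : ℝ}
    (hc1 : 1 ≤ c1) (h1 : ∀ D, 2 * D < finrank K V → c D ≤ c1) (h2 : ∀ D, c D ≤ c1 * Nat.card K) (hE : ELpm τ c)
    (hn : 16 ≤ finrank K V) {a : K} (ha : a = 1 ∨ a = -1) :
    ∑ x : X, (finrank K (kv (τ x) (Polynomial.X - C a)) : ℝ) ≤ 60 * c1 * Nat.card X := by
  refine (Finset.sum_le_sum fun x _ => kv_sum (irr_sub a) (monic_X_sub_C a) le_rfl).trans ?_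
  rw [Finset.sum_comm]
  refine (Finset.sum_le_sum fun j _ => pm_step hc1 h1 h2 hE hn ha j).trans ?_
  rw [← Finset.sum_mul, ← Finset.mul_sum]
  have h3 : ∑ j ∈ Finset.range (finrank K V), (3 / 4 : ℝ) ^ j ≤ 4 := by
    have h4 := Summable.sum_le_tsum (Finset.range (finrank K V)) (fun i _ => by positivity)
      (summable_geometric_of_lt_one (show (0 : ℝ) ≤ 3 / 4 by norm_num) (by norm_num))
    rw [tsum_geometric_of_lt_one (by norm_num) (by norm_num)] at h4
    exact h4.trans (by norm_num)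
  have h4 : (0 : ℝ) ≤ 15 * c1 * Nat.card X := by positivity
  nlinarith only [h3, h4]

end unb

/-- small part, unbounded rank, from the sum over the irreducible polynomials -/
theorem small_le_of (hcyc : ∃ A : ℝ, 0 < A ∧ ∀ (K : Type) [Field K] [Finite K] (σ : K →+* K), (∀ x, σ (σ x) = x) →
      ∀ d : ℕ, 1 ≤ d →
      (∑ᶠ f ∈ {f : K[X] | Irr' f ∧ f.natDegree = d}, (d : ℝ) * ∑' j : ℕ, Real.sqrt ((Nat.card K : ℝ) ^ ed σ (f ^ (j + 1))) /
        ((Nat.card K : ℝ) ^ (d * j) * ((Nat.card K : ℝ) ^ d - 1))) ≤ A) :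
    ∃ A : ℝ, 0 < A ∧ ∀ (K V : Type) [Field K] [Finite K] [AddCommGroup V] [Module K V] [Finite V] (X : Type) [Group X]
    [Finite X] (σ : K →+* K), (∀ x, σ (σ x) = x) → ∀ (τ : X →* (V →ₗ[K] V)) (s : K[X]), (s = 1 ∨ s = Polynomial.X ^ 2 - 1) →
    ∀ (c : ℕ → ℝ) (c1 : ℝ), 1 ≤ c1 → (∀ D, 2 * D < finrank K V → c D ≤ c1) → (∀ D, c D ≤ c1 * Nat.card K) →
    EL σ τ s c → (s ≠ 1 → ELpm τ c) → ∀ L : ℕ, 1 ≤ L → 16 * L ≤ finrank K V →
    (∑ᶠ x : X, (finrank K (smallP (τ x) (Sml L s)) : ℝ)) ≤ A * c1 * L * Nat.card X := by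
  classical
  obtain ⟨A, hA, hcyc⟩ := hcyc
  refine ⟨A + 132, by linarith, fun K V _ _ _ _ _ X _ _ σ hσ τ s hs c c1 hc1 h1 h2 hE hpm L hL hn => ?_⟩
  have := Fintype.ofFinite X
  have hQ := two_le_q (K := K)
  have hX : (0 : ℝ) ≤ Nat.card X := Nat.cast_nonneg _
  rw [finsum_eq_sum_of_fintype]
  -- the finite sets of polynomials
  have hfin : ∀ m : ℕ, Finite (degreeLT K m) := fun m => Finite.of_equiv _ (degreeLTEquiv K m).toEquiv.symm
  have hmem : ∀ (m : ℕ) (f : K[X]), f ≠ 0 → f.natDegree < m → f ∈ degreeLT K m := fun m f h0 hf => by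
    rw [mem_degreeLT, degree_eq_natDegree h0]
    exact_mod_cast hf
  have hf1 : {f : K[X] | Irr' f ∧ IsCoprime f s ∧ f.natDegree < L}.Finite :=
    (Set.toFinite (degreeLT K L : Set K[X])).subset fun f hf => hmem L f hf.1.1.ne_zero hf.2.2
  have hf2 : ∀ d : ℕ, {f : K[X] | Irr' f ∧ f.natDegree = d}.Finite := fun d =>
    (Set.toFinite (degreeLT K (d + 1) : Set K[X])).subset fun f hf => hmem (d + 1) f hf.1.1.ne_zero (by
      have := hf.2
      omega)
  set T1 := hf1.toFinset with hT1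
  have hcard : (T1.card : ℝ) ≤ (Nat.card K : ℝ) ^ L := by
    have h3 : T1.card ≤ Nat.card (degreeLT K L) := by
      rw [hT1, ← Set.ncard_eq_toFinset_card _ hf1]
      exact Set.ncard_le_ncard (fun f hf => hmem L f hf.1.1.ne_zero hf.2.2) (Set.toFinite (degreeLT K L : Set K[X]))
    have h4 : Nat.card (degreeLT K L) = Nat.card K ^ L := by
      rw [Nat.card_congr (degreeLTEquiv K L).toEquiv, Nat.card_fun, Nat.card_fin]
    rw [h4] at h3
    exact_mod_cast h3
  set T2 : Finset K[X] := if s = 1 then ∅ else {Polynomial.X - C 1, Polynomial.X - C (-1)} with hT2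
  have hne : (Polynomial.X ^ 2 - 1 : K[X]) ≠ 1 := by
    intro h3
    have h4 := congrArg natDegree h3
    rw [← C_1, natDegree_X_pow_sub_C, natDegree_C] at h4
    omega
  have hS : ∀ f ∈ Sml L s, f ∈ T1 ∪ T2 := by
    rintro f ⟨hf, h⟩
    rw [Finset.mem_union, hT1, Set.Finite.mem_toFinset]
    by_cases hfs : f ∣ s
    · right
      rcases hs with rfl | rfl
      · exact absurd (isUnit_of_dvd_one hfs) hf.2.1.not_isUnit
      · rw [hT2, if_neg hne]
        simpa only [_root_.map_one, _root_.map_neg, _root_.sub_neg_eq_add, _root_.Finset.mem_insert, _root_.Finset.mem_singleton] using irr_dvd hf hfs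
    · exact Or.inl ⟨hf, hf.2.1.coprime_iff_not_dvd.2 hfs, h.resolve_right hfs⟩
  have h3 : ∀ x : X, (finrank K (smallP (τ x) (Sml L s)) : ℝ) ≤
      ∑ f ∈ T1, (finrank K (kv (τ x) f) : ℝ) + ∑ f ∈ T2, (finrank K (kv (τ x) f) : ℝ) := by
    intro x
    have h4 := smallP_le (τ x) hS
    have h5 := Finset.sum_union_inter (s₁ := T1) (s₂ := T2) (f := fun f => finrank K (kv (τ x) f))
    have h6 : finrank K (smallP (τ x) (Sml L s)) ≤ ∑ f ∈ T1, finrank K (kv (τ x) f) + ∑ f ∈ T2, finrank K (kv (τ x) f) := by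
      omega
    exact_mod_cast h6
  refine (Finset.sum_le_sum fun x _ => h3 x).trans ?_
  rw [Finset.sum_add_distrib, Finset.sum_comm, Finset.sum_comm (t := T2)]
  -- the second part
  have hL1 : (1 : ℝ) ≤ L := by exact_mod_cast hL
  have p2 : ∑ f ∈ T2, ∑ x : X, (finrank K (kv (τ x) f) : ℝ) ≤ 120 * c1 * Nat.card X := by
    by_cases h1s : s = 1
    · rw [hT2, if_pos h1s, Finset.sum_empty]
      (clear * - hc1; positivity)
    · have hn' : 16 ≤ finrank K V := by omega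
      have q1 := pm_sum hc1 h1 h2 (hpm h1s) hn' (a := 1) (Or.inl rfl)
      have q2 := pm_sum hc1 h1 h2 (hpm h1s) hn' (a := -1) (Or.inr rfl)
      rw [hT2, if_neg h1s]
      by_cases he : (Polynomial.X - C 1 : K[X]) = Polynomial.X - C (-1)
      · rw [← he, Finset.pair_eq_singleton, Finset.sum_singleton]
        refine q1.trans ?_
        have : (0 : ℝ) ≤ c1 * Nat.card X := by (clear * - hc1; positivity)
        linarith only [this]
      · rw [Finset.sum_pair he]
        linarith only [q1, q2]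
  -- the first part
  have hn0 : (0 : ℝ) < finrank K V := by
    have : 0 < finrank K V := by omega
    exact_mod_cast this
  have p1 : ∑ f ∈ T1, ∑ x : X, (finrank K (kv (τ x) f) : ℝ) ≤ (A * c1 * L + 12 * c1) * Nat.card X := by
    have q1 : ∀ f ∈ T1, ∑ x : X, (finrank K (kv (τ x) f) : ℝ) ≤
        (c1 * (f.natDegree * ∑' j : ℕ, tt σ f.natDegree f j) + 12 * c1 / (Nat.card K : ℝ) ^ L) * Nat.card X := by
      intro f hf
      rw [hT1, Set.Finite.mem_toFinset] at hf
      obtain ⟨hf, hfs, hfL⟩ := hf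
      refine (Finset.sum_le_sum fun x _ => kv_sum hf.2.1 hf.1 le_rfl).trans ?_
      rw [Finset.sum_comm]
      refine (Finset.sum_le_sum fun j _ => step_le hc1 h1 h2 hE hn hf hfs hfL j).trans ?_
      rw [← Finset.sum_mul, Finset.sum_add_distrib, ← Finset.mul_sum, ← Finset.mul_sum, Finset.sum_const,
        Finset.card_range, nsmul_eq_mul]
      refine mul_le_mul_of_nonneg_right (add_le_add ?_ (le_of_eq ?_)) hX
      · refine mul_le_mul_of_nonneg_left (mul_le_mul_of_nonneg_left ?_ (Nat.cast_nonneg _)) (by linarith only [hc1])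
        exact Summable.sum_le_tsum _ (fun j _ => tt_nonneg σ hf.2.1.natDegree_pos f j)
          (tt_summable σ hf.1.ne_zero hf.2.1.natDegree_pos)
      · field_simp
    refine (Finset.sum_le_sum q1).trans ?_
    rw [← Finset.sum_mul, Finset.sum_add_distrib, ← Finset.mul_sum, Finset.sum_const, nsmul_eq_mul]
    refine mul_le_mul_of_nonneg_right (add_le_add ?_ ?_) hX
    · have q2 : ∑ f ∈ T1, (f.natDegree * ∑' j : ℕ, tt σ f.natDegree f j : ℝ) ≤ ∑ d ∈ Finset.range L, A := by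
        rw [← Finset.sum_fiberwise_of_maps_to (s := T1) (t := Finset.range L) (g := fun f => f.natDegree) (fun f hf => by
          rw [hT1, Set.Finite.mem_toFinset] at hf
          exact Finset.mem_range.2 hf.2.2)]
        refine Finset.sum_le_sum fun d _ => ?_
        rcases Nat.eq_zero_or_pos d with rfl | hd
        · rw [Finset.sum_eq_zero]
          · exact hA.le
          · intro f hf
            rw [Finset.mem_filter, hT1, Set.Finite.mem_toFinset] at hf
            exact absurd hf.1.1.2.1.natDegree_pos (by omega)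
        · refine le_trans ?_ (hcyc K σ hσ d hd)
          rw [finsum_mem_eq_finite_toFinset_sum _ (hf2 d)]
          have q3 : ∀ f ∈ T1.filter (fun f => f.natDegree = d), (f.natDegree * ∑' j : ℕ, tt σ f.natDegree f j : ℝ) =
              (d : ℝ) * ∑' j : ℕ, tt σ d f j := by
            intro f hf
            rw [(Finset.mem_filter.1 hf).2]
          rw [Finset.sum_congr rfl q3]
          refine Finset.sum_le_sum_of_subset_of_nonneg ?_ ?_
          · intro f hf
            rw [Finset.mem_filter, hT1, Set.Finite.mem_toFinset] at hf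
            rw [Set.Finite.mem_toFinset]
            exact ⟨hf.1.1, hf.2⟩
          · intro f _ _
            exact mul_nonneg (Nat.cast_nonneg _) (tsum_nonneg fun j => tt_nonneg σ hd f j)
      rw [Finset.sum_const, Finset.card_range, nsmul_eq_mul] at q2
      calc _ ≤ c1 * (L * A) := mul_le_mul_of_nonneg_left q2 (by linarith only [hc1])
        _ = _ := by ring
    · rw [mul_div_assoc', div_le_iff₀ (by positivity)]
      linarith only [mul_le_mul_of_nonneg_right hcard (show (0 : ℝ) ≤ 12 * c1 by linarith)]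
  have h4 : (0 : ℝ) ≤ c1 * Nat.card X := by (clear * - hc1; positivity)
  linarith only [p2, p1, mul_le_mul_of_nonneg_right hL1 h4]

end Cfsg.Agent.H5.Rg
end

private theorem dce_9e6bd321d758 : _root_.True := by
  try have : _root_.True := by simp only [_root_.Cfsg.Agent.H5.Rg.kd.eq_1]
  try have : _root_.True := by simp only [_root_.Cfsg.Agent.H5.Rg.nv.eq_1]
  exact _root_.True.intro
end
end
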